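import Cfsg.Agent.Lib.LocalEven.BenderSplit.Basic
import Cfsg.Agent.Lib.RankOne.Split.Bender
import Cfsg.Agent.Lib.OddOrder.Final.Main
import Cfsg.Prelude.Def_ClassificationStages

/-!
# Consequences of the splitting theorem

The theorem on least counterexamples is kept as the hypothesis `SplitMin`: it gives splitting for all
core-free configurations, the rank-one set-up, solvability of strongly embedded subgroups in 2-rank at
least two, and double transitivity of Suzuki type for simple groups.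
-/

set_option autoImplicit false
set_option linter.style.haveILetI false

namespace CfsgLib.LocalEven.BenderSplit

open Subgroup MulAction CfsgLib.Involution.Dihedral CfsgLib.Involution

universe u

/-- Every least configuration splits. -/
def SplitMin : Prop :=
  ∀ (G : Type u) [Group G] [Finite G] (H : Subgroup G), MinSplit H → HasSplit H

theorem splitBelow_of_min (hmin : SplitMin.{u}) (n : ℕ) : SplitBelow.{u} n := by
  induction n with
  | zero => intro G _ _ H hG; exact absurd hG (Nat.not_lt_zero _)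
  | succ n ih =>
    intro G _ _ H hG hH hcomm hcore
    exact hmin G H (MinSplit.mk' hH hcomm hcore (ih.mono (Nat.lt_succ_iff.1 hG)))

variable {G : Type u} [Group G] [Finite G] {H : Subgroup G}

theorem hasSplit_of_min (hmin : SplitMin.{u}) (hH : Cfsg.IsStronglyEmbedded H)
    (hcomm : ∃ x y : G, orderOf x = 2 ∧ orderOf y = 2 ∧ x ≠ y ∧ Commute x y)
    (hcore : H.normalCore = ⊥) : HasSplit H :=
  splitBelow_of_min hmin (Nat.card G + 1) G H (Nat.lt_succ_self _) hH hcomm hcore

omit [Finite G] in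
theorem orderOf_pair
    (h4 : ∃ x y : G, x ≠ 1 ∧ y ≠ 1 ∧ x ≠ y ∧ x * x = 1 ∧ y * y = 1 ∧ x * y = y * x) :
    ∃ x y : G, orderOf x = 2 ∧ orderOf y = 2 ∧ x ≠ y ∧ Commute x y := by
  obtain ⟨x, y, hx, hy, hxy, hxx, hyy, hc⟩ := h4
  exact ⟨x, y, orderOf_eq_two hxx hx, orderOf_eq_two hyy hy, hxy, hc⟩

theorem exists_involution_not_mem (hH : Cfsg.IsStronglyEmbedded H) (hcore : H.normalCore = ⊥) :
    ∃ t : G, t ∉ H ∧ orderOf t = 2 := by
  by_contra hno
  push Not at hno
  obtain ⟨z, hzH, hz⟩ := Basic.exists_involution_of_even H hH.2.1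
  have hle : normalClosure {z} ≤ H := by
    rw [normalClosure, closure_le]
    intro y hy
    obtain ⟨w, hw, hwy⟩ := Group.mem_conjugatesOfSet_iff.mp hy
    rw [Set.mem_singleton_iff] at hw
    subst hw
    obtain ⟨g, rfl⟩ := isConj_iff.mp hwy
    by_contra hyH
    exact hno (g * w * g⁻¹) hyH (((MulAut.conj g).orderOf_eq w).trans hz)
  have h1 : z ∈ H.normalCore :=
    normal_le_normalCore.mpr hle (subset_normalClosure (Set.mem_singleton z))
  rw [hcore, mem_bot] at h1
  rw [h1, orderOf_one] at hz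
  exact absurd hz (by norm_num)

omit [Finite G] in
theorem conj_mem_of_le_normalizer {T : Subgroup G} (hN : H ≤ normalizer (T : Set G)) {h x : G}
    (hh : h ∈ H) (hx : x ∈ T) : h * x * h⁻¹ ∈ T :=
  BenderTransitive.conj_mem_of_mem_normalizer (hN hh) hx

theorem eq_one_of_split {T : Subgroup G} (hH : Cfsg.IsStronglyEmbedded H) (hTH : T ≤ H)
    (hT : IsPGroup 2 T) {t g : G} (ht : t ∈ T) (hg : g ∉ H) (h : g⁻¹ * (t * g) ∈ H) : t = 1 := by
  refine eq_one_of_pgroup_fixed hH hT ht (a := ((1 : G) : G ⧸ H)) (b := (g : G ⧸ H)) ?_ ?_ ?_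
  · rw [ne_eq, QuotientGroup.eq, inv_one, one_mul]; exact hg
  · rw [SE.fixes_mk_iff]; simpa using hTH ht
  · rw [SE.fixes_mk_iff, mul_assoc]; exact h

/-- The rank-one set-up of a core-free strongly embedded subgroup in 2-rank at least two. -/
theorem exists_setup_of_min (hmin : SplitMin.{u}) (hH : Cfsg.IsStronglyEmbedded H)
    (hcore : H.normalCore = ⊥)
    (hcomm : ∃ x y : G, orderOf x = 2 ∧ orderOf y = 2 ∧ x ≠ y ∧ Commute x y) :
    ∃ (t : G) (Q : Subgroup G), Cfsg.IsRankOneSetup G (G ⧸ H) ((1 : G) : G ⧸ H) t Q := by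
  obtain ⟨T, hTH, hT, hN, htr⟩ := hasSplit_of_min hmin hH hcomm hcore
  obtain ⟨t, htH, ht⟩ := exists_involution_not_mem hH hcore
  set a : G ⧸ H := ((1 : G) : G ⧸ H) with ha
  have hA : stabilizer G a = H := stabilizer_quotient H
  have hta : t • a = ((t : G) : G ⧸ H) := by
    rw [ha, MulAction.Quotient.smul_mk, smul_eq_mul, mul_one]
  have hne : ∀ {g : G}, g ∉ H → ((g : G) : G ⧸ H) ≠ a := fun {g} hg => by
    rw [ha, ne_eq, QuotientGroup.eq, mul_one, inv_mem_iff]; exact hg
  have hTa : ∀ u ∈ T, u • a = a := fun u hu => (hA.symm ▸ hTH hu : u ∈ stabilizer G a)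
  have hinf : T ⊓ stabilizer G (t • a) = ⊥ := by
    refine (eq_bot_iff_forall _).mpr fun u hu => ?_
    refine eq_one_of_split hH hTH hT hu.1 htH ?_
    have h : u • ((t : G) : G ⧸ H) = t := by rw [← hta]; exact hu.2
    rw [← mul_assoc]; exact SE.fixes_mk_iff.1 h
  have hTne : T ≠ ⊥ := by
    intro hbot
    obtain ⟨z, hzH, hz⟩ := Basic.exists_involution_of_even H hH.2.1
    have hne1 : z • ((t : G) : G ⧸ H) ≠ a := by
      rw [MulAction.Quotient.smul_mk, smul_eq_mul]
      exact hne fun h => htH (by simpa using mul_mem (inv_mem hzH) h)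
    obtain ⟨u, hu, e⟩ := exists_smul_of_split htr (hne htH) hne1
    rw [hbot, mem_bot] at hu
    rw [hu, one_smul] at e
    have hza : z • a = a := (hA.symm ▸ hzH : z ∈ stabilizer G a)
    exact hne htH (SE.fixed_unique hH hz hza e.symm).symm
  refine ⟨t, T, ?_, by rw [← pow_two, ← ht]; exact pow_orderOf_eq_one t, ?_, ?_, hA.symm ▸ hTH,
    ?_, hinf, ?_, ?_, ?_⟩
  · rw [MulAction.is_two_pretransitive_iff]
    have aux : ∀ p q : G ⧸ H, p ≠ q → ∃ g : G, g • a = p ∧ g • t • a = q := by
      intro p q hpq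
      obtain ⟨x, rfl⟩ := QuotientGroup.mk_surjective p
      have hq : x⁻¹ • q ≠ a := fun e => hpq (by
        rw [inv_smul_eq_iff, ha, MulAction.Quotient.smul_mk, smul_eq_mul, mul_one] at e
        exact e.symm)
      obtain ⟨u, hu, e⟩ := exists_smul_of_split htr (hne htH) hq
      refine ⟨x * u, ?_, ?_⟩
      · rw [mul_smul, hTa u hu, ha, MulAction.Quotient.smul_mk, smul_eq_mul, mul_one]
      · rw [hta, mul_smul, e, smul_inv_smul]
    intro p q r s hpq hrs
    obtain ⟨g, hg1, hg2⟩ := aux p q hpq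
    obtain ⟨g', hg1', hg2'⟩ := aux r s hrs
    refine ⟨g' * g⁻¹, ?_, ?_⟩
    · rw [← hg1, mul_smul, inv_smul_smul, hg1']
    · rw [← hg2, mul_smul, inv_smul_smul, hg2']
  · intro h
    rw [h, orderOf_one] at ht
    exact absurd ht (by norm_num)
  · rw [hA]; exact htH
  · rw [hA]; exact fun h hh x hx => conj_mem_of_le_normalizer hN hh hx
  · refine le_antisymm (sup_le (hA.symm ▸ hTH) inf_le_left) fun h hh => ?_
    have hhH : h ∈ H := hA ▸ hh
    obtain ⟨u, hu, e⟩ := exists_smul_of_split htr (hne htH) (c := h • t • a) (by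
      rw [hta, MulAction.Quotient.smul_mk, smul_eq_mul]
      exact hne fun hc => htH (by simpa using mul_mem (inv_mem hhH) hc))
    have hd : u⁻¹ * h ∈ stabilizer G a ⊓ stabilizer G (t • a) := by
      refine mem_inf.mpr ⟨hA.symm ▸ mul_mem (inv_mem (hTH hu)) hhH, ?_⟩
      change (u⁻¹ * h) • t • a = t • a
      rw [mul_smul, ← e, ← hta, inv_smul_smul]
    simpa using mul_mem_sup hu hd
  · haveI : Fact (Nat.Prime 2) := ⟨Nat.prime_two⟩
    haveI : Nontrivial T := (nontrivial_iff_ne_bot T).mpr hTne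
    obtain ⟨k, hk, e⟩ := hT.nontrivial_iff_card.mp inferInstance
    rw [e]; exact even_two.pow_of_ne_zero hk.ne'
  · rw [stabilizer_smul_eq_stabilizer_map_conj, hA]
    exact hH.2.2 t htH

/-- The set-up in the form used for Bender's theorem. -/
theorem setupExists_of_min (hmin : SplitMin.{u}) : CfsgLib.RankOne.SplitBender.SetupExists.{u} :=
  fun _ hH hcore h4 => exists_setup_of_min hmin hH hcore (orderOf_pair h4)

omit [Finite G] in
theorem stronglyEmbedded_of_spe [Finite G] {X : Subgroup G} (hX : Cfsg.IsStronglyPEmbedded 2 X) :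
    Cfsg.IsStronglyEmbedded X := by
  haveI : Fact (Nat.Prime 2) := ⟨Nat.prime_two⟩
  have hdvd : 2 ∣ Nat.card X := CfsgLib.LocalEven.StronglyEmbedded.spe_dvd hX
  exact ⟨hX.2.1, even_iff_two_dvd.mpr hdvd, fun g hg => Nat.not_even_iff_odd.mp fun h =>
    (CfsgLib.LocalEven.StronglyEmbedded.spe_iff_classical hX.2.1 hdvd).mp hX g hg
      (even_iff_two_dvd.mp h)⟩

theorem exists_pair_of_rank (h : Cfsg.PRankAtLeast 2 2 G) :
    ∃ x y : G, orderOf x = 2 ∧ orderOf y = 2 ∧ x ≠ y ∧ Commute x y := by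
  classical
  obtain ⟨A, hc, he, hcard⟩ := h
  haveI := hc
  haveI := Fintype.ofFinite A
  rw [Nat.card_eq_fintype_card] at hcard
  obtain ⟨x, hx⟩ := Fintype.exists_ne_of_one_lt_card (by omega) (1 : A)
  obtain ⟨y, hy1, hyx⟩ : ∃ y : A, y ≠ 1 ∧ y ≠ x := by
    by_contra hall
    push Not at hall
    have : Fintype.card A ≤ ({1, x} : Finset A).card := Finset.card_le_card fun v _ => by
      by_cases hv : v = 1
      · simp [hv]
      · simp [hall v hv]
    have := (Finset.card_le_two (a := (1 : A)) (b := x))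
    omega
  refine ⟨x, y, ?_, ?_, fun e => hyx (Subtype.ext e.symm), congrArg Subtype.val (mul_comm' x y)⟩
  · exact orderOf_eq_two (by rw [← pow_two]; exact he x x.2) fun e => hx (Subtype.ext e)
  · exact orderOf_eq_two (by rw [← pow_two]; exact he y y.2) fun e => hy1 (Subtype.ext e)

/-- A strongly embedded subgroup in 2-rank at least two is solvable. -/
theorem solvable_of_min (hmin : SplitMin.{u}) (hrank : Cfsg.PRankAtLeast 2 2 G)
    (hX : Cfsg.IsStronglyPEmbedded 2 H) : Group.IsSolvable H := by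
  have hH := stronglyEmbedded_of_spe hX
  obtain ⟨T, hCT, hTH, hT, hN, htr⟩ := exists_split_mod_core (splitBelow_of_min hmin (Nat.card G + 1))
    (Nat.lt_succ_self _) hH (exists_pair_of_rank hrank)
  obtain ⟨g, hg⟩ : ∃ g : G, g ∉ H := by
    by_contra hall
    push Not at hall
    exact hH.1 (eq_top_iff.2 fun g _ => hall g)
  set D : Subgroup G := H ⊓ H.map (MulAut.conj g).toMonoidHom with hD
  have hodd : ∀ K : Subgroup G, K ≤ D → Group.IsSolvable K := fun K hK =>
    CfsgLib.OddOrder.Final.oddSolvable K ((hH.2.2 g hg).of_dvd_nat (card_dvd_of_le hK))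
  -- the normal core is odd
  have hC : H.normalCore ≤ D := fun c hc => mem_inf.mpr ⟨H.normalCore_le hc, g⁻¹ * c * g,
    by simpa using hc g⁻¹, by rw [MulEquiv.coe_toMonoidHom, MulAut.conj_apply]; group⟩
  haveI : H.normalCore.Normal := normalCore_normal H
  have hTsol : Group.IsSolvable T := by
    set C := H.normalCore.subgroupOf T with hCdef
    haveI : Group.IsSolvable C := by
      haveI := hodd _ hC
      exact Group.isSolvable_of_surjective (f := (subgroupOfEquivOfLe hCT).symm.toMonoidHom)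
        (subgroupOfEquivOfLe hCT).symm.surjective
    have hp : IsPGroup 2 (T ⧸ C) := fun q => by
      obtain ⟨t, rfl⟩ := QuotientGroup.mk_surjective q
      obtain ⟨i, hi⟩ := hT t t.2
      exact ⟨i, by rw [← QuotientGroup.mk_pow, QuotientGroup.eq_one_iff]; exact hi⟩
    haveI : Fact (Nat.Prime 2) := ⟨Nat.prime_two⟩
    haveI : Group.IsNilpotent (T ⧸ C) := hp.isNilpotent
    exact (Group.isSolvable_iff_subgroup_quotient C).mpr ⟨inferInstance, inferInstance⟩
  set T' := T.subgroupOf H with hT'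
  haveI : T'.Normal := normal_subgroupOf_of_le_normalizer hN
  haveI : Group.IsSolvable T' := by
    haveI := hTsol
    exact Group.isSolvable_of_surjective (f := (subgroupOfEquivOfLe hTH).symm.toMonoidHom)
      (subgroupOfEquivOfLe hTH).symm.surjective
  haveI : Group.IsSolvable (H ⧸ T') := by
    haveI : Group.IsSolvable (D.subgroupOf H) := by
      haveI := hodd D le_rfl
      have e := (subgroupOfEquivOfLe (inf_le_left : D ≤ H)).symm
      exact Group.isSolvable_of_surjective (f := e.toMonoidHom) e.surjective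
    refine Group.isSolvable_of_surjective (f := (QuotientGroup.mk' T').comp (D.subgroupOf H).subtype) ?_
    intro q
    obtain ⟨h, rfl⟩ := QuotientGroup.mk_surjective q
    obtain ⟨t, ht, hmem⟩ := htr g ((h : G) * g) hg
      fun hc => hg (by simpa using mul_mem (inv_mem h.2) hc)
    have hdH : t⁻¹ * (h : G) ∈ H := mul_mem (inv_mem (hTH ht)) h.2
    have hdD : t⁻¹ * (h : G) ∈ D := mem_inf.mpr ⟨hdH, (t * g)⁻¹ * ((h : G) * g), hmem, by
      rw [MulEquiv.coe_toMonoidHom, MulAut.conj_apply]; group⟩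
    refine ⟨⟨⟨_, hdH⟩, hdD⟩, QuotientGroup.eq.2 ?_⟩
    change (t⁻¹ * (h : G))⁻¹ * (h : G) ∈ T
    have e : (t⁻¹ * (h : G))⁻¹ * (h : G) = (h : G)⁻¹ * t * (h : G) := by group
    rw [e]
    simpa using conj_mem_of_le_normalizer hN (inv_mem h.2) ht
  exact (Group.isSolvable_iff_subgroup_quotient T').mpr ⟨inferInstance, inferInstance⟩

omit [Finite G] in
/-- A conjugate of a strongly embedded subgroup equals it only for its own elements. -/
theorem map_conj_eq_iff (hH : Cfsg.IsStronglyEmbedded H) {g₁ g₂ : G} :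
    H.map (MulAut.conj g₁).toMonoidHom = H.map (MulAut.conj g₂).toMonoidHom ↔ g₂⁻¹ * g₁ ∈ H := by
  have key : ∀ g : G, g ∈ H ↔ H.map (MulAut.conj g).toMonoidHom = H := fun g => by
    constructor
    · intro hg
      ext x
      refine ⟨?_, fun hx => ⟨g⁻¹ * x * g, mul_mem (mul_mem (inv_mem hg) hx) hg, by simp [mul_assoc]⟩⟩
      rintro ⟨y, hy, rfl⟩
      simpa using mul_mem (mul_mem hg hy) (inv_mem hg)
    · intro e
      by_contra hg
      have h1 := hH.2.2 g hg
      rw [e, inf_idem] at h1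
      exact Nat.not_even_iff_odd.mpr h1 hH.2.1
  have hmul : ∀ g g' : G, (H.map (MulAut.conj g').toMonoidHom).map (MulAut.conj g).toMonoidHom =
      H.map (MulAut.conj (g * g')).toMonoidHom := fun g g' => by
    ext x; simp [mul_assoc]
  rw [key]
  constructor
  · intro e
    have h := congrArg (fun K : Subgroup G => K.map (MulAut.conj g₂⁻¹).toMonoidHom) e
    simp only [hmul, inv_mul_cancel] at h
    rw [h, (key 1).mp (one_mem H)]
  · intro e
    have h := congrArg (fun K : Subgroup G => K.map (MulAut.conj g₂).toMonoidHom) e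
    simp only [hmul, mul_inv_cancel_left] at h
    exact h

/-- A simple group is doubly transitive of Suzuki type on a strongly embedded subgroup. -/
theorem suzukiType_of_min (hmin : SplitMin.{u}) [IsSimpleGroup G]
    (hX : Cfsg.IsStronglyPEmbedded 2 H) : Cfsg.IsDoublyTransitiveSuzukiType H := by
  have hH := stronglyEmbedded_of_spe hX
  have hcore := CfsgLib.RankOne.SplitBender.core_eq_bot_of_simple hH.1
  have hcomm := orderOf_pair (CfsgLib.RankOne.SplitGlue.exists_commuting_involutions hH)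
  obtain ⟨t, Q, hS⟩ := exists_setup_of_min hmin hH hcore hcomm
  obtain ⟨T, hTH, hT, hN, htr⟩ := hasSplit_of_min hmin hH hcomm hcore
  have hA : stabilizer G ((1 : G) : G ⧸ H) = H := stabilizer_quotient H
  have hmul : ∀ g g' : G, (H.map (MulAut.conj g').toMonoidHom).map (MulAut.conj g).toMonoidHom =
      H.map (MulAut.conj (g * g')).toMonoidHom := fun g g' => by
    ext x; simp [mul_assoc]
  have h1 : H.map (MulAut.conj (1 : G)).toMonoidHom = H := by ext x; simp
  have hne : ∀ g : G, H.map (MulAut.conj g).toMonoidHom ≠ H ↔ g ∉ H := fun g => by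
    have := map_conj_eq_iff hH (g₁ := g) (g₂ := 1)
    rw [h1, inv_one, one_mul] at this
    exact not_congr this
  have hnorm : ∀ (g x : G), x ∈ normalizer ((H.map (MulAut.conj g).toMonoidHom : Subgroup G) : Set G) →
      g⁻¹ * (x * g) ∈ H := fun g x hx => by
    rw [← map_conj_eq_iff hH, ← hmul]
    ext y
    constructor
    · rintro ⟨z, hz, rfl⟩
      exact (mem_normalizer_iff.mp hx z).mp hz
    · intro hy
      exact ⟨x⁻¹ * y * x, (mem_normalizer_iff.mp hx _).mpr (by simpa [mul_assoc] using hy),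
        by simp [mul_assoc]⟩
  obtain ⟨g, hg, -⟩ := exists_involution_not_mem hH hcore
  have hex : ∀ g₁ g₂ : G, g₁ ∉ H → g₂ ∉ H → ∃ x ∈ T,
      (H.map (MulAut.conj g₁).toMonoidHom).map (MulAut.conj x).toMonoidHom =
        H.map (MulAut.conj g₂).toMonoidHom := fun g₁ g₂ k₁ k₂ => by
    obtain ⟨x, hx, hmem⟩ := htr g₁ g₂ k₁ k₂
    refine ⟨x, hx, ?_⟩
    rw [hmul, map_conj_eq_iff hH]
    simpa [mul_assoc] using inv_mem hmem
  refine ⟨le_antisymm (fun x hx => ?_) le_normalizer, ⟨g, (hne g).2 hg⟩,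
    fun g₁ g₂ k₁ k₂ => ?_, g, (hne g).2 hg, T, hTH, normal_subgroupOf_of_le_normalizer hN, ?_, ?_, ?_, ?_,
    fun g₁ g₂ k₁ k₂ => ?_⟩
  · have hx' : x ∈ normalizer ((H.map (MulAut.conj (1 : G)).toMonoidHom : Subgroup G) : Set G) := by
      rw [h1]; exact hx
    simpa using hnorm 1 x hx'
  · obtain ⟨x, hx, e⟩ := hex g₁ g₂ ((hne g₁).1 k₁) ((hne g₂).1 k₂)
    exact ⟨x, hTH hx, e⟩
  · exact (eq_bot_iff_forall _).mpr fun x hx => eq_one_of_split hH hTH hT hx.1 hg (hnorm g x hx.2.2)
  · refine le_antisymm (sup_le hTH inf_le_left) fun h hh => ?_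
    obtain ⟨x, hx, hmem⟩ := htr g (h * g) hg fun hc => hg (by simpa using mul_mem (inv_mem hh) hc)
    have hd : x⁻¹ * h ∈ H ⊓ normalizer ((H.map (MulAut.conj g).toMonoidHom : Subgroup G) : Set G) := by
      refine mem_inf.mpr ⟨mul_mem (inv_mem (hTH hx)) hh, le_normalizer ⟨(x * g)⁻¹ * (h * g), hmem, ?_⟩⟩
      rw [MulEquiv.coe_toMonoidHom, MulAut.conj_apply]; group
    simpa using mul_mem_sup hx hd
  · haveI : Fact (Nat.Prime 2) := ⟨Nat.prime_two⟩
    exact hT.isNilpotent
  · haveI := CfsgLib.RankOne.SplitBender.faithful_of_core hcore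
    haveI : Fact (Nat.Prime 2) := ⟨Nat.prime_two⟩
    have hc : Nat.card Q ≤ Nat.card T := by
      set a : G ⧸ H := ((1 : G) : G ⧸ H) with ha
      have htne : t • a ≠ a := fun e => hS.not_mem (mem_stabilizer_iff.2 e)
      have hq : ∀ q : Q, (q : G) • t • a ≠ a := fun q e => htne (smul_left_cancel _
        (e.trans (mem_stabilizer_iff.1 (hS.le q.2)).symm))
      choose f hf hf' using fun q : Q => exists_smul_of_split htr htne (hq q)
      refine Nat.card_le_card_of_injective (fun q : Q => (⟨f q, hf q⟩ : T)) fun q q' e => ?_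
      have e' : (q : G) • t • a = (q' : G) • t • a := by
        rw [← hf' q, ← hf' q', show f q = f q' from congrArg Subtype.val e]
      exact Subtype.ext (inv_mul_eq_one.mp (CfsgLib.RankOne.eq_one_of_fix_ta hS
        (mul_mem (inv_mem q.2) q'.2) (by rw [mul_smul, ← e', inv_smul_smul])))
    obtain ⟨P, hP⟩ := CfsgLib.RankOne.exists_sylow hS
    obtain ⟨R, hR⟩ := hT.exists_le_sylow
    refine ⟨R, ?_⟩
    have h2 : Nat.card (R : Subgroup G) ≤ Nat.card T := by
      rw [Sylow.card_eq_multiplicity R, ← Sylow.card_eq_multiplicity P]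
      exact (card_le_of_le hP).trans hc
    exact le_of_eq (eq_of_le_of_card_ge hR h2).symm
  · obtain ⟨x, hx, e⟩ := hex g₁ g₂ ((hne g₁).1 k₁) ((hne g₂).1 k₂)
    refine ⟨⟨x, hx⟩, e, fun y hy => Subtype.ext ?_⟩
    have h2 : H.map (MulAut.conj ((y : G) * g₁)).toMonoidHom = H.map (MulAut.conj (x * g₁)).toMonoidHom := by
      rw [← hmul, ← hmul, e]; exact hy
    rw [map_conj_eq_iff hH] at h2
    have h3 := eq_one_of_split hH hTH hT (mul_mem (inv_mem hx) y.2) ((hne g₁).1 k₁)
      (by simpa [mul_assoc] using h2)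
    exact (inv_mul_eq_one.mp h3).symm

end CfsgLib.LocalEven.BenderSplit
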