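import Cfsg.Agent.Lib.LocalEven.BenderSplit.LinearSetup

/-!
# The doubly transitive linear case is impossible
-/

set_option autoImplicit false
set_option linter.unusedSectionVars false
set_option linter.style.haveILetI false

open scoped ComplexConjugate
open MulAction CfsgLib.Char CfsgLib.BenderSplit

namespace CfsgLib.BenderSplit.LinearArith

universe u v

variable {G : Type u} {W : Type v} [Group G] [MulAction G W]

namespace Lin

variable {a b : W} {K : Subgroup G} {u x : G} {l m : ℕ} (L : Lin a b K u x l m)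
include L

theorem pretrans : IsPretransitive G W := by
  haveI := L.two
  exact isPretransitive_of_is_two_pretransitive (G := G) (α := W)

theorem trans_a {p q : W} (hp : p ≠ a) (hq : q ≠ a) : ∃ h ∈ stabilizer G a, h • p = q := by
  obtain ⟨g, h1, h2⟩ := (is_two_pretransitive_iff.1 L.two) (Ne.symm hp) (Ne.symm hq)
  exact ⟨g, mem_stabilizer_iff.2 h1, h2⟩

theorem phi_eq [Fintype G] [DecidableEq G] [DecidableEq W] (g : G) :
    phi a g = (((Finset.univ.filter fun t : G => orderOf t = 2 ∧ t • a = a).filter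
      fun t => g * t = t * g).card : ℂ) - 1 := by
  rw [phi, Finset.filter_filter, Nat.card_eq_fintype_card, Fintype.card_subtype]

theorem card_S [Fintype G] [DecidableEq W] :
    (Finset.univ.filter fun t : G => orderOf t = 2 ∧ t • a = a).card = m := by
  rw [← Fintype.card_subtype, ← Nat.card_eq_fintype_card, L.card_inv]

theorem regular_eq [Finite G] {s k k' : G} (hs : orderOf s = 2) (hsa : s • a = a) (hk : k ∈ K)
    (hk' : k' ∈ K) (h : k * s * k⁻¹ = k' * s * k'⁻¹) : k = k' := by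
  by_contra hne
  have h1 : k'⁻¹ * k ∈ K := mul_mem (inv_mem hk') hk
  have h2 : k'⁻¹ * k ≠ 1 := fun e => hne (inv_mul_eq_one.1 e).symm
  have h3 : s ∈ K := L.cent _ h1 h2 s (by
    calc s * (k'⁻¹ * k) = k'⁻¹ * (k' * s * k'⁻¹) * k := by group
      _ = k'⁻¹ * (k * s * k⁻¹) * k := by rw [h]
      _ = _ := by group)
  exact L.hab ((L.one_fix s hs).unique hsa (L.K_fix s h3).2)

theorem exists_inv : ∃ t₀ : G, orderOf t₀ = 2 ∧ t₀ • a = a := by
  by_contra h
  have : IsEmpty {t : G // orderOf t = 2 ∧ t • a = a} := ⟨fun t => h ⟨t, t.2⟩⟩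
  have h0 := L.card_inv
  rw [Nat.card_of_isEmpty] at h0
  have := L.seven_le
  omega

theorem phi_one [Fintype G] [DecidableEq G] [DecidableEq W] : phi a (1 : G) = (m : ℂ) - 1 := by
  rw [L.phi_eq, Finset.filter_true_of_mem fun t _ => by rw [one_mul, mul_one], L.card_S]

theorem phi_K {k : G} (hk : k ∈ K) (hk1 : k ≠ 1) : phi a k = -1 := by
  haveI : IsEmpty {t : G // (orderOf t = 2 ∧ t • a = a) ∧ k * t = t * k} := ⟨fun t =>
    L.hab ((L.one_fix t t.2.1.1).unique t.2.1.2 (L.K_fix t (L.cent k hk hk1 t t.2.2.symm)).2)⟩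
  simp [phi]

theorem phi_out [Fintype G] [DecidableEq G] [DecidableEq W] {k : G} (hk : k ∈ K) {i : ℕ} (hi : ¬ l ∣ i) :
    phi a (k * x ^ i) = 0 := by
  obtain ⟨t₀, ht, hta⟩ := L.exists_inv
  set y := x ^ i with hy
  have hya : y • a = a := by
    have := (L.fix_D (one_mem K) i).1
    rwa [one_mul] at this
  obtain ⟨k₁, hk₁, hk₁e⟩ := L.regular t₀ (y * t₀ * y⁻¹) ht hta (by rw [orderOf_conj, ht])
    (by rw [mul_smul, mul_smul, show y⁻¹ • a = a from inv_smul_eq_iff.2 hya.symm, hta, hya])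
  have hfpf : ∀ q ∈ K, y * q * y⁻¹ = q → q = 1 := by
    intro q hq hyq
    refine L.x_fpf q hq ?_
    obtain ⟨j, -, hj⟩ := Nat.exists_mul_mod_eq_one_of_coprime
      (Nat.coprime_comm.1 ((Nat.Prime.coprime_iff_not_dvd L.lp).2 hi)) L.lp.one_lt
    have hx : x = y ^ j := by
      rw [hy, ← pow_mul, ← Nat.mod_add_div (i * j) l, hj, pow_add, pow_mul, L.x_pow, one_pow, mul_one,
        pow_one]
    rw [hx]
    have hc : Commute y q := by
      show y * q = q * y
      conv_rhs => rw [← hyq]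
      group
    rw [(hc.pow_left j).eq, mul_inv_cancel_right]
  let c : K → K := fun q => ⟨(q : G) * (y * q * y⁻¹)⁻¹, mul_mem q.2 (inv_mem (L.pow_conj_mem i q q.2))⟩
  have hc : Function.Injective c := by
    intro p q e
    have e' : (p : G) * (y * p * y⁻¹)⁻¹ = q * (y * q * y⁻¹)⁻¹ := congrArg Subtype.val e
    have h1 : y * ((q : G)⁻¹ * p) * y⁻¹ = (q : G)⁻¹ * p := by
      calc y * ((q : G)⁻¹ * p) * y⁻¹ = (y * q * y⁻¹)⁻¹ * (y * p * y⁻¹) := by group
        _ = (q : G)⁻¹ * ((q : G) * (y * q * y⁻¹)⁻¹) * (y * p * y⁻¹) := by group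
        _ = (q : G)⁻¹ * ((p : G) * (y * p * y⁻¹)⁻¹) * (y * p * y⁻¹) := by rw [e']
        _ = _ := by group
    exact Subtype.ext (inv_mul_eq_one.1 (hfpf _ (mul_mem (inv_mem q.2) p.2) h1)).symm
  have hiff : ∀ q : K, (k * y * ((q : G) * t₀ * (q : G)⁻¹) = (q : G) * t₀ * (q : G)⁻¹ * (k * y)) ↔
      (c q : G) = k * k₁ := by
    intro q
    have hq := L.pow_conj_mem i q q.2
    have e : k * y * ((q : G) * t₀ * (q : G)⁻¹) * (k * y)⁻¹ =
        (k * (y * q * y⁻¹) * k₁) * t₀ * (k * (y * q * y⁻¹) * k₁)⁻¹ := by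
      rw [show k * (y * q * y⁻¹) * k₁ * t₀ * (k * (y * q * y⁻¹) * k₁)⁻¹ =
        k * (y * q * y⁻¹) * (k₁ * t₀ * k₁⁻¹) * (k * (y * q * y⁻¹))⁻¹ by group, hk₁e]
      group
    rw [← mul_inv_eq_iff_eq_mul, e]
    show _ ↔ (q : G) * (y * q * y⁻¹)⁻¹ = k * k₁
    have hmem : k * (y * q * y⁻¹) * k₁ ∈ K := mul_mem (mul_mem hk hq) hk₁
    have e2 : (q : G) * (y * q * y⁻¹)⁻¹ = k * k₁ ↔ (q : G) = k * (y * q * y⁻¹) * k₁ := by
      rw [mul_inv_eq_iff_eq_mul, mul_assoc, L.K_comm k₁ hk₁ _ hq, ← mul_assoc]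
    rw [e2]
    exact ⟨fun h => (L.regular_eq ht hta hmem q.2 h).symm, fun h => by rw [← h]⟩
  have hcard : Nat.card {t : G // (orderOf t = 2 ∧ t • a = a) ∧ k * y * t = t * (k * y)} = 1 := by
    obtain ⟨q₀, hq₀⟩ := (Finite.injective_iff_surjective.1 hc) ⟨k * k₁, mul_mem hk hk₁⟩
    have hq₀' : (c q₀ : G) = k * k₁ := congrArg Subtype.val hq₀
    rw [Nat.card_eq_one_iff_unique]
    refine ⟨⟨fun s t => ?_⟩, ⟨⟨(q₀ : G) * t₀ * (q₀ : G)⁻¹, ⟨by rw [orderOf_conj, ht], ?_⟩, (hiff q₀).2 hq₀'⟩⟩⟩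
    · obtain ⟨p, hp, hp'⟩ := L.regular t₀ s.1 ht hta s.2.1.1 s.2.1.2
      obtain ⟨q, hq, hq'⟩ := L.regular t₀ t.1 ht hta t.2.1.1 t.2.1.2
      have h1 := (hiff ⟨p, hp⟩).1 (by show k * y * (p * t₀ * p⁻¹) = p * t₀ * p⁻¹ * (k * y); rw [hp']; exact s.2.2)
      have h2 := (hiff ⟨q, hq⟩).1 (by show k * y * (q * t₀ * q⁻¹) = q * t₀ * q⁻¹ * (k * y); rw [hq']; exact t.2.2)
      have : p = q := congrArg Subtype.val (hc (Subtype.ext (h1.trans h2.symm)))
      exact Subtype.ext (by rw [← hp', ← hq', this])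
    · rw [mul_smul, mul_smul, show (q₀ : G)⁻¹ • a = a from inv_smul_eq_iff.2 (L.K_fix _ q₀.2).1.symm, hta,
        (L.K_fix _ q₀.2).1]
  rw [phi, hcard]
  simp

theorem phi_u [Fintype G] [DecidableEq G] [DecidableEq W] {d : G} (hd : d • a = a ∧ d • b = b) :
    phi b d = phi a d := by
  obtain ⟨k, hk, i, rfl⟩ := L.gen d hd.1 hd.2
  have h1 : phi b (k * x ^ i) = phi a (k⁻¹ * x ^ i) := by
    rw [← phi_conj u (k * x ^ i) b, L.hub]
    congr 1
    calc u * (k * x ^ i) * u⁻¹ = (u * k * u⁻¹) * (u * x ^ i * u⁻¹) := by group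
      _ = _ := by
        rw [L.inverts k hk, ((show Commute x u from L.x_u).symm.pow_right i).eq, mul_inv_cancel_right]
  rw [h1]
  by_cases hi : l ∣ i
  · obtain ⟨j, rfl⟩ := hi
    rw [pow_mul, L.x_pow, one_pow, mul_one, mul_one]
    by_cases hk1 : k = 1
    · rw [hk1, inv_one]
    · rw [L.phi_K hk hk1, L.phi_K (inv_mem hk) (inv_ne_one.2 hk1)]
  · rw [L.phi_out hk hi, L.phi_out (inv_mem hk) hi]

theorem sum_D [Fintype G] [DecidableEq G] [DecidableEq W] :
    ∑ d ∈ Finset.univ.filter (fun d : G => d • a = a ∧ d • b = b), phi a d * phi b d =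
      (m : ℂ) * ((m : ℂ) - 1) := by
  classical
  letI : Fintype K := Fintype.ofFinite _
  set D := Finset.univ.filter (fun d : G => d • a = a ∧ d • b = b)
  set KF := Finset.univ.filter (fun d : G => d ∈ K)
  have hsub : KF ⊆ D := fun d hd => Finset.mem_filter.2
    ⟨Finset.mem_univ _, L.K_fix d (Finset.mem_filter.1 hd).2⟩
  rw [Finset.sum_congr rfl fun d hd => by rw [L.phi_u (Finset.mem_filter.1 hd).2],
    ← Finset.sum_subset hsub fun d hd hdK => ?_]
  · have h1 : (1 : G) ∈ KF := Finset.mem_filter.2 ⟨Finset.mem_univ _, one_mem K⟩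
    have hcard : KF.card = m := by
      rw [← Fintype.card_subtype, ← Nat.card_eq_fintype_card]
      exact L.card_K
    rw [← Finset.add_sum_erase _ _ h1, L.phi_one,
      Finset.sum_congr rfl (g := fun _ => (1 : ℂ)) fun d hd => ?_, Finset.sum_const,
      Finset.card_erase_of_mem h1, hcard, nsmul_eq_mul, mul_one, Nat.cast_sub (by have := L.seven_le; omega),
      Nat.cast_one]
    · ring
    · obtain ⟨hd1, hdK⟩ := Finset.mem_erase.1 hd
      rw [L.phi_K (Finset.mem_filter.1 hdK).2 hd1]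
      norm_num
  · obtain ⟨k, hk, i, rfl⟩ := L.gen d (Finset.mem_filter.1 hd).2.1 (Finset.mem_filter.1 hd).2.2
    have hi : ¬ l ∣ i := fun h => hdK (Finset.mem_filter.2
      ⟨Finset.mem_univ _, mul_mem hk ((L.pow_mem_iff i).2 h)⟩)
    rw [L.phi_out hk hi, zero_mul]

theorem pairing [Fintype G] [Fintype W] [DecidableEq W] [Fintype (stabilizer G a)] {F : G → ℂ}
    (hF : Cfsg.IsClassFunction G F) :
    ∑ g : G, psi (W := W) g * F g = (Nat.card W : ℂ) * ∑ h : stabilizer G a, phi a (h : G) * F h := by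
  classical
  haveI := L.pretrans
  letI : Fintype (⊤ : Subgroup G) := Fintype.ofFinite _
  have h := sum_translate (G := G) (⊤ : Subgroup G) (fun g (p : W) => g • p) (one_smul G) mul_smul
    (Finset.univ : Finset W) (q₀ := a) (fun g p => phi p g * F g)
    (fun h _ g p => by rw [phi_conj, hF])
    (fun q _ => by obtain ⟨g, hg⟩ := exists_smul_eq G a q; exact ⟨g, trivial, hg⟩)
  have htop : ∀ f : G → ℂ, ∑ g : (⊤ : Subgroup G), f g = ∑ g : G, f g := fun f =>
    Fintype.sum_equiv Subgroup.topEquiv.toEquiv _ _ fun g => rfl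
  simp only [psi, Finset.sum_mul, ite_mul, zero_mul]
  rw [Finset.sum_comm]
  rw [Finset.sum_congr rfl fun q _ => (htop fun g => if g • q = q then phi q g * F g else 0).symm, h,
    Finset.card_univ, htop fun g => if g • a = a then phi a g * F g else 0, Nat.card_eq_fintype_card]
  congr 1
  rw [← Finset.sum_filter]
  exact Finset.sum_subtype _ (fun g => by simp [mem_stabilizer_iff]) fun g => phi a g * F g

theorem sum_phi_mul [Fintype G] [DecidableEq G] [DecidableEq W] [Fintype (stabilizer G a)] {t₀ : G}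
    (ht : orderOf t₀ = 2) (hta : t₀ • a = a) [Fintype (Subgroup.centralizer ({t₀} : Set G))]
    {F : G → ℂ} (hF : Cfsg.IsClassFunction G F) :
    ∑ h : stabilizer G a, phi a (h : G) * F h =
      (m : ℂ) * ∑ c : Subgroup.centralizer ({t₀} : Set G), F c - ∑ h : stabilizer G a, F h := by
  classical
  set S := Finset.univ.filter fun t : G => orderOf t = 2 ∧ t • a = a
  have hcentra : ∀ g : G, g * t₀ = t₀ * g → g ∈ stabilizer G a := fun g hg =>
    mem_stabilizer_iff.2 (L.eq_a ht hta hg)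
  have h := sum_translate (G := G) (stabilizer G a) (fun g t => g * t * g⁻¹) (fun t => by simp)
    (fun g g' t => by group) S (q₀ := t₀) (fun g _ => F g) (fun h _ g _ => hF g h)
    (fun t htS => by
      obtain ⟨h1, h2⟩ := (Finset.mem_filter.1 htS).2
      obtain ⟨k, hk, hk'⟩ := L.regular t₀ t ht hta h1 h2
      exact ⟨k, mem_stabilizer_iff.2 (L.K_fix k hk).1, hk'⟩)
  rw [L.card_S] at h
  have hC : ∑ g : stabilizer G a, (if (g : G) * t₀ * (g : G)⁻¹ = t₀ then F g else 0) =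
      ∑ c : Subgroup.centralizer ({t₀} : Set G), F c := by
    rw [← Finset.sum_filter]
    refine Finset.sum_bij (fun g hg => (⟨g, Subgroup.mem_centralizer_iff.2 fun z hz => by
        rw [Set.mem_singleton_iff.1 hz]
        exact (mul_inv_eq_iff_eq_mul.1 (Finset.mem_filter.1 hg).2).symm⟩ : Subgroup.centralizer ({t₀} : Set G)))
      (fun _ _ => Finset.mem_univ _) (fun p _ q _ e => Subtype.ext (by simpa using congrArg Subtype.val e))
      (fun c _ => ⟨⟨c, hcentra c (Subgroup.mem_centralizer_iff.1 c.2 t₀ rfl).symm⟩,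
        Finset.mem_filter.2 ⟨Finset.mem_univ _, ?_⟩, rfl⟩) (fun _ _ => rfl)
    show (c : G) * t₀ * (c : G)⁻¹ = t₀
    rw [← Subgroup.mem_centralizer_iff.1 c.2 t₀ rfl, mul_inv_cancel_right]
  rw [hC] at h
  have e : ∀ g : stabilizer G a, phi a (g : G) * F g =
      (∑ t ∈ S, if (g : G) * t * (g : G)⁻¹ = t then F g else 0) - F g := by
    intro g
    rw [L.phi_eq, sub_mul, one_mul, ← Finset.sum_boole, Finset.sum_mul]
    congr 1
    refine Finset.sum_congr rfl fun t _ => ?_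
    rw [ite_mul, one_mul, zero_mul]
    exact if_congr mul_inv_eq_iff_eq_mul.symm rfl rfl
  rw [Finset.sum_congr rfl fun g _ => e g, Finset.sum_sub_distrib, Finset.sum_comm, h]

theorem sum_sq_phi [Fintype G] [DecidableEq G] [DecidableEq W] [Fintype (stabilizer G a)] :
    ∑ h : stabilizer G a, phi a (h : G) * phi a (h : G) = Nat.card (stabilizer G a) ∧
      ∑ h : stabilizer G a, phi a (h : G) = 0 := by
  classical
  set S := Finset.univ.filter fun t : G => orderOf t = 2 ∧ t • a = a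
  have hmaps : ∀ h : G, h • a = a → ∀ t ∈ S, h * t * h⁻¹ ∈ S := by
    intro h hh t ht
    obtain ⟨h1, h2⟩ := (Finset.mem_filter.1 ht).2
    exact Finset.mem_filter.2 ⟨Finset.mem_univ _, by rw [orderOf_conj, h1],
      by rw [mul_smul, mul_smul, show h⁻¹ • a = a from inv_smul_eq_iff.2 hh.symm, h2, hh]⟩
  have hmS : (S.card : ℂ) = m := by rw [L.card_S]
  obtain ⟨t₀, ht, hta⟩ := L.exists_inv
  have ht₀ : t₀ ∈ S := Finset.mem_filter.2 ⟨Finset.mem_univ _, ht, hta⟩
  -- one involution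
  have h1 : ∑ t ∈ S, ∑ g : stabilizer G a, (if (g : G) * t * (g : G)⁻¹ = t then (1 : ℂ) else 0) =
      Nat.card (stabilizer G a) := by
    have htr : ∀ t ∈ S, ∃ h ∈ stabilizer G a, h * t₀ * h⁻¹ = t := fun t htS => by
      obtain ⟨h1, h2⟩ := (Finset.mem_filter.1 htS).2
      obtain ⟨k, hk, hk'⟩ := L.regular t₀ t ht hta h1 h2
      exact ⟨k, mem_stabilizer_iff.2 (L.K_fix k hk).1, hk'⟩
    rw [sum_translate (G := G) (stabilizer G a) (fun g t => g * t * g⁻¹) (fun t => by simp)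
      (fun g g' t => by group) S (q₀ := t₀) (fun _ _ => (1 : ℂ)) (fun _ _ _ _ => rfl) htr,
      card_eq_card_mul (G := G) (stabilizer G a) (fun g t => g * t * g⁻¹) (fun g g' t => by group)
      (fun t => by simp) S (q₀ := t₀) (fun h hh => hmaps h hh t₀ ht₀) htr, Finset.sum_boole,
      Nat.card_eq_fintype_card (α := {g : stabilizer G a // (g : G) * t₀ * (g : G)⁻¹ = t₀}), Fintype.card_subtype,
      Nat.cast_mul]
  have hphi : ∀ g : stabilizer G a, phi a (g : G) =
      (∑ t ∈ S, if (g : G) * t * (g : G)⁻¹ = t then (1 : ℂ) else 0) - 1 := fun g => by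
    rw [L.phi_eq, ← Finset.sum_boole]
    congr 1
    exact Finset.sum_congr rfl fun t _ => if_congr mul_inv_eq_iff_eq_mul.symm rfl rfl
  -- two involutions
  set P := (S ×ˢ S).filter fun q => q.1 ≠ q.2
  have h2 : ∑ q ∈ P, ∑ g : stabilizer G a,
      (if ((g : G) * q.1 * (g : G)⁻¹, (g : G) * q.2 * (g : G)⁻¹) = q then (1 : ℂ) else 0) =
      Nat.card (stabilizer G a) := by
    obtain ⟨t₁, ht₁, hne⟩ := Finset.exists_mem_ne (s := S) (by rw [L.card_S]; have := L.seven_le; omega) t₀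
    have hq₀ : (t₀, t₁) ∈ P := Finset.mem_filter.2 ⟨Finset.mem_product.2 ⟨ht₀, ht₁⟩, hne.symm⟩
    have hmem : ∀ {q : G × G}, q ∈ P → q.1 ∈ S ∧ q.2 ∈ S ∧ q.1 ≠ q.2 := fun hq =>
      ⟨(Finset.mem_product.1 (Finset.mem_filter.1 hq).1).1, (Finset.mem_product.1 (Finset.mem_filter.1 hq).1).2,
        (Finset.mem_filter.1 hq).2⟩
    have htr : ∀ q ∈ P, ∃ h ∈ stabilizer G a, (h * t₀ * h⁻¹, h * t₁ * h⁻¹) = q := fun q hq => by
      obtain ⟨ha1, ha2, hq12⟩ := hmem hq
      obtain ⟨e1, e2⟩ := (Finset.mem_filter.1 ha1).2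
      obtain ⟨e3, e4⟩ := (Finset.mem_filter.1 ha2).2
      obtain ⟨f1, f2⟩ := (Finset.mem_filter.1 ht₁).2
      obtain ⟨g, hg, g1, g2⟩ := L.two_inv t₀ t₁ q.1 q.2 ht hta f1 f2 e1 e2 e3 e4 hne.symm hq12
      exact ⟨g, mem_stabilizer_iff.2 hg, Prod.ext g1 g2⟩
    rw [sum_translate (G := G) (stabilizer G a) (fun g q => (g * q.1 * g⁻¹, g * q.2 * g⁻¹))
      (fun q => by simp) (fun g g' q => by simp [mul_assoc]) P (q₀ := (t₀, t₁)) (fun _ _ => (1 : ℂ))
      (fun _ _ _ _ => rfl) htr,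
      card_eq_card_mul (G := G) (stabilizer G a) (fun g q => (g * q.1 * g⁻¹, g * q.2 * g⁻¹))
      (fun g g' q => by simp [mul_assoc]) (fun q => by simp) P (q₀ := (t₀, t₁))
      (fun h hh => Finset.mem_filter.2 ⟨Finset.mem_product.2 ⟨hmaps h hh _ ht₀, hmaps h hh _ ht₁⟩,
        fun e => hne.symm (mul_left_cancel (mul_right_cancel e))⟩) htr, Finset.sum_boole,
      Nat.card_eq_fintype_card (α := {g : stabilizer G a //
        ((g : G) * t₀ * (g : G)⁻¹, (g : G) * t₁ * (g : G)⁻¹) = (t₀, t₁)}), Fintype.card_subtype, Nat.cast_mul]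
  have hsum0 : ∑ h : stabilizer G a, phi a (h : G) = 0 := by
    rw [Finset.sum_congr rfl fun g _ => hphi g, Finset.sum_sub_distrib, Finset.sum_comm, h1,
      Finset.sum_const, Finset.card_univ, ← Nat.card_eq_fintype_card, nsmul_eq_mul, mul_one, sub_self]
  refine ⟨?_, hsum0⟩
  have h3 : ∑ g : stabilizer G a, (phi a (g : G) + 1) * (phi a (g : G) + 1) =
      2 * (Nat.card (stabilizer G a) : ℂ) := by
    have e : ∀ g : stabilizer G a, (phi a (g : G) + 1) * (phi a (g : G) + 1) =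
        ∑ q ∈ S ×ˢ S, if ((g : G) * q.1 * (g : G)⁻¹, (g : G) * q.2 * (g : G)⁻¹) = q then (1 : ℂ) else 0 := by
      intro g
      rw [hphi, sub_add_cancel, Finset.sum_mul_sum, ← Finset.sum_product']
      refine Finset.sum_congr rfl fun q _ => ?_
      rw [ite_zero_mul_ite_zero, one_mul]
      exact if_congr (by simp [Prod.ext_iff]) rfl rfl
    rw [Finset.sum_congr rfl fun g _ => e g, Finset.sum_comm,
      ← Finset.sum_filter_add_sum_filter_not (S ×ˢ S) (fun q => q.1 ≠ q.2), h2, two_mul]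
    congr 1
    rw [← h1]
    refine Finset.sum_bij' (fun q _ => q.1) (fun t _ => (t, t))
      (fun q hq => (Finset.mem_product.1 (Finset.mem_filter.1 hq).1).1)
      (fun t hT => Finset.mem_filter.2 ⟨Finset.mem_product.2 ⟨hT, hT⟩, not_not.2 rfl⟩)
      (fun q hq => Prod.ext rfl (not_not.1 (Finset.mem_filter.1 hq).2)) (fun _ _ => rfl) fun q hq => ?_
    refine Finset.sum_congr rfl fun g _ => if_congr ?_ rfl rfl
    have e12 : q.1 = q.2 := not_not.1 (Finset.mem_filter.1 hq).2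
    rw [Prod.ext_iff]
    simp only [← e12, and_self]
  have h4 : ∑ g : stabilizer G a, (phi a (g : G) + 1) * (phi a (g : G) + 1) =
      ∑ g : stabilizer G a, phi a (g : G) * phi a (g : G) + Nat.card (stabilizer G a) := by
    have : ∀ g : stabilizer G a, (phi a (g : G) + 1) * (phi a (g : G) + 1) =
        phi a (g : G) * phi a (g : G) + 2 * phi a (g : G) + 1 := fun g => by ring
    rw [Finset.sum_congr rfl fun g _ => this g, Finset.sum_add_distrib, Finset.sum_add_distrib,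
      ← Finset.mul_sum, hsum0, mul_zero, add_zero, Finset.sum_const, Finset.card_univ,
      ← Nat.card_eq_fintype_card, nsmul_eq_mul, mul_one]
  linear_combination h3 - h4

/-- The norm of `Ψ`, on `H`. -/
theorem norm_psi [Fintype G] [Fintype W] [DecidableEq G] [DecidableEq W] [Fintype (stabilizer G a)] {s : ℕ}
    (hs : m = 2 * l * s + 1) :
    ∑ h : stabilizer G a, phi a (h : G) * psi (W := W) (h : G) =
      (Nat.card (stabilizer G a) : ℂ) * (2 * s + 1) := by
  classical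
  set Q := (Finset.univ : Finset W).erase a
  have hfix : ∀ h ∈ stabilizer G a, h • a = a := fun h hh => mem_stabilizer_iff.1 hh
  have htr : ∀ q ∈ Q, ∃ h ∈ stabilizer G a, h • b = q := fun q hq =>
    L.trans_a L.hab.symm (Finset.ne_of_mem_erase hq)
  have h0 := sum_translate (G := G) (stabilizer G a) (fun g (p : W) => g • p) (one_smul G) mul_smul Q
    (q₀ := b) (fun g p => phi a g * phi p g)
    (fun h hh g p => by
      have e := phi_conj h g a
      rw [hfix h hh] at e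
      rw [e, phi_conj]) htr
  have hcard := card_eq_card_mul (G := G) (stabilizer G a) (fun g (p : W) => g • p) mul_smul (one_smul G) Q
    (q₀ := b) (fun h hh => Finset.mem_erase.2 ⟨fun e => L.hab.symm (smul_left_cancel h (e.trans (hfix h hh).symm)),
      Finset.mem_univ _⟩) htr
  have hD : Nat.card {g : stabilizer G a // (g : G) • b = b} = m * l := by
    rw [← L.card_D]
    exact Nat.card_congr
      { toFun := fun g => ⟨g.1, hfix _ g.1.2, g.2⟩
        invFun := fun d => ⟨⟨d.1, mem_stabilizer_iff.2 d.2.1⟩, d.2.2⟩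
        left_inv := fun _ => rfl
        right_inv := fun _ => rfl }
  rw [hD] at hcard
  have hDsum : ∑ g : stabilizer G a, (if (g : G) • b = b then phi a (g : G) * phi b (g : G) else 0) =
      (m : ℂ) * ((m : ℂ) - 1) := by
    rw [← L.sum_D, ← Finset.sum_filter]
    exact Finset.sum_bij (fun g _ => (g : G))
      (fun g hg => Finset.mem_filter.2 ⟨Finset.mem_univ _, hfix g g.2, (Finset.mem_filter.1 hg).2⟩)
      (fun p _ q _ e => Subtype.ext e)
      (fun d hd => ⟨⟨d, mem_stabilizer_iff.2 (Finset.mem_filter.1 hd).2.1⟩,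
        Finset.mem_filter.2 ⟨Finset.mem_univ _, (Finset.mem_filter.1 hd).2.2⟩, rfl⟩) (fun _ _ => rfl)
  rw [hDsum] at h0
  have hexp : ∑ h : stabilizer G a, phi a (h : G) * psi (W := W) (h : G) =
      ∑ h : stabilizer G a, phi a (h : G) * phi a (h : G) +
        ∑ q ∈ Q, ∑ g : stabilizer G a, (if (g : G) • q = q then phi a (g : G) * phi q (g : G) else 0) := by
    rw [Finset.sum_comm (s := Q), ← Finset.sum_add_distrib]
    refine Finset.sum_congr rfl fun h _ => ?_
    rw [psi, Finset.mul_sum, ← Finset.add_sum_erase _ _ (Finset.mem_univ a), if_pos (hfix h h.2)]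
    congr 1
    exact Finset.sum_congr rfl fun q _ => by rw [mul_ite, mul_zero]
  rw [hexp, L.sum_sq_phi.1, h0, hcard]
  push_cast
  rw [hs]
  push_cast
  ring

theorem sum_phi_K [Fintype G] [DecidableEq G] [DecidableEq W] [Fintype K] {g : G} (hg : g • a = a) :
    ∑ k : K, phi a ((k : G) * g) = 0 := by
  classical
  set S := Finset.univ.filter fun t : G => orderOf t = 2 ∧ t • a = a
  have h1 : ∀ t ∈ S, ∑ k : K, (if (k : G) * g * t = t * ((k : G) * g) then (1 : ℂ) else 0) = 1 := by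
    intro t htS
    obtain ⟨h2, h3⟩ := (Finset.mem_filter.1 htS).2
    have h4 : orderOf (g * t * g⁻¹) = 2 := by rw [orderOf_conj, h2]
    have h5 : (g * t * g⁻¹) • a = a := by
      rw [mul_smul, mul_smul, show g⁻¹ • a = a from inv_smul_eq_iff.2 hg.symm, h3, hg]
    obtain ⟨k₀, hk₀, hk₀e⟩ := L.regular (g * t * g⁻¹) t h4 h5 h2 h3
    rw [Finset.sum_boole, Nat.cast_eq_one, Finset.card_eq_one]
    refine ⟨⟨k₀, hk₀⟩, Finset.ext fun k => ?_⟩
    simp only [Finset.mem_filter, Finset.mem_univ, true_and, Finset.mem_singleton]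
    constructor
    · intro h
      refine Subtype.ext (L.regular_eq h4 h5 k.2 hk₀ (hk₀e.symm ▸ ?_))
      calc (k : G) * (g * t * g⁻¹) * (k : G)⁻¹ = ((k : G) * g * t) * g⁻¹ * (k : G)⁻¹ := by group
        _ = t * ((k : G) * g) * g⁻¹ * (k : G)⁻¹ := by rw [h]
        _ = t := by group
    · rintro rfl
      calc k₀ * g * t = (k₀ * (g * t * g⁻¹) * k₀⁻¹) * (k₀ * g) := by group
        _ = t * (k₀ * g) := by rw [hk₀e]
  calc ∑ k : K, phi a ((k : G) * g)
      = ∑ k : K, ((∑ t ∈ S, if (k : G) * g * t = t * ((k : G) * g) then (1 : ℂ) else 0) - 1) :=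
        Finset.sum_congr rfl fun k _ => by rw [L.phi_eq, ← Finset.sum_boole]
    _ = 0 := by
        rw [Finset.sum_sub_distrib, Finset.sum_comm, Finset.sum_congr rfl h1, Finset.sum_const, Finset.sum_const,
          L.card_S, Finset.card_univ, ← Nat.card_eq_fintype_card, L.card_K, sub_self]

/-- A constituent has degree `|W|` times its value at an involution. -/
theorem degree_eq [Fintype G] [Fintype W] [DecidableEq G] [DecidableEq W] [Fintype (stabilizer G a)]
    (χ : Cfsg.IrrCharacter G) {t₀ : G} (ht : orderOf t₀ = 2) (hta : t₀ • a = a)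
    (hμ : ∑ h : stabilizer G a, phi a (h : G) * (χ : G → ℂ) h ≠ 0) :
    (χ : G → ℂ) 1 = (Nat.card W : ℂ) * (χ : G → ℂ) t₀ := by
  classical
  haveI := L.pretrans
  have hcl := IsIrrCharacter.isClassFunction χ.2
  letI : Fintype (⊤ : Subgroup G) := Fintype.ofFinite _
  letI : Fintype K := Fintype.ofFinite _
  set Ω := Finset.univ.filter fun t : G => orderOf t = 2
  set F : ℂ := ∑ h : stabilizer G a, phi a (h : G) * (χ : G → ℂ) h
  have hΩ : Ω.card = Nat.card W * m := by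
    choose f hf hu using fun t : Ω => L.one_fix t (Finset.mem_filter.1 t.2).2
    rw [← Fintype.card_coe, ← Finset.card_univ,
      Finset.card_eq_sum_card_fiberwise (f := f) (t := Finset.univ) fun t _ => Finset.mem_univ _,
      Nat.card_eq_fintype_card, ← Finset.card_univ, ← smul_eq_mul, ← Finset.sum_const]
    refine Finset.sum_congr rfl fun p _ => ?_
    obtain ⟨h, rfl⟩ := exists_smul_eq G a p
    rw [← L.card_inv, ← Fintype.card_subtype, ← Nat.card_eq_fintype_card]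
    refine Nat.card_congr
      { toFun := fun t => ⟨h⁻¹ * t.1.1 * h, ?_, ?_⟩
        invFun := fun t => ⟨⟨h * t.1 * h⁻¹, Finset.mem_filter.2 ⟨Finset.mem_univ _, by rw [orderOf_conj, t.2.1]⟩⟩, ?_⟩
        left_inv := fun t => Subtype.ext (Subtype.ext (show h * (h⁻¹ * t.1.1 * h) * h⁻¹ = t.1.1 by group))
        right_inv := fun t => Subtype.ext (show h⁻¹ * (h * t.1 * h⁻¹) * h = t.1 by group) }
    · have := orderOf_conj h⁻¹ (t.1.1)
      rw [inv_inv] at this
      rw [this, (Finset.mem_filter.1 t.1.2).2]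
    · rw [mul_smul, mul_smul, inv_smul_eq_iff]
      have h1 := hf t.1
      rwa [t.2] at h1
    · refine (hu _ _ ?_).symm
      show (h * t.1 * h⁻¹) • (h • a) = h • a
      rw [mul_smul, mul_smul, inv_smul_smul, t.2.2]
  have htrΩ : ∀ t ∈ Ω, ∃ g ∈ (⊤ : Subgroup G), g * t₀ * g⁻¹ = t := by
    intro t htΩ
    have h2 : orderOf t = 2 := (Finset.mem_filter.1 htΩ).2
    obtain ⟨p, hp, -⟩ := L.one_fix t h2
    obtain ⟨h, rfl⟩ := exists_smul_eq G a p
    obtain ⟨k, hk, hk'⟩ := L.regular t₀ (h⁻¹ * t * h) ht hta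
      (by have := orderOf_conj h⁻¹ t; rw [inv_inv] at this; rw [this, h2])
      (by rw [mul_smul, mul_smul, hp, inv_smul_smul])
    refine ⟨h * k, trivial, ?_⟩
    rw [show h * k * t₀ * (h * k)⁻¹ = h * (k * t₀ * k⁻¹) * h⁻¹ by group, hk']
    group
  have hcent : ∀ g : G, ∑ t ∈ Ω, (χ : G → ℂ) (t * g) =
      (Ω.card : ℂ) * ((χ : G → ℂ) g * (χ : G → ℂ) t₀ / (χ : G → ℂ) 1) := by
    intro g
    have h1 := card_eq_card_mul (G := G) (⊤ : Subgroup G) (fun g t => g * t * g⁻¹) (fun g g' t => by group)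
      (fun t => by simp) Ω (q₀ := t₀)
      (fun h _ => Finset.mem_filter.2 ⟨Finset.mem_univ _, by rw [orderOf_conj, ht]⟩) htrΩ
    set N := Nat.card {g : (⊤ : Subgroup G) // (g : G) * t₀ * (g : G)⁻¹ = t₀}
    rw [Subgroup.card_top] at h1
    have h2 : ∑ h : G, (χ : G → ℂ) (g * (h * t₀ * h⁻¹)) = (N : ℂ) * ∑ t ∈ Ω, (χ : G → ℂ) (t * g) := by
      rw [← Fintype.sum_equiv Subgroup.topEquiv.toEquiv (fun h : (⊤ : Subgroup G) =>
          (χ : G → ℂ) (g * ((h : G) * t₀ * (h : G)⁻¹))) _ (fun _ => rfl),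
        ← Finset.sum_fiberwise_of_maps_to (s := (Finset.univ : Finset (⊤ : Subgroup G))) (t := Ω)
          (g := fun h => (h : G) * t₀ * (h : G)⁻¹)
          (fun h _ => Finset.mem_filter.2 ⟨Finset.mem_univ _, by rw [orderOf_conj, ht]⟩), Finset.mul_sum]
      refine Finset.sum_congr rfl fun t htΩ => ?_
      rw [Finset.sum_congr rfl (g := fun _ => (χ : G → ℂ) (t * g)) fun h hh => ?_, Finset.sum_const,
        nsmul_eq_mul, ← Fintype.card_subtype, ← Nat.card_eq_fintype_card]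
      · congr 2
        obtain ⟨c, -, hc⟩ := htrΩ t htΩ
        refine Nat.card_congr
          { toFun := fun h => ⟨⟨c⁻¹ * h.1, trivial⟩, ?_⟩
            invFun := fun h => ⟨⟨c * h.1, trivial⟩, ?_⟩
            left_inv := fun h => Subtype.ext (Subtype.ext (mul_inv_cancel_left c _))
            right_inv := fun h => Subtype.ext (Subtype.ext (inv_mul_cancel_left c _)) }
        · show c⁻¹ * h.1 * t₀ * (c⁻¹ * h.1)⁻¹ = t₀
          rw [show c⁻¹ * h.1 * t₀ * (c⁻¹ * h.1)⁻¹ = c⁻¹ * ((h.1 : G) * t₀ * (h.1 : G)⁻¹) * c by group,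
            show (h.1 : G) * t₀ * (h.1 : G)⁻¹ = t from h.2, ← hc]
          group
        · show c * h.1 * t₀ * (c * h.1)⁻¹ = t
          rw [show c * h.1 * t₀ * (c * h.1)⁻¹ = c * ((h.1 : G) * t₀ * (h.1 : G)⁻¹) * c⁻¹ by group,
            show (h.1 : G) * t₀ * (h.1 : G)⁻¹ = t₀ from h.2, hc]
      · rw [(Finset.mem_filter.1 hh).2, IsClassFunction.mul_comm hcl]
    rw [IsIrrCharacter.sum_mul_conjugate χ.2, h1] at h2
    have hN : (N : ℂ) ≠ 0 := by
      intro e
      rw [Nat.cast_eq_zero] at e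
      rw [e, mul_zero] at h1
      exact Nat.card_pos.ne' h1
    apply mul_left_cancel₀ hN
    rw [← h2]
    push_cast
    ring
  have h3 : ∑ t ∈ Ω, ∑ h : stabilizer G a, phi a (h : G) * (χ : G → ℂ) (t * h) =
      (Ω.card : ℂ) * ((χ : G → ℂ) t₀ / (χ : G → ℂ) 1) * F := by
    rw [Finset.sum_comm, Finset.mul_sum]
    refine Finset.sum_congr rfl fun h _ => ?_
    rw [← Finset.mul_sum, hcent]
    ring
  have hfixed : ∑ t ∈ Ω.filter (fun t => t • a = a),
      ∑ h : stabilizer G a, phi a (h : G) * (χ : G → ℂ) (t * h) = (m : ℂ) * F := by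
    have hS : Ω.filter (fun t => t • a = a) =
        Finset.univ.filter fun t : G => orderOf t = 2 ∧ t • a = a := by
      rw [Finset.filter_filter]
    rw [hS, ← L.card_S, ← nsmul_eq_mul, ← Finset.sum_const]
    refine Finset.sum_congr rfl fun t htS => ?_
    obtain ⟨h1, h2⟩ := (Finset.mem_filter.1 htS).2
    let ts : stabilizer G a := ⟨t, mem_stabilizer_iff.2 h2⟩
    refine Fintype.sum_equiv (Equiv.mulLeft ts) _ _ fun h => ?_
    show phi a (h : G) * (χ : G → ℂ) (t * h) = phi a (t * h) * (χ : G → ℂ) (t * h)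
    congr 1
    rw [L.phi_eq, L.phi_eq]
    congr 2
    refine congrArg Finset.card (Finset.filter_congr fun s hs => ?_)
    obtain ⟨h3, h4⟩ := (Finset.mem_filter.1 hs).2
    have hts : t * s = s * t := L.comm_inv t s h1 h3 h2 h4
    constructor
    · intro e
      rw [mul_assoc, e, ← mul_assoc, hts, mul_assoc]
    · intro e
      rw [mul_assoc, ← mul_assoc s t, ← hts, mul_assoc] at e
      exact mul_left_cancel e
  have hmoved : ∑ t ∈ Ω.filter (fun t => ¬ t • a = a),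
      ∑ h : stabilizer G a, phi a (h : G) * (χ : G → ℂ) (t * h) = 0 := by
    rw [← Finset.sum_fiberwise_of_maps_to (g := fun t => t • a) (t := (Finset.univ : Finset W).erase a)
      (fun t ht' => Finset.mem_erase.2 ⟨(Finset.mem_filter.1 ht').2, Finset.mem_univ _⟩)]
    refine Finset.sum_eq_zero fun q hq => ?_
    have hqa := Finset.ne_of_mem_erase hq
    obtain ⟨h₀, hh₀, hh₀b⟩ := L.trans_a L.hab.symm hqa
    have hh₀a : h₀ • a = a := mem_stabilizer_iff.1 hh₀
    let j : K → G := fun k => h₀ * (u * k) * h₀⁻¹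
    have hj : Function.Injective j := fun p q e =>
      Subtype.ext (mul_left_cancel (mul_left_cancel (mul_right_cancel e)))
    have himg : (Ω.filter (fun t => ¬ t • a = a)).filter (fun t => t • a = q) =
        (Finset.univ : Finset K).map ⟨j, hj⟩ := by
      symm
      refine Finset.eq_of_subset_of_card_le ?_ ?_
      · intro t ht'
        obtain ⟨k, -, rfl⟩ := Finset.mem_map.1 ht'
        have e : j k • a = q := by
          show (h₀ * (u * k) * h₀⁻¹) • a = q
          rw [mul_smul, mul_smul, show h₀⁻¹ • a = a from inv_smul_eq_iff.2 hh₀a.symm, (L.uk_inv k.2).2, hh₀b]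
        refine Finset.mem_filter.2 ⟨Finset.mem_filter.2 ⟨Finset.mem_filter.2 ⟨Finset.mem_univ _, ?_⟩, ?_⟩, e⟩
        · show orderOf (h₀ * (u * k) * h₀⁻¹) = 2
          rw [orderOf_conj, (L.uk_inv k.2).1]
        · show ¬ j k • a = a
          rw [e]; exact hqa
      · rw [Finset.card_map, Finset.card_univ, ← Nat.card_eq_fintype_card, L.card_K, ← L.count q hqa,
          Nat.card_eq_fintype_card, Fintype.card_subtype]
        refine Finset.card_le_card fun t ht' => ?_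
        obtain ⟨h1, h2⟩ := Finset.mem_filter.1 ht'
        exact Finset.mem_filter.2 ⟨Finset.mem_univ _, (Finset.mem_filter.1 (Finset.mem_filter.1 h1).1).2, h2⟩
    rw [himg, Finset.sum_map]
    simp only [Function.Embedding.coeFn_mk]
    have hsub : ∀ k : K, ∑ h : stabilizer G a, phi a (h : G) * (χ : G → ℂ) (j k * h) =
        ∑ g : stabilizer G a, phi a ((k : G)⁻¹ * g) * (χ : G → ℂ) (u * g) := by
      intro k
      let h₀s : stabilizer G a := ⟨h₀, hh₀⟩
      let ks : stabilizer G a := ⟨k, mem_stabilizer_iff.2 (L.K_fix k k.2).1⟩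
      refine Fintype.sum_equiv ((MulAut.conj h₀s⁻¹).toEquiv.trans (Equiv.mulLeft ks)) _ _ fun h => ?_
      show phi a (h : G) * (χ : G → ℂ) (h₀ * (u * k) * h₀⁻¹ * h) =
        phi a ((k : G)⁻¹ * (k * (h₀⁻¹ * h * h₀⁻¹⁻¹))) * (χ : G → ℂ) (u * (k * (h₀⁻¹ * h * h₀⁻¹⁻¹)))
      have e1 : phi a ((h₀⁻¹ * h * h₀⁻¹⁻¹ : G)) = phi a (h : G) := by
        have := phi_conj h₀⁻¹ (h : G) a
        rwa [show h₀⁻¹ • a = a from inv_smul_eq_iff.2 hh₀a.symm] at this
      rw [inv_mul_cancel_left, e1]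
      congr 1
      rw [← hcl (h₀ * (u * k) * h₀⁻¹ * h) h₀⁻¹]
      congr 1
      group
    rw [Finset.sum_congr rfl fun k _ => hsub k, Finset.sum_comm]
    refine Finset.sum_eq_zero fun g _ => ?_
    rw [← Finset.sum_mul, Fintype.sum_equiv (Equiv.inv K) (fun k : K => phi a ((k : G)⁻¹ * g))
      (fun k : K => phi a ((k : G) * g)) fun k => by simp, L.sum_phi_K (mem_stabilizer_iff.1 g.2), zero_mul]
  rw [← Finset.sum_filter_add_sum_filter_not Ω (fun t => t • a = a), hfixed, hmoved, add_zero] at h3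
  have h4 : (Ω.card : ℂ) * ((χ : G → ℂ) t₀ / (χ : G → ℂ) 1) = m := (mul_right_cancel₀ hμ h3).symm
  rw [hΩ] at h4
  have hm0 : (m : ℂ) ≠ 0 := by
    have := L.seven_le
    exact_mod_cast (show m ≠ 0 by omega)
  have h1ne := IsIrrCharacter.apply_one_ne_zero χ.2
  push_cast at h4
  field_simp at h4
  exact h4.symm

theorem exists_mu [Fintype G] [DecidableEq G] [DecidableEq W] [Fintype (stabilizer G a)]
    (χ : Cfsg.IrrCharacter G) : ∃ μ : ℕ,
    ∑ h : stabilizer G a, phi a (h : G) * (χ : G → ℂ) h = (Nat.card (stabilizer G a) : ℂ) * μ := by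
  classical
  obtain ⟨t₀, ht, hta⟩ := L.exists_inv
  set C := Subgroup.centralizer ({t₀} : Set G)
  letI : Fintype C := Fintype.ofFinite _
  have hle : C ≤ stabilizer G a := fun g hg =>
    mem_stabilizer_iff.2 (L.eq_a ht hta (Subgroup.mem_centralizer_iff.1 hg t₀ rfl).symm)
  obtain ⟨p, hp⟩ := Glue.exists_avg_nat (isCharacter_irr χ) C
  obtain ⟨q, hq⟩ := Glue.exists_avg_nat (isCharacter_irr χ) (stabilizer G a)
  have hqp := Glue.avg_antitone (isCharacter_irr χ) hle hp hq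
  refine ⟨p - q, ?_⟩
  have h1 := L.sum_phi_mul ht hta (F := fun _ : G => (1 : ℂ)) (fun _ _ => rfl)
  simp only [mul_one, L.sum_sq_phi.2, Finset.sum_const, Finset.card_univ, ← Nat.card_eq_fintype_card,
    nsmul_eq_mul] at h1
  have hp' : ∑ c : C, (χ : G → ℂ) c = (Nat.card C : ℂ) * p := by
    rw [← hp, Glue.avg, ← mul_assoc, mul_inv_cancel₀ (Nat.cast_ne_zero.2 Nat.card_pos.ne'), one_mul]
  have hq' : ∑ c : stabilizer G a, (χ : G → ℂ) c = (Nat.card (stabilizer G a) : ℂ) * q := by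
    rw [← hq, Glue.avg, ← mul_assoc, mul_inv_cancel₀ (Nat.cast_ne_zero.2 Nat.card_pos.ne'), one_mul]
  rw [L.sum_phi_mul ht hta (IsIrrCharacter.isClassFunction χ.2), hp', hq', Nat.cast_sub hqp]
  linear_combination (-(p : ℂ)) * h1

theorem psi_one [Fintype G] [Fintype W] [DecidableEq G] [DecidableEq W] :
    psi (W := W) (1 : G) = (Nat.card W : ℂ) * ((m : ℂ) - 1) := by
  haveI := L.pretrans
  rw [psi, Finset.sum_congr rfl (g := fun _ => (m : ℂ) - 1) fun p _ => ?_, Finset.sum_const,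
    Finset.card_univ, Nat.card_eq_fintype_card, nsmul_eq_mul]
  obtain ⟨h, rfl⟩ := exists_smul_eq G a p
  rw [if_pos (one_smul _ _)]
  have := phi_conj h (1 : G) a
  rw [mul_one, mul_inv_cancel] at this
  rw [this, L.phi_one]

theorem psi_K [Fintype G] [Fintype W] [DecidableEq G] [DecidableEq W] {k : G} (hk : k ∈ K) (hk1 : k ≠ 1) :
    psi (W := W) k = -2 := by
  rw [psi, ← Finset.sum_subset (Finset.subset_univ ({a, b} : Finset W)) fun p _ hp => ?_,
    Finset.sum_pair L.hab, if_pos (L.K_fix k hk).1, if_pos (L.K_fix k hk).2, L.phi_u (L.K_fix k hk),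
    L.phi_K hk hk1]
  · norm_num
  · rw [if_neg fun e => ?_]
    simp only [Finset.mem_insert, Finset.mem_singleton, not_or] at hp
    rcases L.K_only k hk hk1 p e with h | h
    · exact hp.1 h
    · exact hp.2 h

/-- `|W| - 2` is a multiple of `m`. -/
theorem exists_card_W [Fintype G] [Fintype W] [DecidableEq W] : ∃ r : ℤ, (Nat.card W : ℤ) = 2 + m * r := by
  classical
  letI : Fintype K := Fintype.ofFinite _
  have h := Glue.avg_fixChar (X := G) (I := W) K
  have hsum : ∑ k : K, Glue.fixChar G W (k : G) = (Nat.card W : ℂ) + ((m - 1 : ℕ) : ℂ) * 2 := by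
    rw [← Finset.add_sum_erase _ _ (Finset.mem_univ (1 : K))]
    congr 1
    · simp [Glue.fixChar]
    · rw [Finset.sum_congr rfl (g := fun _ => (2 : ℂ)) fun k hk => ?_, Finset.sum_const,
        Finset.card_erase_of_mem (Finset.mem_univ _), Finset.card_univ, ← Nat.card_eq_fintype_card, L.card_K,
        nsmul_eq_mul]
      have hk1 : (k : G) ≠ 1 := fun e => Finset.ne_of_mem_erase hk (Subtype.ext e)
      show (Nat.card (fixedBy W (k : G)) : ℂ) = 2
      have e : fixedBy W (k : G) = {a, b} := by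
        ext p
        simp only [mem_fixedBy, Set.mem_insert_iff, Set.mem_singleton_iff]
        constructor
        · exact L.K_only k k.2 hk1 p
        · rintro (rfl | rfl)
          · exact (L.K_fix k k.2).1
          · exact (L.K_fix k k.2).2
      rw [e, Nat.card_coe_set_eq, Set.ncard_pair L.hab]
      norm_num
  refine ⟨(Nat.card (orbitRel.Quotient K W) : ℤ) - 2, ?_⟩
  rw [Glue.avg, hsum, L.card_K, inv_mul_eq_iff_eq_mul₀ (by have := L.seven_le; exact_mod_cast (show m ≠ 0 by omega))] at h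
  have h' : (Nat.card W : ℤ) + ((m - 1 : ℕ) : ℤ) * 2 = (m : ℤ) * (Nat.card (orbitRel.Quotient K W) : ℤ) := by
    exact_mod_cast h
  rw [Nat.cast_sub (show 1 ≤ m by have := L.seven_le; omega)] at h'
  push_cast at h'
  linarith

set_option maxHeartbeats 800000 in
theorem false_of_lin [Finite G] [Finite W] : False := by
  classical
  cases nonempty_fintype G
  cases nonempty_fintype W
  letI : Fintype K := Fintype.ofFinite _
  letI : Fintype (stabilizer G a) := Fintype.ofFinite _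
  obtain ⟨s, hs, hs13, hls, hbig⟩ := L.exists_s
  have hl := L.five_le
  have hsc : LinearExceptional.SC K l s :=
    { comm := L.K_comm
      cent := L.cent
      ti := fun g k hk hk1 hg => L.mem_norm_iff.2 (L.ti hk hk1 hg)
      card_norm := L.card_norm
      card_K := L.card_K.trans hs
      l_pos := L.lp.pos }
  obtain ⟨E, A, c, e, he, hEcard, hdeg, hval, hsq, hEd, hmu⟩ := LinearExceptional.exists_exceptional hsc hs13
  obtain ⟨t₀, ht, hta⟩ := L.exists_inv
  obtain ⟨r, hr⟩ := L.exists_card_W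
  choose μ hμ using L.exists_mu
  have hH0 : (Nat.card (stabilizer G a) : ℂ) ≠ 0 := Nat.cast_ne_zero.2 Nat.card_pos.ne'
  have hW0 : (Nat.card W : ℂ) ≠ 0 := by
    haveI : Nonempty W := ⟨a⟩
    exact Nat.cast_ne_zero.2 Nat.card_pos.ne'
  haveI := L.pretrans
  have hG : (Nat.card G : ℂ) = Nat.card W * Nat.card (stabilizer G a) := by
    rw [← Nat.cast_mul, ← index_stabilizer_of_transitive G a, Subgroup.index_mul_card]
  have hphireal : ∀ g : G, conj (phi a g) = phi a g := fun g => by simp [phi]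
  have hpsireal : ∀ g : G, conj (psi (W := W) g) = psi (W := W) g := fun g => by
    simp only [psi, map_sum]
    refine Finset.sum_congr rfl fun p _ => ?_
    split_ifs <;> simp [phi]
  have hcoef : ∀ χ : Cfsg.IrrCharacter G, Cfsg.classInner (psi (W := W)) (χ : G → ℂ) = (μ χ : ℂ) := by
    intro χ
    rw [Cfsg.classInner, L.pairing (F := fun g => conj ((χ : G → ℂ) g))
      (fun g h => congrArg conj (IsIrrCharacter.isClassFunction χ.2 g h)), hG]
    rw [show ∑ h : stabilizer G a, phi a (h : G) * conj ((χ : G → ℂ) h) =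
        conj (∑ h : stabilizer G a, phi a (h : G) * (χ : G → ℂ) h) by simp [map_sum, hphireal],
      hμ, map_mul, map_natCast, map_natCast]
    field_simp
  have hexp : ∀ g : G, psi (W := W) g = ∑ χ : Cfsg.IrrCharacter G, (μ χ : ℂ) * (χ : G → ℂ) g := fun g => by
    have := congrFun (IsClassFunction.eq_sum_irr (psi_conj (G := G) (W := W))) g
    simpa [hcoef] using this
  -- degrees
  have hx : ∀ χ : Cfsg.IrrCharacter G, μ χ ≠ 0 → ∃ y : ℤ, 1 ≤ y ∧
      (χ : G → ℂ) 1 = (Nat.card W : ℂ) * (y : ℂ) := by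
    intro χ h0
    have h1 := L.degree_eq χ ht hta (by rw [hμ]; exact mul_ne_zero hH0 (Nat.cast_ne_zero.2 h0))
    obtain ⟨d, hd, hd1⟩ := IsIrrCharacter.apply_one_eq χ.2
    have hz : IsIntegral ℤ ((χ : G → ℂ) t₀) := IsCharacter.isIntegral (isCharacter_irr _) t₀
    obtain ⟨y, hy⟩ := exists_int_of_isIntegral_rat hz (q := (d : ℚ) / (Nat.card W : ℚ)) (by
      push_cast
      rw [eq_div_iff hW0, ← hd1, h1, mul_comm])
    refine ⟨y, ?_, by rw [h1, hy]⟩
    have h2 : ((d : ℤ) : ℂ) = (((Nat.card W : ℤ) * y : ℤ) : ℂ) := by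
      push_cast
      rw [← hd1, h1, hy]
    have h3 : (d : ℤ) = (Nat.card W : ℤ) * y := by exact_mod_cast h2
    have h4 : (0 : ℤ) < (Nat.card W : ℤ) * y := by
      rw [← h3]; exact_mod_cast hd
    exact Int.add_one_le_iff.2 (pos_of_mul_pos_right h4 (Int.natCast_nonneg _))
  choose! y hy1 hy using hx
  let δ : Cfsg.IrrCharacter G → ℤ := fun χ => if χ ∈ E then e else 0
  have hdvd : ∀ χ, μ χ ≠ 0 → (m : ℤ) ∣ 2 * y χ - (A χ + 2 * l * δ χ) := by
    intro χ h0
    have h1 := hdeg χ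
    rw [hy χ h0, L.card_K] at h1
    have h2 : (Nat.card W : ℤ) * y χ = A χ + m * c χ + 2 * l * δ χ := by
      have h3 : (((Nat.card W : ℤ) * y χ : ℤ) : ℂ) =
          ((A χ + m * c χ + if χ ∈ E then 2 * l * e else 0 : ℤ) : ℂ) := by
        rw [← h1]; push_cast; ring
      have h4 : (Nat.card W : ℤ) * y χ = A χ + m * c χ + if χ ∈ E then 2 * l * e else 0 := by exact_mod_cast h3
      rw [h4]
      simp only [δ, mul_ite, mul_zero]
    refine ⟨c χ - r * y χ, ?_⟩
    rw [hr] at h2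
    linear_combination h2
  obtain ⟨hμE, hsumA⟩ := hmu (fun χ => (μ χ : ℤ)) (-2) fun k hk => by
    rw [Int.cast_neg, Int.cast_ofNat, ← L.psi_K k.2 (fun h => hk (Subtype.ext h)), hexp]
    exact Finset.sum_congr rfl fun χ _ => by push_cast; ring
  have hnorm : ∑ χ : Cfsg.IrrCharacter G, (μ χ : ℤ) * μ χ = 2 * s + 1 := by
    have h1 : Cfsg.classInner (psi (W := W) : G → ℂ) (psi (W := W)) = 2 * (s : ℂ) + 1 := by
      rw [Cfsg.classInner, Finset.sum_congr rfl fun g _ => by rw [hpsireal],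
        L.pairing (psi_conj (G := G) (W := W)), L.norm_psi hs, hG]
      field_simp
    rw [classInner_eq_sum_irr (psi_conj (G := G) (W := W))] at h1
    have h2 : ((∑ χ : Cfsg.IrrCharacter G, (μ χ : ℤ) * μ χ : ℤ) : ℂ) = ((2 * (s : ℤ) + 1 : ℤ) : ℂ) := by
      push_cast
      rw [← h1]
      refine Finset.sum_congr rfl fun χ _ => ?_
      rw [← classInner_conj_symm (psi (W := W)) (χ : G → ℂ), hcoef, map_natCast]
    exact_mod_cast h2
  have hsumy : ∑ χ : Cfsg.IrrCharacter G, (μ χ : ℤ) * y χ = (m : ℤ) - 1 := by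
    have h1 := L.psi_one
    rw [hexp] at h1
    have h2 : ∀ χ : Cfsg.IrrCharacter G,
        (μ χ : ℂ) * (χ : G → ℂ) 1 = (Nat.card W : ℂ) * (((μ χ : ℤ) * y χ : ℤ) : ℂ) := by
      intro χ
      by_cases h0 : μ χ = 0
      · simp [h0]
      · rw [hy χ h0]; push_cast; ring
    rw [Finset.sum_congr rfl fun χ _ => h2 χ, ← Finset.mul_sum] at h1
    have h3 : ((∑ χ : Cfsg.IrrCharacter G, (μ χ : ℤ) * y χ : ℤ) : ℂ) = (((m : ℤ) - 1 : ℤ) : ℂ) := by
      push_cast
      have := mul_left_cancel₀ hW0 h1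
      push_cast at this
      exact this
    exact_mod_cast h3
  -- the trivial character
  let one : Cfsg.IrrCharacter G := ⟨fun _ => 1, isIrrCharacter_one⟩
  have hone0 : μ one = 0 := by
    have h1 := hμ one
    rw [show ∑ h : stabilizer G a, phi a (h : G) * ((one : Cfsg.IrrCharacter G) : G → ℂ) h =
      ∑ h : stabilizer G a, phi a (h : G) from Finset.sum_congr rfl fun h _ => mul_one _, L.sum_sq_phi.2] at h1
    exact_mod_cast ((mul_eq_zero.1 h1.symm).resolve_left hH0)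
  have hone1 : (s : ℤ) * A one - δ one = s := by
    have h1 := hval one
    have h2 : ((2 * l * s : ℤ) : ℂ) = ((2 * l * ((s : ℤ) * A one - δ one) : ℤ) : ℂ) := by
      rw [← h1]
      show _ = ∑ _k : K, (1 : ℂ) - 1
      rw [Finset.sum_const, Finset.card_univ, ← Nat.card_eq_fintype_card, L.card_K, nsmul_eq_mul, mul_one, hs]
      push_cast
      ring
    have h3 : 2 * (l : ℤ) * s = 2 * l * ((s : ℤ) * A one - δ one) := by exact_mod_cast h2
    exact (mul_left_cancel₀ (by omega) h3).symm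
  have hs1 : (1 : ℤ) ≤ s := by omega
  have hsqle : ∀ T : Finset (Cfsg.IrrCharacter G), one ∉ T →
      ∑ χ ∈ T, ((s : ℤ) * A χ - δ χ) ^ 2 + (s : ℤ) ^ 2 ≤ (s : ℤ) * m := by
    intro T hT
    rw [L.card_K] at hsq
    rw [← hsq]
    calc ∑ χ ∈ T, ((s : ℤ) * A χ - δ χ) ^ 2 + (s : ℤ) ^ 2
        = ∑ χ ∈ insert one T, ((s : ℤ) * A χ - δ χ) ^ 2 := by
          rw [Finset.sum_insert hT, hone1, add_comm]
      _ ≤ _ := Finset.sum_le_sum_of_subset_of_nonneg (Finset.subset_univ _) fun _ _ _ => sq_nonneg _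
  have hmI : (m : ℤ) = 2 * (l : ℤ) * s + 1 := by exact_mod_cast hs
  set C := (Finset.univ : Finset (Cfsg.IrrCharacter G)).filter fun χ => μ χ ≠ 0 ∧ χ ∉ E with hC
  have hCμ : ∀ χ ∈ C, μ χ ≠ 0 := fun χ hχ => (Finset.mem_filter.1 hχ).2.1
  have hCδ : ∀ χ ∈ C, δ χ = 0 := fun χ hχ => if_neg (Finset.mem_filter.1 hχ).2.2
  have hCone : one ∉ C := fun h => hCμ one h hone0
  have hsplit : ∀ F : Cfsg.IrrCharacter G → ℤ,
      ∑ χ, (μ χ : ℤ) * F χ = ∑ χ ∈ C, (μ χ : ℤ) * F χ + ∑ χ ∈ E, (μ χ : ℤ) * F χ := by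
    intro F
    rw [← Finset.sum_union (Finset.disjoint_left.2 fun χ h1 h2 => (Finset.mem_filter.1 h1).2.2 h2)]
    refine (Finset.sum_subset (Finset.subset_univ _) fun χ _ hχ => ?_).symm
    simp only [Finset.mem_union, hC, Finset.mem_filter, Finset.mem_univ, true_and, not_or, not_and,
      not_not] at hχ
    by_cases h0 : μ χ = 0
    · simp [h0]
    · exact absurd (hχ.1 h0) hχ.2
  rw [hsplit] at hsumy hnorm
  have hsumA' : ∑ χ ∈ C, (μ χ : ℤ) * ((s : ℤ) * A χ - δ χ) + ∑ χ ∈ E, (μ χ : ℤ) * ((s : ℤ) * A χ - δ χ) =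
      -2 * s := by rw [← hsplit]; exact hsumA
  have hCA : ∑ χ ∈ C, (μ χ : ℤ) * ((s : ℤ) * A χ - δ χ) = (s : ℤ) * ∑ χ ∈ C, (μ χ : ℤ) * A χ := by
    rw [Finset.mul_sum]
    exact Finset.sum_congr rfl fun χ hχ => by rw [hCδ χ hχ]; ring
  have hCsq : ∑ χ ∈ C, ((s : ℤ) * A χ - δ χ) ^ 2 = (s : ℤ) ^ 2 * ∑ χ ∈ C, A χ * A χ := by
    rw [Finset.mul_sum]
    exact Finset.sum_congr rfl fun χ hχ => by rw [hCδ χ hχ]; ring
  rw [hCA] at hsumA'
  have hlm : 2 * (l : ℤ) < m := by rw [hmI]; nlinarith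
  have hμ1 : ∀ χ ∈ C, (1 : ℤ) ≤ (μ χ : ℤ) := fun χ hχ => by
    have := Nat.pos_of_ne_zero (hCμ χ hχ)
    exact_mod_cast this
  have hCd : ∀ χ ∈ C, (m : ℤ) ∣ 2 * y χ - A χ := fun χ hχ => by
    have := hdvd χ (hCμ χ hχ)
    rwa [hCδ χ hχ, mul_zero, add_zero] at this
  by_cases hE : ∀ χ ∈ E, μ χ = 0
  · -- no exceptional constituent
    have hE0 : ∀ F : Cfsg.IrrCharacter G → ℤ, ∑ χ ∈ E, (μ χ : ℤ) * F χ = 0 := fun F =>
      Finset.sum_eq_zero fun χ hχ => by simp [hE χ hχ]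
    rw [hE0, add_zero] at hsumy hnorm hsumA'
    have h1 : ∑ χ ∈ C, (μ χ : ℤ) * A χ = -2 :=
      mul_left_cancel₀ (show (s : ℤ) ≠ 0 by omega) (by rw [hsumA']; ring)
    refine LinearCount.false_of_regular (l := (l : ℤ)) (s := (s : ℤ)) (m := (m : ℤ)) C
      (fun χ => (μ χ : ℤ)) y A hs1 (by omega) (by exact_mod_cast hls) hlm hμ1
      (fun χ hχ => hy1 χ (hCμ χ hχ)) hCd hnorm hsumy h1 ?_
    have h2 := hsqle C hCone
    rw [hCsq] at h2
    by_contra hh
    nlinarith [mul_le_mul_of_nonneg_left (show 2 * (l : ℤ) + 1 ≤ ∑ χ ∈ C, A χ * A χ by omega) (sq_nonneg (s : ℤ))]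
  -- exceptional constituents
  push Not at hE
  obtain ⟨χ₀, hχ₀, hμ₀⟩ := hE
  have hs3 : 3 ≤ s := by
    rcases hs13 with h | h
    · rw [if_pos h, Finset.card_eq_zero] at hEcard
      exact absurd hχ₀ (by simp [hEcard])
    · exact h
  obtain ⟨hl5, h6⟩ := hbig hs3
  rw [if_neg (by omega)] at hEcard
  have hμc : ∀ χ ∈ E, (μ χ : ℤ) = μ χ₀ := fun χ hχ => hμE χ hχ χ₀ hχ₀
  have hq1 : (μ χ₀ : ℤ) = 1 := by
    have h1 : ∑ χ ∈ E, (μ χ : ℤ) * μ χ = (s : ℤ) * ((μ χ₀ : ℤ) * μ χ₀) := by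
      rw [Finset.sum_congr rfl fun χ hχ => by rw [hμc χ hχ], Finset.sum_const, hEcard, nsmul_eq_mul]
    have h2 : (0 : ℤ) ≤ ∑ χ ∈ C, (μ χ : ℤ) * μ χ := Finset.sum_nonneg fun χ _ => mul_self_nonneg _
    have h3 : (1 : ℤ) ≤ μ χ₀ := by exact_mod_cast Nat.pos_of_ne_zero hμ₀
    by_contra hne
    have : (2 : ℤ) ≤ μ χ₀ := by omega
    nlinarith [mul_le_mul this this (by norm_num) (by linarith)]
  have hμ1' : ∀ χ ∈ E, μ χ ≠ 0 := fun χ hχ h => by
    have := hμc χ hχ
    rw [h, hq1] at this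
    simp at this
  have honeE : one ∉ E := fun h => hμ1' one h hone0
  have hδE : ∀ χ ∈ E, δ χ = e := fun χ hχ => if_pos hχ
  have hyE : ∀ χ ∈ E, y χ = y χ₀ := fun χ hχ => by
    have h1 := hEd χ hχ χ₀ hχ₀
    rw [hy χ (hμ1' χ hχ), hy χ₀ hμ₀] at h1
    exact_mod_cast mul_left_cancel₀ hW0 h1
  have hAb : ∀ χ ∈ E, -(2 * (l : ℤ)) ≤ A χ ∧ A χ ≤ 2 * l := by
    intro χ hχ
    have h2 := hsqle {χ} (by simpa using fun h : one = χ => honeE (h ▸ hχ))
    rw [Finset.sum_singleton, hδE χ hχ] at h2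
    have hs3' : (3 : ℤ) ≤ s := by exact_mod_cast hs3
    have hls0 : (0 : ℤ) ≤ 2 * (l : ℤ) * s := by positivity
    have hlt : (s : ℤ) * m < (2 * (l : ℤ) * s + 2) * (2 * (l : ℤ) * s + 2) := by
      have hl1 : (1 : ℤ) ≤ l := by omega
      have h5 : (s : ℤ) ≤ 2 * (l : ℤ) * s := le_mul_of_one_le_left (by omega) (by omega)
      have h7 : (s : ℤ) * (2 * (l : ℤ) * s) ≤ (2 * (l : ℤ) * s) * (2 * (l : ℤ) * s) :=
        mul_le_mul_of_nonneg_right h5 hls0
      rw [hmI]
      linarith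
    have hsq0 : (0 : ℤ) ≤ (s : ℤ) ^ 2 := sq_nonneg _
    constructor
    · by_contra h
      have h5 : (s : ℤ) * A χ ≤ s * (-(2 * (l : ℤ)) - 1) :=
        mul_le_mul_of_nonneg_left (by omega) (by omega)
      have hh : 2 * (l : ℤ) * s + 2 ≤ -((s : ℤ) * A χ - e) := by
        rcases he with e1 | e1 <;> linarith
      have h7 := mul_le_mul hh hh (by linarith) (by linarith)
      linarith
    · by_contra h
      have h5 : (s : ℤ) * (2 * (l : ℤ) + 1) ≤ s * A χ :=
        mul_le_mul_of_nonneg_left (by omega) (by omega)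
      have hh : 2 * (l : ℤ) * s + 2 ≤ (s : ℤ) * A χ - e := by
        rcases he with e1 | e1 <;> linarith
      have h7 := mul_le_mul hh hh (by linarith) (by linarith)
      linarith
  have hbE : ∀ χ ∈ E, A χ = A χ₀ := by
    intro χ hχ
    have h1 := hdvd χ (hμ1' χ hχ)
    have h2 := hdvd χ₀ hμ₀
    rw [hδE χ hχ, hyE χ hχ] at h1
    rw [hδE χ₀ hχ₀] at h2
    have h3 : (m : ℤ) ∣ A χ₀ - A χ := by
      have := dvd_sub h1 h2
      rwa [show 2 * y χ₀ - (A χ + 2 * l * e) - (2 * y χ₀ - (A χ₀ + 2 * l * e)) = A χ₀ - A χ by ring] at this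
    obtain ⟨j, hj⟩ := h3
    have h6' : 6 * (l : ℤ) < m := by exact_mod_cast h6
    obtain ⟨b1, b2⟩ := hAb χ hχ
    obtain ⟨b3, b4⟩ := hAb χ₀ hχ₀
    have : j = 0 := by
      by_contra hne
      rcases (by omega : j ≤ -1 ∨ 1 ≤ j) with h | h <;> nlinarith
    subst this
    linarith
  have hEsum : ∀ (F : Cfsg.IrrCharacter G → ℤ) (v : ℤ), (∀ χ ∈ E, F χ = v) →
      ∑ χ ∈ E, (μ χ : ℤ) * F χ = (s : ℤ) * v := fun F v hF => by
    rw [Finset.sum_congr rfl fun χ hχ => by rw [hμc χ hχ, hq1, one_mul, hF χ hχ], Finset.sum_const, hEcard,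
      nsmul_eq_mul]
  rw [hEsum _ 1 fun χ hχ => (hμc χ hχ).trans hq1] at hnorm
  rw [hEsum _ (y χ₀) hyE] at hsumy
  rw [hEsum _ ((s : ℤ) * A χ₀ - e) fun χ hχ => by rw [hbE χ hχ, hδE χ hχ]] at hsumA'
  refine LinearCount.false_of_exceptional (l := (l : ℤ)) (s := (s : ℤ)) (m := (m : ℤ)) C
    (fun χ => (μ χ : ℤ)) y A (y χ₀) (A χ₀) e (by exact_mod_cast hl5) (by exact_mod_cast hs3)
    (by exact_mod_cast hls) hmI (by exact_mod_cast h6) he (hy1 χ₀ hμ₀) ?_ hμ1
    (fun χ hχ => hy1 χ (hCμ χ hχ)) hCd (by linarith) (by linarith) ?_ ?_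
  · have := hdvd χ₀ hμ₀
    rwa [hδE χ₀ hχ₀] at this
  · have h1 : (s : ℤ) * (∑ χ ∈ C, (μ χ : ℤ) * A χ + s * A χ₀ - e) = (s : ℤ) * (-2) := by linear_combination hsumA'
    exact mul_left_cancel₀ (by omega) h1
  · have hdis : Disjoint C E := Finset.disjoint_left.2 fun χ h1 h2 => (Finset.mem_filter.1 h1).2.2 h2
    have h2 := hsqle (C ∪ E) (by simp [hCone, honeE])
    rw [Finset.sum_union hdis, hCsq, Finset.sum_congr rfl (g := fun _ => ((s : ℤ) * A χ₀ - e) ^ 2)
      (s₁ := E) fun χ hχ => by rw [hbE χ hχ, hδE χ hχ], Finset.sum_const, hEcard, nsmul_eq_mul, hmI] at h2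
    have hee : e ^ 2 = 1 := by rcases he with h | h <;> simp [h]
    have h3 : (s : ℤ) * ((s : ℤ) * (∑ χ ∈ C, A χ * A χ + s * (A χ₀ * A χ₀) - 2 * e * A χ₀ + 1) + 1) ≤
        (s : ℤ) * (2 * l * s + 1) := by
      have expand : (s : ℤ) * ((s : ℤ) * (∑ χ ∈ C, A χ * A χ + s * (A χ₀ * A χ₀) - 2 * e * A χ₀ + 1) + 1) =
          (s : ℤ) ^ 2 * (∑ χ ∈ C, A χ * A χ) + (s : ℤ) * ((s : ℤ) * A χ₀ - e) ^ 2 + (s : ℤ) ^ 2 := by
        linear_combination (-(s : ℤ)) * hee
      rw [expand]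
      exact h2
    have h4 := le_of_mul_le_mul_left h3 (by omega)
    by_contra h
    nlinarith [mul_le_mul_of_nonneg_left (show 2 * (l : ℤ) + 1 ≤
      ∑ χ ∈ C, A χ * A χ + s * (A χ₀ * A χ₀) - 2 * e * A χ₀ + 1 by omega) (show (0 : ℤ) ≤ s by omega)]

end Lin

end CfsgLib.BenderSplit.LinearArith
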