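import Cfsg.Agent.Lib.LocalEven.BenderSplit.Pure

/-!
# From semiregularity to the splitting

If the involutions fixing a coset commute and the subgroup generated by the `2`-elements of its
stabiliser meets a two-point stabiliser trivially, that subgroup is a `2`-group transitive on the
other cosets.
-/

set_option autoImplicit false
set_option linter.style.haveILetI false

namespace CfsgLib.LocalEven.BenderSplit

open Subgroup MulAction CfsgLib.Involution.Dihedral CfsgLib.Involution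
  CfsgLib.LocalEven.BenderTransitive CfsgLib.LocalEven.SwapInjective CfsgLib.LocalEven.StrongCore

universe u

variable {G : Type u} [Group G]

/-- A homomorphism killing the elements of `2`-power order has image of odd order. -/
theorem odd_card_range_of_two {X Y : Type*} [Group X] [Group Y] [Finite X] (ψ : X →* Y)
    (h : ∀ (x : X) (i : ℕ), x ^ 2 ^ i = 1 → ψ x = 1) : Odd (Nat.card ψ.range) := by
  rw [← Nat.not_even_iff_odd, even_iff_two_dvd]
  intro h2
  haveI := Fact.mk Nat.prime_two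
  haveI : Finite ψ.range := Finite.of_surjective ψ.rangeRestrict ψ.rangeRestrict_surjective
  obtain ⟨f, hf⟩ := exists_prime_orderOf_dvd_card' (G := ψ.range) 2 h2
  obtain ⟨x, hx⟩ := f.2
  rw [← orderOf_coe, ← hx] at hf
  obtain ⟨i, m, hm, he⟩ := Nat.exists_eq_two_pow_mul_odd (orderOf_pos x).ne'
  have h1 : ψ (x ^ m) = 1 := h _ i (by rw [← pow_mul, mul_comm, ← he, pow_orderOf_eq_one])
  rw [map_pow] at h1
  obtain ⟨j, rfl⟩ := hm
  rw [pow_succ, pow_mul, ← hf, pow_orderOf_eq_one, one_pow, one_mul] at h1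
  rw [h1, orderOf_one] at hf
  exact absurd hf (by norm_num)

/-- In a cyclic subgroup there is one subgroup of each prime order. -/
theorem mem_zpowers_of_cyclic {A : Type*} [Group A] [Finite A] {F : Subgroup A} [IsCyclic F]
    {q : ℕ} [hq : Fact q.Prime] {f f' : A} (hf : f ∈ F) (hfo : orderOf f = q) (hf' : f' ∈ F)
    (hf'q : f' ^ q = 1) : f' ∈ zpowers f := by
  classical
  by_contra hne
  haveI := Fintype.ofFinite F
  have h1 := IsCyclic.card_pow_eq_one_le (α := F) hq.out.pos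
  let g : Option (zpowers f) → {x : F // x ^ q = 1} := fun o => match o with
    | none => ⟨⟨f', hf'⟩, Subtype.ext hf'q⟩
    | some x => ⟨⟨x, zpowers_le.2 hf x.2⟩, Subtype.ext (by
        obtain ⟨i, hi⟩ := mem_zpowers_iff.1 x.2
        show (x : A) ^ q = 1
        rw [← hi, ← zpow_natCast, ← zpow_mul, mul_comm, zpow_mul, zpow_natCast, ← hfo,
          pow_orderOf_eq_one, one_zpow])⟩
  have hg : Function.Injective g := by
    rintro (_ | x) (_ | y) e
    · rfl
    · exact absurd (show f' ∈ zpowers f from by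
        rw [show f' = (y : A) from congrArg (fun z : {x : F // x ^ q = 1} => ((z : F) : A)) e]; exact y.2) hne
    · exact absurd (show f' ∈ zpowers f from by
        rw [show f' = (x : A) from (congrArg (fun z : {x : F // x ^ q = 1} => ((z : F) : A)) e).symm]; exact x.2) hne
    · exact congrArg some (Subtype.ext (congrArg (fun z : {x : F // x ^ q = 1} => ((z : F) : A)) e))
  have h2 := Nat.card_le_card_of_injective g hg
  rw [Finite.card_option, Nat.card_zpowers, hfo, Nat.card_eq_fintype_card,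
    Fintype.card_subtype] at h2
  omega

variable {H : Subgroup G}

/-- The elements of `H` mapping `b` into its `T`-orbit. -/
def blockStab (H T : Subgroup G) (hT : H ≤ normalizer (T : Set G)) (b : G ⧸ H) : Subgroup G where
  carrier := {g | g ∈ H ∧ ∃ τ ∈ T, τ • b = g • b}
  one_mem' := ⟨one_mem _, 1, one_mem _, rfl⟩
  mul_mem' := by
    rintro g k ⟨hg, τ, hτ, e⟩ ⟨hk, σ, hσ, e'⟩
    refine ⟨mul_mem hg hk, g * σ * g⁻¹ * τ,
      mul_mem (BenderTransitive.conj_mem_of_mem_normalizer (hT hg) hσ) hτ, ?_⟩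
    rw [mul_smul, e, smul_smul, inv_mul_cancel_right, mul_smul, e', ← mul_smul]
  inv_mem' := by
    rintro g ⟨hg, τ, hτ, e⟩
    refine ⟨inv_mem hg, (g⁻¹ * τ * g)⁻¹,
      inv_mem (BenderTransitive.conj_inv_mem_of_mem_normalizer (hT hg) hτ), ?_⟩
    rw [inv_smul_eq_iff, smul_smul, mul_inv_cancel_right, mul_smul, e, inv_smul_smul]

theorem mem_blockStab_of_fixes {T : Subgroup G} {hT : H ≤ normalizer (T : Set G)} {b : G ⧸ H}
    {g : G} (hg : g ∈ H) (hgb : g • b = b) : g ∈ blockStab H T hT b :=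
  ⟨hg, 1, one_mem _, by rw [one_smul, hgb]⟩

theorem mem_blockStab_of_mem {T : Subgroup G} {hT : H ≤ normalizer (T : Set G)} {b : G ⧸ H}
    {g : G} (hTH : T ≤ H) (hg : g ∈ T) : g ∈ blockStab H T hT b :=
  ⟨hTH hg, g, hg, rfl⟩

theorem smul_one_eq_iff {g : G} :
    g • ((1 : G) : G ⧸ H) = ((1 : G) : G ⧸ H) ↔ g ∈ H := by
  rw [SE.fixes_mk_iff]; simp

variable [Finite G]

/-- An element of prime order whose other fixed points lie in the orbit of `b` is conjugate into the
block stabiliser only from within it. -/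
theorem mem_blockStab_of_conj {T : Subgroup G} {hT : H ≤ normalizer (T : Set G)} (hTH : T ≤ H)
    (hT2 : IsPGroup 2 T) {b : G ⧸ H} (hb : b ≠ ((1 : G) : G ⧸ H))
    (hreg : ∀ τ ∈ T, τ • b = b → τ = 1) {r : ℕ} [hr : Fact r.Prime] (hr2 : r ≠ 2) {y : G}
    (hy : y ^ r = 1)
    (hfix : ∀ e, e ≠ ((1 : G) : G ⧸ H) → y • e = e → ∃ τ ∈ T, τ • b = e) {g : G} (hg : g ∈ H)
    (hgy : g⁻¹ * y * g ∈ blockStab H T hT b) : g ∈ blockStab H T hT b := by
  classical
  set S := {e : G ⧸ H // ∃ τ ∈ T, τ • b = e}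
  haveI := Fintype.ofFinite S
  set z := g⁻¹ * y * g with hz
  have hmap : ∀ m ∈ blockStab H T hT b, ∀ e, (∃ τ ∈ T, τ • b = e) → ∃ τ ∈ T, τ • b = m • e := by
    rintro m ⟨hm, σ, hσ, e'⟩ e ⟨τ, hτ, rfl⟩
    exact ⟨m * τ * m⁻¹ * σ, mul_mem (BenderTransitive.conj_mem_of_mem_normalizer (hT hm) hτ) hσ,
      by rw [mul_smul, e', smul_smul, inv_mul_cancel_right, mul_smul]⟩
  let σ : Equiv.Perm S :=
    { toFun := fun e => ⟨z • e.1, hmap z hgy _ e.2⟩
      invFun := fun e => ⟨z⁻¹ • e.1, hmap _ (inv_mem hgy) _ e.2⟩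
      left_inv := fun e => Subtype.ext (inv_smul_smul z e.1)
      right_inv := fun e => Subtype.ext (smul_inv_smul z e.1) }
  have hσ : ∀ (n : ℕ) (e : S), ((σ ^ n) e).1 = z ^ n • e.1 := by
    intro n
    induction n with
    | zero => intro e; rw [pow_zero, pow_zero, one_smul]; rfl
    | succ n ih => intro e; rw [pow_succ, pow_succ, mul_smul, Equiv.Perm.mul_apply, ih]; rfl
  have hzr : z ^ r = 1 := by
    rw [hz, show g⁻¹ * y * g = g⁻¹ * y * g⁻¹⁻¹ by rw [inv_inv], _root_.conj_pow, hy, mul_one,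
      inv_inv, inv_mul_cancel]
  have hcard : ¬ r ∣ Fintype.card S := by
    have hbij : Function.Bijective fun τ : T => (⟨(τ : G) • b, τ, τ.2, rfl⟩ : S) := by
      refine ⟨fun τ τ' e => ?_, fun ⟨e, τ, hτ, he⟩ => ⟨⟨τ, hτ⟩, Subtype.ext he⟩⟩
      have e' : (τ : G) • b = (τ' : G) • b := congrArg Subtype.val e
      exact Subtype.ext (inv_mul_eq_one.1 (hreg _ (mul_mem (inv_mem τ.2) τ'.2)
        (by rw [mul_smul, ← e', inv_smul_smul])))
    haveI := Fact.mk Nat.prime_two
    obtain ⟨n, hn⟩ := hT2.exists_card_eq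
    rw [← Nat.card_eq_fintype_card, ← Nat.card_congr (Equiv.ofBijective _ hbij), hn]
    exact fun h => hr2 ((Nat.prime_dvd_prime_iff_eq hr.out Nat.prime_two).1
      (hr.out.dvd_of_dvd_pow h))
  obtain ⟨⟨e, τ, hτ, rfl⟩, he⟩ := Equiv.Perm.exists_fixed_point_of_prime (n := 1) hcard
    (σ := σ) (Equiv.ext fun e => Subtype.ext (by rw [pow_one, hσ, hzr, one_smul]; rfl))
  have he' : y • g • τ • b = g • τ • b := by
    have h1 : z • τ • b = τ • b := congrArg Subtype.val he
    rw [hz, mul_smul, mul_smul, inv_smul_eq_iff] at h1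
    exact h1
  have hne : g • τ • b ≠ ((1 : G) : G ⧸ H) := fun e1 => hb
    (smul_left_cancel (g * τ) (by rw [mul_smul, e1, smul_one_eq_iff.2 (mul_mem hg (hTH hτ))]))
  obtain ⟨τ', hτ', e'⟩ := hfix _ hne he'
  refine ⟨hg, (g * τ * g⁻¹)⁻¹ * τ',
    mul_mem (inv_mem (BenderTransitive.conj_mem_of_mem_normalizer (hT hg) hτ)) hτ', ?_⟩
  rw [mul_smul, e', inv_smul_eq_iff, smul_smul (g * τ * g⁻¹), inv_mul_cancel_right, mul_smul]

/-- The splitting at the base coset. -/
theorem hasSplit_of_semiregular_base (h : MinSplit H) {b : G ⧸ H}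
    (hb : b ≠ ((1 : G) : G ⧸ H)) (hreg : ∀ g ∈ twoGen H, g • b = b → g = 1)
    (hlin : ∀ s t : G, orderOf s = 2 → s ∈ H → orderOf t = 2 → t ∈ H → Commute s t) :
    HasSplit H := by
  classical
  haveI h2f := Fact.mk Nat.prime_two
  set o : G ⧸ H := ((1 : G) : G ⧸ H) with ho
  have hSE := h.min.se
  have hfixo : ∀ {g : G}, g • o = o ↔ g ∈ H := fun {g} => smul_one_eq_iff
  set T := twoGen H with hTdef
  have hTH : T ≤ H := twoGen_le H
  have hTN : H ≤ normalizer (T : Set G) := le_normalizer.trans (normalizer_twoGen H)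
  -- an inverted element fixing only two cosets
  obtain ⟨u, hu, hub⟩ := BenderTransitive.exists_swap hSE hb.symm
  obtain ⟨q, hq, hqd⟩ := Nat.exists_prime_and_dvd (one_lt_mult h.min).ne'
  haveI hqf := Fact.mk hq
  have hq2 : q ≠ 2 := dvd_mult_ne_two h.min hqd
  obtain ⟨P, hP, hPc, -, huP⟩ := exists_inv_sylow hu (odd_stab2 hSE hb.symm)
    (swap_mem_normalizer hu hub) q
  obtain ⟨k, hkP, hko, hkinv⟩ := exists_inverted h.min hb.symm hu hub hqd hP hPc huP
  have hkD : k ∈ stab2 o b := hP hkP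
  have hkH : k ∈ H := hfixo.1 (mem_stab2.1 hkD).1
  have hk1 : k ≠ 1 := fun e => hq.ne_one (by rw [← hko, e, orderOf_one])
  have hkodd := odd_centralizer h.min hb.symm hu hub hkD hkinv hk1
  have hkfix : ∀ c, k • c = c → c = o ∨ c = b := fun c hc =>
    (fixedSpec h hqd (isPGroup_zpowers_of_orderOf (k := 1) (by rw [hko, pow_one]))
      (fun e => hk1 (zpowers_eq_bot.1 e)) hb.symm (zpowers_le.2 hkD)).1
      (by rwa [centralizer_zpowers_eq]) c (zpowers_le.2 hc)
  have hfpf : ∀ V : Subgroup G, V ≤ H → (∀ v ∈ V, v • b = b → v = 1) →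
      V ⊓ centralizer ({k} : Set G) = ⊥ := by
    intro V hV hVreg
    refine (Subgroup.eq_bot_iff_forall _).2 fun v hv => ?_
    obtain ⟨hvV, hvk⟩ := mem_inf.1 hv
    have hc : Commute v k := mem_centralizer_singleton_iff.1 hvk
    have h1 : k • v • b = v • b := by rw [smul_smul, ← hc.eq, mul_smul, (mem_stab2.1 hkD).2]
    rcases hkfix _ h1 with e | e
    · exact absurd (smul_left_cancel v (e.trans (hfixo.2 (hV hvV)).symm)) hb
    · exact hVreg v hvV e
  have hT2 : IsPGroup 2 T := isPGroup_of_twoGen (twoGen_twoGen H)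
    (OddOrder.FPFTools.isNilpotent_of_fpf hq (by rw [← hko, pow_orderOf_eq_one]) (hTN hkH)
      (hfpf T hTH hreg))
  have hmemT : ∀ {g : G}, g ∈ H → ∀ {i : ℕ}, g ^ 2 ^ i = 1 → g ∈ T := fun hg _ hi =>
    mem_twoGen hg hi
  have hinvT : ∀ {t : G}, t ∈ H → orderOf t = 2 → t ∈ T := fun ht ht2 =>
    hmemT ht (i := 1) (by rw [pow_one, pow_two, mul_self ht2])
  -- the elementary abelian group of involutions
  let E : Subgroup G :=
    { carrier := {x | x ∈ H ∧ x * x = 1}
      one_mem' := ⟨one_mem _, one_mul 1⟩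
      mul_mem' := by
        rintro x y ⟨hx, hx2⟩ ⟨hy, hy2⟩
        refine ⟨mul_mem hx hy, ?_⟩
        have hc : Commute x y := by
          by_cases hx1 : x = 1
          · rw [hx1]; exact Commute.one_left _
          by_cases hy1 : y = 1
          · rw [hy1]; exact Commute.one_right _
          exact hlin x y (orderOf_eq_two hx2 hx1) hx (orderOf_eq_two hy2 hy1) hy
        rw [hc.symm.mul_mul_mul_comm, hx2, hy2, one_mul]
      inv_mem' := by
        rintro x ⟨hx, hx2⟩
        exact ⟨inv_mem hx, by rw [← mul_inv_rev, hx2, inv_one]⟩ }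
  have hEinv : ∀ {x : G}, x ∈ E → x ≠ 1 → orderOf x = 2 := fun hx hx1 => orderOf_eq_two hx.2 hx1
  have hHE : H ≤ normalizer (E : Set G) := fun g hg => by
    refine Coprime.mem_normalizer_of_conj_map_le ?_
    rintro x ⟨hx, hx2⟩
    refine ⟨mul_mem (mul_mem hg hx) (inv_mem hg), ?_⟩
    calc g * x * g⁻¹ * (g * x * g⁻¹) = g * (x * x) * g⁻¹ := by group
      _ = 1 := by rw [hx2]; group
  set φ : H →* MulAut E := E.normalizerMonoidHom.comp (Subgroup.inclusion hHE) with hφ
  have hφapp : ∀ (g : H) (e : E), ((φ g e : E) : G) = (g : G) * e * (g : G)⁻¹ := fun _ _ => rfl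
  have hker : ∀ {g : H}, φ g = 1 → ∀ e ∈ E, Commute (g : G) e := fun {g} hg e he => by
    have h1 : (g : G) * e * (g : G)⁻¹ = e := by rw [← hφapp g ⟨e, he⟩, hg]; rfl
    exact mul_inv_eq_iff_eq_mul.1 h1
  obtain ⟨v, w, hv, hvo, hw, hwo, hvw, hne⟩ := exists_four hSE h.min.comm o
  have hvH : v ∈ H := hfixo.1 hvo
  -- `T` centralises `E`
  have hTE : ∀ (g : H), (g : G) ∈ T → φ g = 1 := by
    haveI : Nontrivial T :=
      ⟨⟨⟨v, hinvT hvH hv⟩, 1, fun e => ne_one hv (congrArg Subtype.val e)⟩⟩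
    obtain ⟨⟨z, hzT⟩, hzc, hz2⟩ : ∃ z : T, z ∈ center T ∧ orderOf z = 2 := by
      haveI := IsPGroup.center_nontrivial hT2
      obtain ⟨n, hn, hn'⟩ := ((hT2.to_subgroup (center T)).nontrivial_iff_card.1 inferInstance)
      obtain ⟨z, hz⟩ := exists_prime_orderOf_dvd_card' (G := center T) 2
        (hn' ▸ dvd_pow_self 2 hn.ne')
      exact ⟨z, z.2, (orderOf_coe z).trans hz⟩
    rw [orderOf_mk] at hz2
    intro g hg
    refine MulEquiv.ext fun e => Subtype.ext ?_
    rw [hφapp, MulAut.one_apply]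
    by_cases he : (e : G) = 1
    · rw [he, mul_one, mul_inv_cancel]
    obtain ⟨d, hd, hde⟩ := exists_conj_fixing hSE hb.symm hz2 (hfixo.2 (hTH hzT)) (hEinv e.2 he)
      (hfixo.2 e.2.1)
    have hdH : d ∈ H := hfixo.1 (mem_stab2.1 hd).1
    have hx := BenderTransitive.conj_inv_mem_of_mem_normalizer (hTN hdH) hg
    have h1 : Commute z (d⁻¹ * g * d) :=
      (congrArg Subtype.val (Subgroup.mem_center_iff.1 hzc ⟨_, hx⟩) :).symm
    have h2 := h1.map (MulAut.conj d).toMonoidHom
    simp only [MulEquiv.coe_toMonoidHom, MulAut.conj_apply, hde] at h2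
    rw [show d * (d⁻¹ * g * d) * d⁻¹ = (g : G) by group] at h2
    rw [← h2.eq, mul_inv_cancel_right]
  have hkE : ∀ e ∈ E, Commute k e → e = 1 := fun e he hc => by_contra fun he1 =>
    Nat.not_even_iff_odd.2 hkodd (even_centralizer_of_commute (hEinv he he1) hc.symm)
  -- everything maps `b` into its block
  set M := blockStab H T hTN b with hM
  have hkM : k ∈ M := mem_blockStab_of_fixes hkH (mem_stab2.1 hkD).2
  suffices key : H ≤ M by
    refine ⟨T, hTH, hT2, hTN, fun g g' hg hg' => ?_⟩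
    have hne' : ∀ {x : G}, x ∉ H → (x : G ⧸ H) ≠ o := fun hx e =>
      hx (by simpa using QuotientGroup.eq.1 e.symm)
    have horb : ∀ {x : G}, x ∉ H → ∃ τ ∈ T, τ • b = (x : G ⧸ H) := fun {x} hx => by
      obtain ⟨c, hc, e⟩ := pairTransitive hSE h.min.comm o b _ hb (hne' hx)
      exact e ▸ (key (hfixo.1 hc)).2
    obtain ⟨τ, hτ, e⟩ := horb hg
    obtain ⟨τ', hτ', e'⟩ := horb hg'
    refine ⟨τ' * τ⁻¹, mul_mem hτ' (inv_mem hτ), ?_⟩
    refine QuotientGroup.eq.1 ?_
    rw [← smul_eq_mul, ← MulAction.Quotient.smul_mk, mul_smul, ← e, inv_smul_smul, e']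
  have hblock : ∀ {r : ℕ} [Fact r.Prime], r ≠ 2 → ∀ {y : G}, y ^ r = 1 →
      (∀ e, e ≠ o → y • e = e → ∃ τ ∈ T, τ • b = e) →
      (∀ g ∈ H, g⁻¹ * y * g ∈ M) → H ≤ M := fun hr2 _ hy hfix hall g hg =>
    mem_blockStab_of_conj hTH hT2 hb hreg hr2 hy hfix hg (hall g hg)
  by_cases hcase : ∀ g : H, φ g = 1 → (g : G) ∈ T
  · -- the action on `E` is faithful modulo `T`
    have hA : OddTrans φ.range := by
      refine ⟨odd_card_range_of_two φ fun x i hx => hTE x (hmemT x.2 (i := i) (by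
        rw [← SubmonoidClass.coe_pow, hx]; rfl)), fun x => Subtype.ext x.2.2, fun x y hx hy => ?_,
        ⟨⟨⟨v, hvH, mul_self hv⟩, 1, fun e => ne_one hv (congrArg Subtype.val e)⟩⟩⟩
      obtain ⟨d, hd, hde⟩ := exists_conj_fixing hSE hb.symm
        (hEinv x.2 fun e => hx (Subtype.ext e)) (hfixo.2 x.2.1)
        (hEinv y.2 fun e => hy (Subtype.ext e)) (hfixo.2 y.2.1)
      exact ⟨φ ⟨d, hfixo.1 (mem_stab2.1 hd).1⟩, ⟨_, rfl⟩, Subtype.ext ((hφapp _ x).trans hde)⟩
    set f : φ.range := ⟨φ ⟨k, hkH⟩, _, rfl⟩ with hf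
    have hfx : ∀ x : E, (f : MulAut E) x = x → x = 1 := fun x hx => by
      have h1 : k * (x : G) * k⁻¹ = x := congrArg Subtype.val hx
      exact Subtype.ext (hkE x x.2 (mul_inv_eq_iff_eq_mul.1 h1))
    have hfo : orderOf f = q := orderOf_eq_prime
      (Subtype.ext (by
        show φ ⟨k, hkH⟩ ^ q = 1
        rw [← map_pow, show (⟨k, hkH⟩ : H) ^ q = 1 from Subtype.ext (by
          rw [SubmonoidClass.coe_pow, ← hko, pow_orderOf_eq_one]; rfl), map_one]))
      fun e => ne_one hv (congrArg Subtype.val (hfx ⟨v, hvH, mul_self hv⟩ (by rw [e]; rfl)))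
    have hfF := hA.mem_fitting hq hfo hfx
    haveI := hA.isCyclic_fitting
    haveI : (Cfsg.fittingSubgroup φ.range).Normal :=
      CfsgLib.Solvable.Cores.fittingSubgroup_normal
    refine hblock hq2 (y := k) (by rw [← hko, pow_orderOf_eq_one])
      (fun e he hke => ⟨1, one_mem _, by rw [one_smul, ((hkfix e hke).resolve_left he)]⟩)
      fun g hg => ?_
    set γ : φ.range := ⟨φ ⟨g, hg⟩, _, rfl⟩ with hγ
    obtain ⟨i, hi⟩ := mem_zpowers_iff.1 (mem_zpowers_of_cyclic hfF hfo (f' := γ⁻¹ * f * γ)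
      (by simpa using Normal.conj_mem inferInstance f hfF γ⁻¹)
      (by rw [show γ⁻¹ * f * γ = γ⁻¹ * f * γ⁻¹⁻¹ by rw [inv_inv], _root_.conj_pow, ← hfo,
        pow_orderOf_eq_one, mul_one, inv_inv, inv_mul_cancel]))
    have h1 : φ (⟨k, hkH⟩ ^ (-i) * (⟨g, hg⟩⁻¹ * ⟨k, hkH⟩ * ⟨g, hg⟩)) = 1 := by
      have h2 : φ ⟨k, hkH⟩ ^ i = (φ ⟨g, hg⟩)⁻¹ * φ ⟨k, hkH⟩ * φ ⟨g, hg⟩ := congrArg Subtype.val hi
      rw [map_mul, map_mul, map_mul, map_inv, map_zpow, ← h2, ← zpow_add, neg_add_cancel,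
        zpow_zero]
    have h3 := hcase _ h1
    have h4 : g⁻¹ * k * g = k ^ i * (k ^ (-i) * (g⁻¹ * k * g)) := by group
    rw [h4]
    exact mul_mem (zpow_mem hkM i) (mem_blockStab_of_mem hTH h3)
  · -- an element of prime order centralising `E`
    push Not at hcase
    obtain ⟨x₀, hx₀, hx₀T⟩ := hcase
    set T₀ := T.subgroupOf H with hT₀
    haveI hT₀n : T₀.Normal := (normal_subgroupOf_iff_le_normalizer hTH).2 hTN
    set π := QuotientGroup.mk' T₀ with hπ
    have hπT : ∀ {x : H}, π x = 1 ↔ (x : G) ∈ T := fun {x} =>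
      (QuotientGroup.eq_one_iff x).trans mem_subgroupOf
    have hodd : Odd (Nat.card (H ⧸ T₀)) := by
      have h1 := odd_card_range_of_two π fun x i hx => hπT.2 (hmemT x.2 (i := i) (by
        rw [← SubmonoidClass.coe_pow, hx]; rfl))
      rwa [MonoidHom.range_eq_top.2 (QuotientGroup.mk'_surjective T₀), Subgroup.card_top] at h1
    haveI : (φ.ker.map π).Normal :=
      Subgroup.Normal.map inferInstance π (QuotientGroup.mk'_surjective T₀)
    obtain ⟨N, hNn, hN1, hNle, hmin⟩ := Solvable.Basic.exists_minimal_normal_le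
      (H := φ.ker.map π) fun e => hx₀T (hπT.1 (by
        simpa [e] using mem_map_of_mem π (MonoidHom.mem_ker.2 hx₀)))
    haveI := hNn
    haveI : Group.IsSolvable N := OddOrder.Final.oddSolvable N
      (hodd.of_dvd_nat N.card_subgroup_dvd_card)
    have hNab := (Solvable.Basic.minimal_normal_solvable N hN1 hmin).1
    have hNker : ∀ x : H, π x ∈ N → φ x = 1 := fun x hx => by
      obtain ⟨z, hz, e⟩ := hNle hx
      have h1 : φ (z⁻¹ * x) = 1 := hTE _ (hπT.1 (by rw [map_mul, map_inv, e, inv_mul_cancel]))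
      rwa [map_mul, map_inv, MonoidHom.mem_ker.1 hz, inv_one, one_mul] at h1
    by_cases hmeet : ∀ x : H, π x ∈ N → (x : G) • b = b → x = 1
    · -- it would be a nilpotent group with trivial odd part
      exfalso
      set V := (N.comap π).map H.subtype with hV
      have hVH : V ≤ H := map_subtype_le _
      have hVN : H ≤ normalizer (V : Set G) := fun g hg => by
        refine Coprime.mem_normalizer_of_conj_map_le ?_
        rintro _ ⟨x, hx, rfl⟩
        exact ⟨⟨g, hg⟩ * x * ⟨g, hg⟩⁻¹, (inferInstance : (N.comap π).Normal).conj_mem x hx _, rfl⟩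
      have hnil : Group.IsNilpotent V := OddOrder.FPFTools.isNilpotent_of_fpf hq
        (by rw [← hko, pow_orderOf_eq_one]) (hVN hkH) (hfpf V hVH (by
          rintro _ ⟨x, hx, rfl⟩ hxb
          exact congrArg Subtype.val (hmeet x hx hxb)))
      obtain ⟨r, hr, hrd, hr2⟩ : ∃ r, r.Prime ∧ r ∣ Nat.card V ∧ r ≠ 2 := by
        by_contra hno
        push Not at hno
        refine hN1 ((Subgroup.eq_bot_iff_forall _).2 fun y hy => ?_)
        obtain ⟨x, rfl⟩ := QuotientGroup.mk'_surjective T₀ y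
        have hxV : (x : G) ∈ V := ⟨x, hy, rfl⟩
        have hd := Subgroup.orderOf_dvd_natCard V hxV
        obtain ⟨i, m, hm, he⟩ := Nat.exists_eq_two_pow_mul_odd (orderOf_pos (x : G)).ne'
        have hm1 : m = 1 := by
          by_contra hm1
          obtain ⟨r, hr, hrm⟩ := Nat.exists_prime_and_dvd hm1
          have h2 := hno r hr ((hrm.trans (Dvd.intro_left _ he.symm)).trans hd)
          subst h2
          exact Nat.not_even_iff_odd.2 hm (even_iff_two_dvd.2 hrm)
        exact hπT.2 (hmemT x.2 (i := i) (by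
          rw [show (2 : ℕ) ^ i = orderOf (x : G) by rw [he, hm1, mul_one], pow_orderOf_eq_one]))
      haveI := Fact.mk hr
      let S : Sylow r V := default
      haveI hSn : (S : Subgroup V).Normal :=
        Sylow.normal_of_normalizerCondition Group.normalizerCondition_of_isNilpotent S
      haveI := Sylow.unique_of_normal S hSn
      set R := (S : Subgroup V).map V.subtype with hR
      have hRH : R ≤ H := (map_subtype_le _).trans hVH
      have hRN : H ≤ normalizer (R : Set G) := fun g hg => by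
        refine Coprime.mem_normalizer_of_conj_map_le ?_
        rintro _ ⟨y, hy, rfl⟩
        have hyV : g * (y : G) * g⁻¹ ∈ V :=
          BenderTransitive.conj_mem_of_mem_normalizer (hVN hg) y.2
        obtain ⟨i, hi⟩ := IsPGroup.iff_orderOf.1 S.isPGroup' ⟨y, hy⟩
        rw [Subgroup.orderOf_mk] at hi
        have hp : IsPGroup r (zpowers (⟨_, hyV⟩ : V)) := IsPGroup.of_card (n := i) (by
          rw [Nat.card_zpowers, Subgroup.orderOf_mk, Dihedral.orderOf_conj, orderOf_coe, hi])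
        obtain ⟨S', hS'⟩ := hp.exists_le_sylow
        exact ⟨⟨_, hyV⟩, Subsingleton.elim S' S ▸ hS' (mem_zpowers _), rfl⟩
      have hRodd : Odd (Nat.card R) := odd_of_pgroup hr2 (S.isPGroup'.map _)
      have hle : R.subgroupOf H ≤ Cfsg.oddCore H := ZStar.le_oddCore
        ((normal_subgroupOf_iff_le_normalizer hRH).2 hRN)
        (by rwa [Nat.card_congr (subgroupOfEquivOfLe hRH).toEquiv])
      rw [h.min.oddCore_eq_bot, le_bot_iff, subgroupOf_eq_bot, disjoint_iff,
        inf_eq_left.2 hRH] at hle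
      have hS1 : (S : Subgroup V) ≠ ⊥ := S.ne_bot_of_dvd_card hrd
      exact hS1 ((Subgroup.map_eq_bot_iff_of_injective _ V.subtype_injective).1 hle)
    · push Not at hmeet
      obtain ⟨x, hxN, hxb, hx1⟩ := hmeet
      obtain ⟨r, hr, hrd⟩ := Nat.exists_prime_and_dvd (n := orderOf x) fun e =>
        hx1 (orderOf_eq_one_iff.1 e)
      haveI := Fact.mk hr
      set y := x ^ (orderOf x / r) with hy
      have hyo : orderOf y = r := orderOf_pow_orderOf_div (orderOf_pos x).ne' hrd
      have hyG : orderOf (y : G) = r := (orderOf_coe y).trans hyo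
      have hyD : (y : G) ∈ stab2 o b := by
        rw [hy, SubmonoidClass.coe_pow]
        exact pow_mem (mem_stab2.2 ⟨hfixo.2 x.2, hxb⟩) _
      have hr2 : r ≠ 2 := by
        rintro rfl
        exact Nat.not_even_iff_odd.2 (odd_orderOf_stab2 h.min hb.symm hyD)
          (by rw [hyG]; exact even_two)
      have hyN : π y ∈ N := by rw [hy, map_pow]; exact pow_mem hxN _
      have hyE := hker (hNker y hyN)
      have hcomm : ∀ {t : G}, orderOf t = 2 → t • o = o → Commute t y := fun ht hto =>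
        (hyE _ ⟨hfixo.1 hto, mul_self ht⟩).symm
      have hTwo : Two (y : G) o := ⟨v, w, hv, hvo,
        mem_centralizer_singleton_iff.2 (hcomm hv hvo), hw, hwo,
        mem_centralizer_singleton_iff.2 (hcomm hw hwo), hvw, hne⟩
      obtain ⟨Ty, hTy⟩ := exists_twoSplit h hb.symm hyG hyD hTwo
      have hyfix : ∀ e, e ≠ o → (y : G) • e = e → ∃ τ ∈ T, τ • b = e := fun e he hye => by
        obtain ⟨τ, hτ, -, hτb⟩ := exists_translation h hb.symm hyG hyD hTwo hTy
          (zpowers_le.2 (mem_centralizer_singleton_iff.2 rfl)) (zpowers_le.2 hyD) he hye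
          (zpowers_le.2 hye)
        obtain ⟨i, hi⟩ := hTy.two ⟨τ, hτ⟩
        exact ⟨τ, hmemT (hfixo.1 (mem_stabilizer_iff.1 (hTy.le hτ).2)) (i := i)
          (congrArg Subtype.val hi), hτb⟩
      have hyM : (y : G) ∈ M := mem_blockStab_of_fixes y.2 (mem_stab2.1 hyD).2
      have hyr : (y : G) ^ r = 1 := by rw [← hyG, pow_orderOf_eq_one]
      have hNM : ∀ n : H, π n ∈ N → (n : G) ∈ M := fun n hn => by
        refine mem_blockStab_of_conj hTH hT2 hb hreg hr2 hyr hyfix n.2 ?_
        have h1 : (y⁻¹ * (n⁻¹ * y * n) : H) ∈ T₀ := (QuotientGroup.eq_one_iff _).1 (by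
          show π _ = 1
          have hc : π y * π n = π n * π y :=
            Solvable.Basic.isMulCommutative_subgroup_iff.1 hNab _ hyN _ hn
          rw [map_mul, map_mul, map_mul, map_inv, map_inv, mul_assoc (π n)⁻¹, hc,
            inv_mul_cancel_left, inv_mul_cancel])
        rw [show (n : G)⁻¹ * y * n = y * ((y : G)⁻¹ * ((n : G)⁻¹ * y * n)) by group]
        exact mul_mem hyM (mem_blockStab_of_mem hTH (mem_subgroupOf.1 h1))
      refine hblock hr2 hyr hyfix fun g hg => ?_
      refine hNM (⟨g, hg⟩⁻¹ * y * ⟨g, hg⟩) ?_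
      rw [map_mul, map_mul, map_inv]
      simpa using hNn.conj_mem (π y) hyN (π ⟨g, hg⟩)⁻¹

/-- The end of the splitting theorem: commuting involutions and a semiregular `2`-part. -/
theorem hasSplit_of_semiregular (h : MinSplit H) {a b : G ⧸ H} (hab : a ≠ b)
    (hreg : ∀ g ∈ twoGen (stabilizer G a), g • b = b → g = 1)
    (hlin : ∀ s t : G, orderOf s = 2 → s • a = a → orderOf t = 2 → t • a = a → Commute s t) :
    HasSplit H := by
  induction a using QuotientGroup.induction_on with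
  | H g =>
  have hfix : ∀ {x : G}, x ∈ H → (g * x * g⁻¹) • (g : G ⧸ H) = g := fun hx => by
    rw [SE.fixes_mk_iff]; simpa [mul_assoc] using hx
  refine hasSplit_of_semiregular_base h (b := g⁻¹ • b) (fun e => hab ?_) (fun x hx hxb => ?_) ?_
  · rw [inv_smul_eq_iff] at e
    simpa [MulAction.Quotient.smul_mk] using e.symm
  · have hle : twoGen H ≤ (twoGen (stabilizer G (g : G ⧸ H))).comap (MulAut.conj g).toMonoidHom :=
      twoGen_le_iff.2 fun y hy i hi => mem_twoGen (k := i) (mem_stabilizer_iff.2 (hfix hy)) (by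
        show (g * y * g⁻¹) ^ 2 ^ i = 1
        rw [_root_.conj_pow, hi, mul_one, mul_inv_cancel])
    have h1 : g * x * g⁻¹ = 1 := hreg _ (hle hx) (by rw [mul_smul, mul_smul, hxb, smul_inv_smul])
    simpa [mul_assoc] using congrArg (fun z => g⁻¹ * z * g) h1
  · intro s t hs hsH ht htH
    have h1 := (hlin _ _ ((Dihedral.orderOf_conj g s).trans hs) (hfix hsH)
      ((Dihedral.orderOf_conj g t).trans ht) (hfix htH)).map (MulAut.conj g⁻¹).toMonoidHom
    simpa [mul_assoc] using h1

end CfsgLib.LocalEven.BenderSplit
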