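import Cfsg.Agent.Lib.LocalEven.BenderSplit.Glue

/-!
# The glue lemma with singular characters

`J` is an abelian regular normal subgroup of a subgroup `D` of odd order, `J \ 1` is a TI set with
normaliser in `D`, every character of `J` fixed by a non-trivial element of `D ⊓ stabilizer` is trivial
on `J0`, and there is such an element with a non-trivial fixed point on `J`. Then the action is doubly
transitive.
-/

set_option autoImplicit false
set_option linter.unusedSectionVars false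
set_option linter.style.haveILetI false

open scoped ComplexConjugate
open MulAction CfsgLib.Char

namespace CfsgLib.BenderSplit.Glue

universe u v

variable {X : Type u} {I : Type v} [Group X] [MulAction X I] {D N C : Subgroup X} {t : I}

theorem Lam.ext' {f g : Lam N C} (h : ∀ n, f.1 n = g.1 n) : f = g :=
  Subtype.ext (MonoidHom.ext h)

/-- A fixed point of `d` on `N` gives a non-trivial character fixed by `d`. -/
theorem exists_fixed_character [Finite X] (S : Base D N ⊥ t) {d k : X} (hd : d ∈ D) (hk : k ∈ N)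
    (hk1 : k ≠ 1) (hdk : d * k = k * d) :
    ∃ φ : Lam N ⊥, φ ≠ Lam.one N ⊥ ∧ S.tw hd φ = φ := by
  classical
  by_contra h
  push Not at h
  let α : Lam N ⊥ → Lam N ⊥ := fun g => ⟨(S.tw hd g).1 * g.1⁻¹, fun c hc => by
    rw [MonoidHom.mul_apply, MonoidHom.inv_apply, (S.tw hd g).2 c hc, g.2 c hc, inv_one, mul_one]⟩
  have hinj : Function.Injective α := by
    intro a b e
    by_contra hne
    let φ : Lam N ⊥ := ⟨a.1 * b.1⁻¹, fun c hc => by
      rw [MonoidHom.mul_apply, MonoidHom.inv_apply, a.2 c hc, b.2 c hc, inv_one, mul_one]⟩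
    refine h φ (fun e' => hne (Lam.ext' fun n => ?_)) (Lam.ext' fun n => ?_)
    · exact mul_inv_eq_one.1 (DFunLike.congr_fun (congrArg Subtype.val e') n)
    · have e1 : (S.tw hd a).1 n * (a.1 n)⁻¹ = (S.tw hd b).1 n * (b.1 n)⁻¹ :=
        DFunLike.congr_fun (congrArg Subtype.val e) n
      rw [Base.tw_apply, Base.tw_apply] at e1
      rw [Base.tw_apply]
      show a.1 _ * (b.1 _)⁻¹ = a.1 n * (b.1 n)⁻¹
      have key : ∀ A B C E : ℂˣ, A * C⁻¹ = B * E⁻¹ → A * B⁻¹ = C * E⁻¹ := fun A B C E hh => by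
        rw [mul_inv_eq_iff_eq_mul] at hh
        subst hh
        rw [mul_right_comm B E⁻¹ C, mul_right_comm (B * C) E⁻¹ B⁻¹, mul_inv_cancel_comm]
      exact key _ _ _ _ e1
  have hsurj := Finite.injective_iff_surjective.1 hinj
  have hall : ∀ f : Lam N ⊥, f.val' ⟨k, hk⟩ = 1 := by
    intro f
    obtain ⟨g, rfl⟩ := hsurj f
    have hfix : (⟨d * k * d⁻¹, S.N_conj d hd k hk⟩ : N) = ⟨k, hk⟩ :=
      Subtype.ext (mul_inv_eq_of_eq_mul hdk)
    have h1 : (α g).1 ⟨k, hk⟩ = 1 := by
      show (S.tw hd g).1 ⟨k, hk⟩ * (g.1 ⟨k, hk⟩)⁻¹ = 1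
      rw [Base.tw_apply, hfix, mul_inv_cancel]
    simp [Lam.val', h1]
  have hs := S.sum_val ⟨k, hk⟩
  rw [Finset.sum_congr rfl fun f _ => hall f, if_neg (by simpa using hk1), Finset.sum_const,
    Finset.card_univ, nsmul_eq_mul, mul_one, Nat.cast_eq_zero] at hs
  have := S.one_lt_relIndex
  rw [← S.card_Lam, hs] at this
  omega

/-- Glue lemma, `C = 1`, with singular characters. -/
theorem glue_free {X : Type u} {I : Type v} [Group X] [Finite X] [MulAction X I] [Finite I]
    (D J : Subgroup X) (t : I) (hD : Odd (Nat.card D)) (hJD : J ≤ D)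
    (hnorm : ∀ d ∈ D, ∀ k ∈ J, d * k * d⁻¹ ∈ J) (hcomm : ∀ a ∈ J, ∀ b ∈ J, a * b = b * a)
    (htrans : ∀ i : I, ∃ n ∈ J, n • t = i) (hstab : ∀ n ∈ J, n • t = t → n = 1)
    (hti : ∀ g k : X, k ∈ J → k ≠ 1 → g * k * g⁻¹ ∈ J → g ∈ D)
    (J0 : Subgroup X) (hJ0le : J0 ≤ J)
    (hJ0 : ∀ d ∈ D, d • t = t → d ≠ 1 → ∀ φ : J →* ℂˣ,
      (∀ a b : J, (b : X) = d * a * d⁻¹ → φ b = φ a) → ∀ j : J, (j : X) ∈ J0 → φ j = 1)
    (hJ0tr : ∀ i : I, ∃ x ∈ Subgroup.normalClosure (J0 : Set X), x • t = i)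
    (hsing : ∃ d ∈ D, d • t = t ∧ d ≠ 1 ∧ ∃ k ∈ J, k ≠ 1 ∧ d * k = k * d) :
    IsMultiplyPretransitive X I 2 := by
  classical
  cases nonempty_fintype X
  cases nonempty_fintype I
  obtain ⟨d₀, hd₀, hd₀t, hd₀1, k₀, hk₀, hk₀1, hdk⟩ := hsing
  have S : Base D J ⊥ t :=
    { D_odd := hD
      C_le := bot_le
      N_le := hJD
      C_conj := fun d _ c hc => by
        rw [Subgroup.mem_bot] at hc ⊢
        rw [hc, mul_one, mul_inv_cancel]
      N_conj := hnorm
      ne := fun e => hk₀1 (Subgroup.mem_bot.1 (e ▸ hk₀))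
      trans := htrans
      stab := fun n hn h => Subgroup.mem_bot.2 (hstab n hn h)
      comm := fun a ha b hb => Subgroup.mem_bot.2 (by
        rw [hcomm a ha b hb, mul_inv_cancel_right, mul_inv_cancel])
      ti := fun g n hn hn1 h _ => hti g n hn (fun e => hn1 (Subgroup.mem_bot.2 e)) h
      fus := fun g c hc _ => by
        rw [Subgroup.mem_bot] at hc ⊢
        rw [hc, mul_one, mul_inv_cancel] }
  letI : Fintype J := Fintype.ofFinite _
  letI : Fintype (⊥ : Subgroup X) := Fintype.ofFinite _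
  haveI := S.isPretransitive
  obtain ⟨P⟩ := S.decomp
  -- free characters
  let Fr : Lam J ⊥ → Prop := fun f => ∃ j : J, (j : X) ∈ J0 ∧ f.1 j ≠ 1
  have hFr : ∀ f, Fr f → S.StabN f := by
    rintro f ⟨j, hj, hfj⟩ x hx hxf
    obtain ⟨n, hn, hnt⟩ := htrans (x • t)
    by_contra hxJ
    have hd : (n⁻¹ * x) ∈ D := mul_mem (inv_mem (hJD hn)) hx
    have hfix : S.tw hd f = f := by
      conv_lhs => rw [← S.tw_of_mem hn f]
      rw [S.tw_tw, S.tw_congr _ hx (mul_inv_cancel_left n x), hxf]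
    refine hfj (hJ0 _ hd (by rw [mul_smul, inv_smul_eq_iff, hnt]) (fun e => hxJ ?_) f.1 (fun a b hb => ?_) j hj)
    · rw [← inv_mul_eq_one.1 e]
      exact hn
    · have := DFunLike.congr_fun (congrArg Subtype.val hfix) a
      rw [Base.tw_apply] at this
      rw [show b = ⟨_, hnorm _ hd a a.2⟩ from Subtype.ext hb]
      exact this
  -- every non-trivial constituent lies over a free character
  have hone : ∀ χ : Cfsg.IrrCharacter X, P.m χ ≠ 0 → χ ≠ triv X → ∃ f, Fr f ∧ P.Ψ f = χ := by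
    intro χ hm hχ
    by_contra hno
    letI : Fintype J0 := Fintype.ofFinite _
    have hval : ∀ x : J0, (χ : X → ℂ) x = (χ : X → ℂ) 1 := by
      have hexp : ∀ n : J, (χ : X → ℂ) n =
          ∑ f : Lam J ⊥, (P.k χ f : ℂ) * f.val' n := by
        intro n
        have h : ∀ f : Lam J ⊥, (P.k χ f : ℂ) * f.val' n =
            (Nat.card J : ℂ)⁻¹ * ∑ m : J, (χ : X → ℂ) m * f.val' (m⁻¹ * n) := by
          intro f
          rw [← P.k_spec, mult, Cfsg.classInner, mul_assoc, Finset.sum_mul]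
          congr 1
          refine Finset.sum_congr rfl fun m _ => ?_
          rw [mul_assoc]
          congr 1
          simp only [Lam.val', map_mul, map_inv, Units.val_mul, Units.val_inv_eq_inv_val]
          rw [← IsCharacter.apply_inv (isCharacter_hom f.1) m]
          simp [mul_comm]
        simp only [h, ← Finset.mul_sum]
        rw [Finset.sum_comm]
        simp only [← Finset.mul_sum, S.sum_val, Subgroup.mem_bot, Subgroup.relIndex_bot_left]
        rw [Finset.sum_eq_single n (fun m _ hmn => by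
          rw [if_neg fun e => hmn (inv_mul_eq_one.1 (Subtype.ext (by simpa using e))), mul_zero])
          (fun h => absurd (Finset.mem_univ _) h), if_pos (by simp), mul_comm ((χ : X → ℂ) n),
          inv_mul_cancel_left₀ (Nat.cast_ne_zero.2 Nat.card_pos.ne')]
      intro x
      have h1 := hexp ⟨x, hJ0le x.2⟩
      have h2 := hexp 1
      simp only at h1
      rw [Subgroup.coe_one] at h2
      rw [h1, h2]
      refine Finset.sum_congr rfl fun f _ => ?_
      by_cases hk : P.k χ f = 0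
      · simp [hk]
      have hΨ : P.Ψ f = χ := by
        by_contra e
        exact hk ((P.k_eq hm f).trans (if_neg e))
      have : f.1 ⟨x, hJ0le x.2⟩ = 1 := by_contra fun e => hno ⟨f, ⟨⟨x, hJ0le x.2⟩, x.2, e⟩, hΨ⟩
      simp [Lam.val', this]
    have hker : Subgroup.normalClosure (J0 : Set X) ≤ charKer (isCharacter_irr χ) := by
      haveI := charKer_normal (isCharacter_irr χ)
      refine Subgroup.normalClosure_le_normal fun x hx => ?_
      rw [SetLike.mem_coe, mem_charKer]
      exact hval ⟨x, hx⟩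
    set K := Subgroup.normalClosure (J0 : Set X)
    letI : Fintype K := Fintype.ofFinite _
    have h1 := avg_fixChar_of_transitive (X := X) (I := I) K hJ0tr
    rw [show fixChar X I = fun x => ∑ ψ : Cfsg.IrrCharacter X, (P.m ψ : ℂ) * (ψ : X → ℂ) x from funext P.expand,
      avg_sum] at h1
    choose c hc using fun ψ : Cfsg.IrrCharacter X => exists_avg_nat (isCharacter_irr ψ) K
    simp only [hc] at h1
    have h1' : ∑ ψ : Cfsg.IrrCharacter X, P.m ψ * c ψ = 1 := by exact_mod_cast h1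
    have hcT : c (triv X) = 1 := by
      have := hc (triv X)
      simp [avg, triv, Finset.card_univ, Nat.card_eq_fintype_card] at this
      exact_mod_cast this.symm
    have hcχ : c χ ≠ 0 := by
      intro e
      have := hc χ
      rw [e, avg, Finset.sum_congr rfl fun (k : K) _ => (mem_charKer (isCharacter_irr χ)).1 (hker k.2)] at this
      simp [Finset.card_univ, Nat.card_eq_fintype_card, IsIrrCharacter.apply_one_ne_zero χ.2] at this
    have h2 : ∑ ψ ∈ ({triv X, χ} : Finset (Cfsg.IrrCharacter X)), P.m ψ * c ψ ≤ 1 :=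
      h1' ▸ Finset.sum_le_sum_of_subset (Finset.subset_univ _)
    rw [Finset.sum_pair (Ne.symm hχ), P.m_triv.1, hcT] at h2
    have : 0 < P.m χ * c χ := Nat.mul_pos (Nat.pos_of_ne_zero hm) (Nat.pos_of_ne_zero hcχ)
    omega
  have hall : ∀ χ, P.m χ ≠ 0 → ∃ f, P.Ψ f = χ := by
    intro χ hm
    by_cases hχ : χ = triv X
    · exact ⟨_, hχ ▸ P.m_triv.2⟩
    · obtain ⟨f, -, hf⟩ := hone χ hm hχ
      exact ⟨f, hf⟩
  have hlift : ∀ g : Lam J ⊥, g ≠ Lam.one J ⊥ → ∃ f, Fr f ∧ P.Ψ f = P.Ψ g := fun g hg =>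
    hone _ (by rw [(P.mk_one g).1]; exact one_ne_zero) (P.Ψ_ne_triv hg)
  rcases P.dichotomy Fr hFr with heq | hdist
  · refine P.two_transitive hall fun f f' hf hf' => ?_
    obtain ⟨a, ha, ea⟩ := hlift f hf
    obtain ⟨b, hb, eb⟩ := hlift f' hf'
    rw [← ea, ← eb]
    exact heq a b ha hb
  exfalso
  obtain ⟨φ, hφ1, hφ⟩ := exists_fixed_character S hd₀ hk₀ hk₀1 hdk
  obtain ⟨f, hf, hfφ⟩ := hlift φ hφ1
  let f' : Lam J ⊥ := ⟨f.1⁻¹, fun c hc => by rw [MonoidHom.inv_apply, f.2 c hc, inv_one]⟩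
  have hf' : Fr f' := by
    obtain ⟨j, hj, hfj⟩ := hf
    exact ⟨j, hj, fun e => hfj (inv_eq_one.1 e)⟩
  have hne : ¬ S.Conj f f' := by
    rintro ⟨x, hx, e⟩
    have e2 : S.tw (mul_mem hx hx) f = f := by
      rw [← S.tw_tw hx hx f, e]
      refine Lam.ext' fun n => ?_
      rw [S.tw_apply]
      show (f.1 _)⁻¹ = _
      have := DFunLike.congr_fun (congrArg Subtype.val e) n
      rw [S.tw_apply] at this
      rw [this]
      exact inv_inv _
    have hxx := hFr f hf _ _ e2
    obtain ⟨k, hk⟩ := S.D_odd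
    have hxord : x ^ (2 * k + 1) = 1 := by
      have := congrArg Subtype.val (pow_card_eq_one' (x := (⟨x, hx⟩ : D)))
      rw [hk] at this
      simpa using this
    have hxJ : x ∈ J := by
      have : x = (x * x) ^ (k + 1) := by
        rw [← pow_two, ← pow_mul, show 2 * (k + 1) = 2 * k + 1 + 1 by ring, pow_succ, hxord, one_mul]
      rw [this]
      exact pow_mem hxx _
    have e3 : f = f' := (S.tw_of_mem hxJ f).symm.trans e
    obtain ⟨j, -, hfj⟩ := hf
    apply hfj
    have hs : f.1 j ^ 2 = 1 := by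
      have := DFunLike.congr_fun (congrArg Subtype.val e3) j
      rw [pow_two]
      nth_rewrite 2 [this]
      exact mul_inv_cancel _
    have ho : f.1 j ^ Nat.card J = 1 := by rw [← map_pow, pow_card_eq_one', map_one]
    obtain ⟨i, hi⟩ := Odd.of_dvd_nat S.D_odd (Subgroup.card_dvd_of_le S.N_le)
    rw [hi, pow_succ, pow_mul, hs, one_pow, one_mul] at ho
    exact ho
  have hΨ : P.Ψ f ≠ P.Ψ f' := fun e => hne (hdist f f' hf hf' e)
  -- a singular character is not conjugate to a free one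
  have hsingφ : ∀ g, Fr g → ∀ (x : X) (hx : x ∈ D), S.tw hx g ≠ φ := by
    intro g hg x hx e
    have h2 : x * d₀ * x⁻¹ ∈ J := by
      refine hFr g hg _ (mul_mem (mul_mem hx hd₀) (inv_mem hx)) ?_
      rw [← S.tw_tw (inv_mem hx) (mul_mem hx hd₀), ← S.tw_tw hd₀ hx, e, hφ, ← e, S.tw_tw,
        S.tw_congr _ (one_mem D) (mul_inv_cancel x)]
      exact S.tw_of_mem (one_mem J) g
    have h3 := hnorm x⁻¹ (inv_mem hx) _ h2
    rw [show x⁻¹ * (x * d₀ * x⁻¹) * x⁻¹⁻¹ = d₀ by group] at h3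
    exact hd₀1 (hstab d₀ h3 hd₀t)
  -- restrict `Ind (f - f') = Ψ f - Ψ f'` to `J` and look at `φ`
  have hip : ∀ a b : Lam J ⊥, Cfsg.classInner a.val' b.val' = if a = b then 1 else 0 := fun a b => by
    rw [classInner_irr a.isIrr b.isIrr]
    exact if_congr ⟨fun h => Lam.val'_injective h, fun h => h ▸ rfl⟩ rfl rfl
  set α : J → ℂ := f.val' - f'.val' with hα
  have hres : ∀ n : J, Cfsg.indFun J α (n : X) =
      (Nat.card J : ℂ)⁻¹ * ∑ x : D, α ⟨(x : X) * n * (x : X)⁻¹, hnorm x x.2 n n.2⟩ := by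
    intro n
    by_cases hn : (n : X) = 1
    · rw [show Cfsg.indFun J α (n : X) = 0 by rw [hn, hα, S.ind_apply_C f f' (Subgroup.mem_bot.2 rfl)]]
      refine (mul_eq_zero_of_right _ (Finset.sum_eq_zero fun x _ => ?_)).symm
      have : (⟨(x : X) * n * (x : X)⁻¹, hnorm x x.2 n n.2⟩ : J) = 1 := Subtype.ext (by simp [hn])
      rw [hα, Pi.sub_apply, this]
      simp [Lam.val']
    rw [indFun_def]
    congr 1
    rw [← Finset.sum_filter_of_ne (s := (Finset.univ : Finset X)) (p := fun x : X => x⁻¹ ∈ D)]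
    · refine (Finset.sum_bij (fun (x : D) _ => (x : X)⁻¹) (fun x _ => by simp)
        (fun a _ b _ h => Subtype.ext (inv_injective h))
        (fun b hb => ⟨⟨b⁻¹, (Finset.mem_filter.1 hb).2⟩, Finset.mem_univ _, inv_inv b⟩) (fun x _ => ?_)).symm
      rw [inv_inv, extendByZero_apply_mem J α (hnorm x x.2 n n.2)]
    · intro x _ hx
      by_cases hm : x⁻¹ * (n : X) * x ∈ J
      · exact hti x⁻¹ n n.2 hn (by rwa [inv_inv])
      · exact absurd (extendByZero_apply_notMem J α hm) hx
  have hz : mult J (Cfsg.indFun J α) φ.val' = 0 := by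
    have hterm : ∀ x : D,
        Cfsg.classInner (fun n : J => α ⟨(x : X) * n * (x : X)⁻¹, hnorm x x.2 n n.2⟩) φ.val' = 0 := by
      intro x
      show Cfsg.classInner ((S.tw x.2 f).val' - (S.tw x.2 f').val') φ.val' = 0
      rw [classInner_sub_left, hip, hip, if_neg (hsingφ f hf x x.2), if_neg (hsingφ f' hf' x x.2), sub_zero]
    simp only [mult, hres]
    simp only [Cfsg.classInner] at hterm ⊢
    have hsum := Finset.sum_eq_zero (s := (Finset.univ : Finset D)) fun x _ => hterm x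
    rw [← Finset.mul_sum, Finset.sum_comm] at hsum
    rw [← mul_zero ((Nat.card J : ℂ)⁻¹), ← hsum]
    simp only [Finset.mul_sum, Finset.sum_mul]
    exact Finset.sum_congr rfl fun n _ => Finset.sum_congr rfl fun x _ => by ring
  rw [P.ind_eq hne (hFr f hf) (hFr f' hf') hΨ, mult,
    show (fun n : J => ((P.Ψ f : X → ℂ) - (P.Ψ f' : X → ℂ)) (n : X)) =
      (fun n : J => (P.Ψ f : X → ℂ) n) - fun n : J => (P.Ψ f' : X → ℂ) n from rfl,
    classInner_sub_left] at hz
  have h1 := P.k_spec (P.Ψ f) φ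
  have h2 := P.k_spec (P.Ψ f') φ
  rw [mult] at h1 h2
  rw [h1, h2] at hz
  have k1 : P.k (P.Ψ f) φ = 1 := by rw [hfφ]; exact (P.mk_one φ).2
  have k2 : P.k (P.Ψ f') φ = 0 := by
    have := P.mk_zero φ (P.Ψ f') (fun e => hΨ (hfφ.trans e.symm))
    rwa [(P.mk_one f').1, one_mul] at this
  rw [k1, k2] at hz
  simp at hz

end CfsgLib.BenderSplit.Glue
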