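import Mathlib.GroupTheory.GroupAction.MultipleTransitivity
import Mathlib.Algebra.CharP.Lemmas
import Mathlib.Algebra.CharP.Algebra
import Mathlib.Algebra.MonoidAlgebra.Basic
import Mathlib.Algebra.Field.ZMod
import Mathlib.GroupTheory.Sylow
import Mathlib.GroupTheory.SpecificGroups.Cyclic

/-!
# An abelian regular subgroup with one subgroup of order `q`

A primitive group with an abelian regular subgroup `J` in which the `q`-th power map has kernel of
order `q` and nontrivial image is doubly transitive.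
-/

set_option autoImplicit false
set_option linter.unusedSectionVars false
set_option linter.style.haveILetI false

open MulAction

namespace CfsgLib.BenderSplit.OrbitLemma

universe u v

variable {X : Type u} {I : Type v} [Group X] [MulAction X I] (J : Subgroup X) (t : I)

/-- The point stabiliser acts on `J` through the coordinates `j ↦ j • t`. -/
def Rel (a b : J) : Prop :=
  ∃ h : X, h • t = t ∧ h • ((a : X) • t) = (b : X) • t

theorem rel_refl (a : J) : Rel J t a a := ⟨1, one_smul _ _, one_smul _ _⟩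

theorem rel_symm {a b : J} : Rel J t a b → Rel J t b a := by
  rintro ⟨h, ht, hab⟩
  exact ⟨h⁻¹, inv_smul_eq_iff.2 ht.symm, inv_smul_eq_iff.2 hab.symm⟩

theorem rel_trans {a b c : J} : Rel J t a b → Rel J t b c → Rel J t a c := by
  rintro ⟨h, ht, hab⟩ ⟨h', ht', hbc⟩
  exact ⟨h' * h, by rw [mul_smul, ht, ht'], by rw [mul_smul, hab, hbc]⟩

/-- Functions constant on the orbits of the point stabiliser. -/
def Inv {R : Type*} (f : J → R) : Prop := ∀ a b : J, Rel J t a b → f a = f b

/-- Sets that are unions of orbits of the point stabiliser. -/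
def InvSet (T : Set J) : Prop := ∀ a b : J, Rel J t a b → a ∈ T → b ∈ T

variable (hreg : Function.Bijective fun j : J => (j : X) • t)

include hreg

theorem rel_one {b : J} (h : Rel J t 1 b) : b = 1 := by
  obtain ⟨g, ht, hb⟩ := h
  apply hreg.1
  simp only [Subgroup.coe_one, one_smul] at hb ⊢
  rw [← hb, ht]

omit hreg in
theorem inv_comp_inv {R : Type*} {f : J → R} (hf : Inv J t f) : Inv J t fun a => f a⁻¹ := by
  rintro a b ⟨h, ht, hab⟩
  apply hf
  refine ⟨(b : X)⁻¹ * h * (a : X), ?_, ?_⟩
  · rw [mul_smul, mul_smul, hab, inv_smul_smul]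
  · rw [Subgroup.coe_inv, Subgroup.coe_inv, mul_smul, mul_smul, smul_inv_smul, ht]

theorem inv_conv [Fintype J] {R : Type*} [NonUnitalNonAssocSemiring R] {f g : J → R}
    (hf : Inv J t f) (hg : Inv J t g) : Inv J t fun a => ∑ j : J, f j * g (j⁻¹ * a) := by
  rintro a b ⟨u, ut, uab⟩
  let e : J ≃ I := Equiv.ofBijective _ hreg
  let σ : J ≃ J := (e.trans (MulAction.toPerm u)).trans e.symm
  have hσ : ∀ j : J, u • ((j : X) • t) = ((σ j : J) : X) • t := fun j =>
    (e.apply_symm_apply (u • ((j : X) • t))).symm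
  show ∑ j : J, f j * g (j⁻¹ * a) = ∑ j : J, f j * g (j⁻¹ * b)
  rw [← Equiv.sum_comp σ fun j => f j * g (j⁻¹ * b)]
  refine Finset.sum_congr rfl fun j _ => ?_
  rw [hf j (σ j) ⟨u, ut, hσ j⟩, hg (j⁻¹ * a) ((σ j)⁻¹ * b)
    ⟨((σ j : J) : X)⁻¹ * u * (j : X), ?_, ?_⟩]
  · rw [mul_smul, mul_smul, hσ, inv_smul_smul]
  · rw [Subgroup.coe_mul, Subgroup.coe_mul, Subgroup.coe_inv, Subgroup.coe_inv]
    simp only [mul_smul, smul_inv_smul, uab]

/-- In a primitive group, an invariant set other than `{1}` generates `J`. -/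
theorem closure_eq_top [IsPreprimitive X I] {T : Set J} (hT : InvSet J t T)
    (hne : ∃ x ∈ T, x ≠ 1) : Subgroup.closure T = ⊤ := by
  obtain ⟨x, hxT, hx1⟩ := hne
  haveI : Nontrivial I := ⟨⟨(x : X) • t, t, fun h => hx1 (hreg.1 (by simpa using h))⟩⟩
  set L := Subgroup.closure T with hL
  let S : Set I := {i | ∃ l ∈ L, i = (l : X) • t}
  have key : ∀ l ∈ L, ∀ g : X, g • t = t → g • ((l : X) • t) ∈ S := by
    intro l hl
    refine Subgroup.closure_induction (G := J)
      (p := fun (l : J) _ => ∀ g : X, g • t = t → g • ((l : X) • t) ∈ S) ?_ ?_ ?_ ?_ hl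
    · intro s hs g hg
      obtain ⟨s', hs'⟩ := hreg.2 (g • ((s : X) • t))
      exact ⟨s', Subgroup.subset_closure (hT s s' ⟨g, hg, hs'.symm⟩ hs), hs'.symm⟩
    · intro g hg
      exact ⟨1, one_mem L, by simpa using hg⟩
    · intro a b _ _ ha hb g hg
      obtain ⟨a', ha', ea⟩ := ha g hg
      obtain ⟨b', hb', eb⟩ := hb ((a' : X)⁻¹ * g * (a : X))
        (by rw [mul_smul, mul_smul, ea, inv_smul_smul])
      refine ⟨a' * b', mul_mem ha' hb', ?_⟩
      rw [Subgroup.coe_mul, Subgroup.coe_mul, mul_smul, mul_smul, ← eb]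
      simp only [mul_smul, smul_inv_smul]
    · intro a _ ha g hg
      obtain ⟨b, hb⟩ := hreg.2 (g • (((a⁻¹ : J) : X) • t))
      obtain ⟨a', ha', ea⟩ := ha ((b : X)⁻¹ * g * (a : X)⁻¹)
        (by
          rw [mul_smul, mul_smul, ← Subgroup.coe_inv, ← Subgroup.coe_inv,
            ← show (b : X) • t = g • (((a⁻¹ : J) : X) • t) from hb, Subgroup.coe_inv,
            inv_smul_smul])
      rw [mul_smul, mul_smul, inv_smul_smul, hg, ← Subgroup.coe_inv] at ea
      exact ⟨b, inv_mem_iff.1 (hreg.1 ea ▸ ha'), hb.symm⟩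
  let K : Subgroup X :=
    { carrier := {g | ∀ i, g • i ∈ S ↔ i ∈ S}
      one_mem' := fun i => by rw [one_smul]
      mul_mem' := fun {g g'} hg hg' i => by rw [mul_smul, hg, hg']
      inv_mem' := fun {g} hg i => by rw [← hg (g⁻¹ • i), smul_inv_smul] }
  have hstab : stabilizer X t ≤ K := by
    have into : ∀ g : X, g • t = t → ∀ i ∈ S, g • i ∈ S := fun g hg i ⟨l, hl, e⟩ =>
      e ▸ key l hl g hg
    intro g hg i
    refine ⟨fun h => ?_, into g hg i⟩
    have := into g⁻¹ (inv_smul_eq_iff.2 (mem_stabilizer_iff.1 hg).symm) _ h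
    rwa [inv_smul_smul] at this
  have hLK : ∀ l ∈ L, (l : X) ∈ K := by
    have into : ∀ l ∈ L, ∀ i ∈ S, (l : X) • i ∈ S := fun l hl i ⟨m, hm, e⟩ =>
      ⟨l * m, mul_mem hl hm, by rw [e, Subgroup.coe_mul, mul_smul]⟩
    intro l hl i
    refine ⟨fun h => ?_, into l hl i⟩
    have := into l⁻¹ (inv_mem hl) _ h
    rwa [Subgroup.coe_inv, inv_smul_smul] at this
  have htS : t ∈ S := ⟨1, one_mem L, by simp⟩
  rcases (IsCoatom.le_iff (IsPreprimitive.isCoatom_stabilizer_of_isPreprimitive (G := X) t)).1 hstab with h | h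
  · rw [eq_top_iff]
    intro j _
    obtain ⟨l, hl, e⟩ : (j : X) • t ∈ S := ((h ▸ Subgroup.mem_top _ : (j : X) ∈ K) t).2 htS
    exact hreg.1 e ▸ hl
  · exfalso
    have : (x : X) ∈ K := hLK x (Subgroup.subset_closure hxT)
    rw [h, mem_stabilizer_iff] at this
    exact hx1 (hreg.1 (by simpa using this))

variable (hcomm : ∀ a b : J, a * b = b * a)
include hcomm

section Frobenius

variable [Fintype J]

/-- Counting `q`-th powers in an invariant set modulo `q` gives an invariant function. -/
theorem inv_pow_count [DecidableEq J] {q : ℕ} [Fact q.Prime] (O : Finset J)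
    (hO : InvSet J t (O : Set J)) :
    Inv J t fun k => ((O.filter fun j => j ^ q = k).card : ZMod q) := by
  letI : CommGroup J := { (inferInstance : Group J) with mul_comm := hcomm }
  haveI : CharP (MonoidAlgebra (ZMod q) J) q :=
    charP_of_injective_algebraMap (algebraMap (ZMod q) (MonoidAlgebra (ZMod q) J)).injective q
  set F : MonoidAlgebra (ZMod q) J := ∑ j ∈ O, MonoidAlgebra.single j 1 with hF
  have hmem : Inv J t fun j => if j ∈ O then (1 : ZMod q) else 0 := fun a b hab => by
    by_cases ha : a ∈ O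
    · simp [ha, show b ∈ O from hO a b hab ha]
    · have : b ∉ O := fun hb => ha (hO b a (rel_symm J t hab) hb)
      simp [ha, this]
  have hmul : ∀ x : MonoidAlgebra (ZMod q) J, ∀ k : J,
      (x * F).coeff k = ∑ j : J, (if j ∈ O then (1 : ZMod q) else 0) * x.coeff (j⁻¹ * k) := by
    intro x k
    simp only [hF, Finset.mul_sum, MonoidAlgebra.coeff_sum, Finsupp.finsetSum_apply,
      MonoidAlgebra.coeff_mul_single_apply, mul_one, ite_mul, one_mul, zero_mul,
      Finset.sum_ite_mem, Finset.univ_inter]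
    exact Finset.sum_congr rfl fun j _ => by rw [mul_comm]
  have hn : ∀ n : ℕ, Inv J t fun k => (F ^ n).coeff k := by
    intro n
    induction n with
    | zero =>
      intro a b hab
      simp only [pow_zero, MonoidAlgebra.one_def, MonoidAlgebra.coeff_single]
      by_cases ha : a = 1
      · subst ha
        rw [rel_one J t hreg hab]
      · have hb : b ≠ 1 := fun hb => ha (rel_one J t hreg (hb ▸ rel_symm J t hab))
        rw [Finsupp.single_eq_of_ne ha, Finsupp.single_eq_of_ne hb]
    | succ n ih =>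
      simp only [pow_succ, hmul]
      exact inv_conv J t hreg hmem ih
  have hq := hn q
  have hcount : ∀ k : J, (F ^ q).coeff k = ((O.filter fun j => j ^ q = k).card : ZMod q) := by
    intro k
    simp [hF, sum_pow_char q, MonoidAlgebra.single_pow, MonoidAlgebra.coeff_sum,
      Finsupp.finsetSum_apply, Finsupp.single_apply, Finset.sum_boole]
  simp only [hcount] at hq
  exact hq

end Frobenius

variable [Fintype J] [IsPreprimitive X I] {q : ℕ} [Fact q.Prime]
variable (hker : Nat.card {j : J // j ^ q = 1} = q) (hne : ∃ j : J, j ^ q ≠ 1)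
include hker hne

theorem dvd_fibre [DecidableEq J] (O : Finset J) (hO : InvSet J t (O : Set J)) {k : J}
    (hk : k ≠ 1) : q ∣ (O.filter fun j => j ^ q = k).card := by
  letI : CommGroup J := { (inferInstance : Group J) with mul_comm := hcomm }
  set T : Set J := {k | ((O.filter fun j => j ^ q = k).card : ZMod q) ≠ 0}
  have hT : InvSet J t T := fun a b hab ha => by
    exact fun e => ha ((inv_pow_count J t hreg hcomm (q := q) O hO a b hab).trans e)
  by_contra h
  have hkT : k ∈ T := fun e => h ((ZMod.natCast_eq_zero_iff _ _).1 e)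
  have hle : Subgroup.closure T ≤ (powMonoidHom q : J →* J).range := by
    rw [Subgroup.closure_le]
    intro a ha
    obtain ⟨j, hj⟩ := Finset.card_pos.1 (Nat.pos_of_ne_zero fun e =>
      ha (by rw [e, Nat.cast_zero]))
    exact ⟨j, (Finset.mem_filter.1 hj).2⟩
  rw [closure_eq_top J t hreg hT ⟨k, hkT, hk⟩, top_le_iff, MonoidHom.range_eq_top] at hle
  have hinj : Function.Injective (powMonoidHom q : J →* J) := Finite.injective_iff_surjective.2 hle
  have : Subsingleton {j : J // j ^ q = 1} :=
    ⟨fun a b => Subtype.ext (hinj (a.2.trans b.2.symm))⟩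
  have := Nat.card_of_subsingleton (⟨1, one_pow q⟩ : {j : J // j ^ q = 1})
  exact (Fact.out : q.Prime).one_lt.ne' (hker ▸ this)

theorem card_roots [DecidableEq J] : (Finset.univ.filter fun j : J => j ^ q = 1).card = q := by
  rw [← Fintype.card_subtype, ← Nat.card_eq_fintype_card, hker]

theorem mul_root_mem [DecidableEq J] (O : Finset J) (hO : InvSet J t (O : Set J)) {x g : J}
    (hx : x ∈ O) (hx1 : x ^ q ≠ 1) (hg : g ^ q = 1) : g * x ∈ O := by
  letI : CommGroup J := { (inferInstance : Group J) with mul_comm := hcomm }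
  set Fib := Finset.univ.filter fun j : J => j ^ q = x ^ q
  have hF : Fib.card = q := by
    have he : Fib = (Finset.univ.filter fun j : J => j ^ q = 1).map
        ⟨(· * x), mul_left_injective x⟩ := by
      ext j
      simp only [Fib, Finset.mem_filter, Finset.mem_univ, true_and, Finset.mem_map,
        Function.Embedding.coeFn_mk]
      refine ⟨fun h => ⟨j * x⁻¹, by rw [mul_pow, h, inv_pow, mul_inv_cancel], inv_mul_cancel_right _ _⟩,
        ?_⟩
      rintro ⟨a, ha, rfl⟩
      rw [mul_pow, ha, one_mul]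
    rw [he, Finset.card_map, card_roots J t hreg hcomm hker hne]
  have hsub : O.filter (fun j => j ^ q = x ^ q) ⊆ Fib :=
    Finset.filter_subset_filter _ (Finset.subset_univ O)
  have hpos : 0 < (O.filter fun j => j ^ q = x ^ q).card :=
    Finset.card_pos.2 ⟨x, Finset.mem_filter.2 ⟨hx, rfl⟩⟩
  have hle := Nat.le_of_dvd hpos (dvd_fibre J t hreg hcomm hker hne O hO hx1)
  have he := Finset.eq_of_subset_of_card_le hsub (hF.trans_le hle)
  have : g * x ∈ Fib := Finset.mem_filter.2 ⟨Finset.mem_univ _, by rw [mul_pow, hg, one_mul]⟩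
  rw [← he] at this
  exact (Finset.mem_filter.1 this).1

/-- The number of ways to write `p` as a quotient of two elements of `O`. -/
theorem inv_quot [DecidableEq J] (O : Finset J) (hO : InvSet J t (O : Set J)) :
    Inv J t fun p => (O.filter fun x => p⁻¹ * x ∈ O).card := by
  have hmem : Inv J t fun j => if j ∈ O then 1 else 0 := fun a b hab => by
    by_cases ha : a ∈ O
    · simp [ha, show b ∈ O from hO a b hab ha]
    · have : b ∉ O := fun hb => ha (hO b a (rel_symm J t hab) hb)
      simp [ha, this]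
  have he : (fun p => (O.filter fun x => p⁻¹ * x ∈ O).card) = fun p =>
      ∑ j : J, (if j ∈ O then 1 else 0) * if (j⁻¹ * p)⁻¹ ∈ O then 1 else 0 := by
    funext p
    simp only [ite_mul, one_mul, zero_mul, Finset.sum_ite_mem, Finset.univ_inter, mul_inv_rev,
      inv_inv, Finset.card_filter]
  rw [he]
  exact inv_conv J t hreg hmem (inv_comp_inv J t hmem)

theorem exists_root_mem [DecidableEq J] (O : Finset J) (hO : InvSet J t (O : Set J))
    (hne' : O.Nonempty) (h1 : (1 : J) ∉ O) : ∃ g ∈ O, g ≠ 1 ∧ g ^ q = 1 := by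
  by_contra hcon
  have hno : ∀ x ∈ O, x ^ q ≠ 1 := fun x hx e =>
    hcon ⟨x, hx, fun e' => h1 (e' ▸ hx), e⟩
  let P : Subgroup J :=
    { carrier := {p | ∀ x, p * x ∈ O ↔ x ∈ O}
      one_mem' := fun x => by rw [one_mul]
      mul_mem' := fun {a b} ha hb x => by rw [mul_assoc, ha, hb]
      inv_mem' := fun {a} ha x => by rw [← ha (a⁻¹ * x), mul_inv_cancel_left] }
  set T : Set J := {p | (O.filter fun x => p⁻¹ * x ∈ O).card = O.card}
  have hT : InvSet J t T := fun a b hab ha => by
    simp only [T, Set.mem_ofPred_eq] at ha ⊢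
    exact (inv_quot J t hreg hcomm hker hne O hO a b hab).symm.trans ha
  have hTP : T ⊆ (P : Set J) := by
    intro p hp
    have hp' := Finset.filter_eq_self.1
      (Finset.eq_of_subset_of_card_le (Finset.filter_subset _ _) (le_of_eq (Eq.symm hp)))
    have himg : O.image (fun x => p⁻¹ * x) = O := by
      refine Finset.eq_of_subset_of_card_le (Finset.image_subset_iff.2 hp') ?_
      rw [Finset.card_image_of_injective _ (mul_right_injective p⁻¹)]
    intro x
    constructor
    · intro h
      simpa using hp' _ h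
    · intro h
      rw [← himg, Finset.mem_image] at h
      obtain ⟨y, hy, rfl⟩ := h
      simpa using hy
  obtain ⟨g, hg, hg1⟩ : ∃ g : J, g ^ q = 1 ∧ g ≠ 1 := by
    by_contra h
    have : Subsingleton {j : J // j ^ q = 1} := ⟨fun a b => Subtype.ext <|
      (not_not.1 fun e => h ⟨a.1, a.2, e⟩ : a.1 = 1).trans
        (not_not.1 fun e => h ⟨b.1, b.2, e⟩ : b.1 = 1).symm⟩
    have := Nat.card_of_subsingleton (⟨1, one_pow q⟩ : {j : J // j ^ q = 1})
    exact (Fact.out : q.Prime).one_lt.ne' (hker ▸ this)
  have hgT : g ∈ T := congrArg Finset.card (Finset.filter_eq_self.2 fun x hx =>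
    mul_root_mem J t hreg hcomm hker hne O hO hx (hno x hx) (by rw [inv_pow, hg, inv_one]))
  have htop := closure_eq_top J t hreg hT ⟨g, hgT, hg1⟩
  obtain ⟨x, hx⟩ := hne'
  have hxP : x⁻¹ ∈ P := (Subgroup.closure_le P).2 hTP (htop ▸ Subgroup.mem_top _)
  have := (hxP x).2 hx
  rw [inv_mul_cancel] at this
  exact h1 this

theorem orbit_large [DecidableEq J] (O : Finset J) (hO : InvSet J t (O : Set J))
    (hne' : O.Nonempty) (h1 : (1 : J) ∉ O) : Fintype.card J ≤ 2 * O.card := by
  by_contra hsmall
  rw [not_le] at hsmall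
  letI : CommGroup J := { (inferInstance : Group J) with mul_comm := hcomm }
  set O1 := O.filter fun x => x ^ q ≠ 1 with hO1
  set O0 := O.filter fun x => x ^ q = 1 with hO0
  have hsum : O0.card + O1.card = O.card := by
    rw [hO0, hO1, Finset.card_filter_add_card_filter_not]
  have h0 : O0.card + 1 ≤ q := by
    have hsub : insert 1 O0 ⊆ Finset.univ.filter fun j : J => j ^ q = 1 := by
      intro j hj
      rcases Finset.mem_insert.1 hj with rfl | hj
      · exact Finset.mem_filter.2 ⟨Finset.mem_univ _, one_pow q⟩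
      · exact Finset.mem_filter.2 ⟨Finset.mem_univ _, (Finset.mem_filter.1 hj).2⟩
    have := Finset.card_le_card hsub
    rwa [card_roots J t hreg hcomm hker hne,
      Finset.card_insert_of_notMem fun h => h1 (Finset.mem_filter.1 h).1] at this
  have hdvd : q ∣ O1.card := by
    rw [Finset.card_eq_sum_card_image (fun x => x ^ q) O1]
    refine Finset.dvd_sum fun k hk => ?_
    obtain ⟨x, hx, rfl⟩ := Finset.mem_image.1 hk
    have hx1 := (Finset.mem_filter.1 hx).2
    have he : O1.filter (fun y => y ^ q = x ^ q) = O.filter fun y => y ^ q = x ^ q := by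
      rw [hO1, Finset.filter_filter]
      exact Finset.filter_congr fun y _ => ⟨fun h => h.2, fun h => ⟨h ▸ hx1, h⟩⟩
    rw [he]
    exact dvd_fibre J t hreg hcomm hker hne O hO hx1
  let D : J → ℕ := fun p => (O.filter fun x => p⁻¹ * x ∈ O).card
  have hD : ∀ p : J, p ≠ 1 → O1.card ≤ D p := by
    intro p hp
    classical
    set Op := Finset.univ.filter fun b : J => Rel J t p b
    have hOp : InvSet J t (Op : Set J) := fun a b hab ha => by
      simp only [Op, Finset.coe_filter, Set.mem_ofPred_eq] at ha ⊢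
      exact ⟨Finset.mem_univ _, rel_trans J t ha.2 hab⟩
    obtain ⟨g, hgp, hg1, hg⟩ := exists_root_mem J t hreg hcomm hker hne Op hOp
      ⟨p, Finset.mem_filter.2 ⟨Finset.mem_univ _, rel_refl J t p⟩⟩
      (fun h => hp (rel_one J t hreg (rel_symm J t (Finset.mem_filter.1 h).2)))
    rw [show D p = D g from inv_quot J t hreg hcomm hker hne O hO p g (Finset.mem_filter.1 hgp).2]
    refine Finset.card_le_card fun x hx => Finset.mem_filter.2 ⟨(Finset.mem_filter.1 hx).1, ?_⟩
    exact mul_root_mem J t hreg hcomm hker hne O hO (Finset.mem_filter.1 hx).1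
      (Finset.mem_filter.1 hx).2 (by rw [inv_pow, hg, inv_one])
  have hsumD : ∑ p : J, D p = O.card * O.card := by
    simp only [D, Finset.card_filter]
    rw [Finset.sum_comm, ← smul_eq_mul O.card O.card, ← Finset.sum_const]
    refine Finset.sum_congr rfl fun x _ => ?_
    rw [← Finset.card_filter]
    refine Finset.card_bij (fun p _ => p⁻¹ * x) (fun p hp => (Finset.mem_filter.1 hp).2)
      (fun a _ b _ h => inv_injective (mul_right_cancel h)) fun y hy => ?_
    exact ⟨x * y⁻¹, Finset.mem_filter.2 ⟨Finset.mem_univ _, by simpa using hy⟩, by simp⟩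
  have hD1 : D 1 = O.card := congrArg Finset.card (Finset.filter_eq_self.2 fun x hx => by simpa)
  have hle : (Fintype.card J - 1) * O1.card + O.card ≤ O.card * O.card := by
    rw [← hsumD, ← Finset.sum_erase_add _ _ (Finset.mem_univ (1 : J)), hD1]
    refine Nat.add_le_add_right ?_ _
    have := Finset.card_nsmul_le_sum (Finset.univ.erase (1 : J)) D O1.card
      fun p hp => hD p (Finset.ne_of_mem_erase hp)
    rwa [Finset.card_erase_of_mem (Finset.mem_univ _), Finset.card_univ, smul_eq_mul] at this
  have hO1' : O1.card = 0 := by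
    by_contra h
    have hq : q ≤ O1.card := Nat.le_of_dvd (Nat.pos_of_ne_zero h) hdvd
    have hm : 2 * O.card * O1.card ≤ (Fintype.card J - 1) * O1.card :=
      Nat.mul_le_mul_right _ (by omega)
    have : (2 * O1.card + 1) * O.card ≤ O.card * O.card := by
      calc (2 * O1.card + 1) * O.card = 2 * O.card * O1.card + O.card := by ring
        _ ≤ _ := by omega
    have := Nat.le_of_mul_le_mul_right this hne'.card_pos
    omega
  have hker' : (O : Set J) ⊆ ((powMonoidHom q : J →* J).ker : Set J) := fun x hx => by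
    by_contra h
    have : x ∈ O1 := Finset.mem_filter.2 ⟨hx, h⟩
    rw [Finset.card_eq_zero.1 hO1'] at this
    exact absurd this (Finset.notMem_empty x)
  obtain ⟨x, hx⟩ := hne'
  have htop := closure_eq_top J t hreg hO ⟨x, hx, fun e => h1 (e ▸ hx)⟩
  obtain ⟨j, hj⟩ := hne
  exact hj ((Subgroup.closure_le _).2 hker' (htop ▸ Subgroup.mem_top j))

theorem rel_of_ne_one {a b : J} (ha : a ≠ 1) (hb : b ≠ 1) : Rel J t a b := by
  classical
  by_contra hab
  have orb : ∀ c : J, c ≠ 1 → Fintype.card J ≤ 2 * (Finset.univ.filter (Rel J t c)).card := by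
    intro c hc
    refine orbit_large J t hreg hcomm hker hne _ ?_
      ⟨c, Finset.mem_filter.2 ⟨Finset.mem_univ _, rel_refl J t c⟩⟩
      (fun h => hc (rel_one J t hreg (rel_symm J t (Finset.mem_filter.1 h).2)))
    intro x y hxy hx
    simp only [Finset.coe_filter, Set.mem_ofPred_eq] at hx ⊢
    exact ⟨Finset.mem_univ _, rel_trans J t hx.2 hxy⟩
  have hdis : Disjoint (Finset.univ.filter (Rel J t a)) (Finset.univ.filter (Rel J t b)) := by
    rw [Finset.disjoint_left]
    intro x hx hy
    exact hab (rel_trans J t (Finset.mem_filter.1 hx).2 (rel_symm J t (Finset.mem_filter.1 hy).2))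
  have hlt : ((Finset.univ.filter (Rel J t a)).disjUnion _ hdis).card < Fintype.card J := by
    refine Finset.card_lt_univ_of_notMem (x := (1 : J)) ?_
    simp only [Finset.mem_disjUnion, Finset.mem_filter, Finset.mem_univ, true_and, not_or]
    exact ⟨fun h => ha (rel_one J t hreg (rel_symm J t h)),
      fun h => hb (rel_one J t hreg (rel_symm J t h))⟩
  rw [Finset.card_disjUnion] at hlt
  have := orb a ha
  have := orb b hb
  omega

/-- A primitive group with an abelian regular subgroup having exactly `q` roots of unity of order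
dividing `q`, but not of exponent `q`, is doubly transitive. -/
theorem isMultiplyPretransitive_two : IsMultiplyPretransitive X I 2 := by
  rw [is_two_pretransitive_iff]
  intro a b c d hab hcd
  obtain ⟨g₁, hg₁⟩ := exists_smul_eq X a t
  obtain ⟨g₂, hg₂⟩ := exists_smul_eq X c t
  obtain ⟨j, hj⟩ := hreg.2 (g₁ • b)
  obtain ⟨k, hk⟩ := hreg.2 (g₂ • d)
  simp only at hj hk
  obtain ⟨h, ht, hjk⟩ := rel_of_ne_one J t hreg hcomm hker hne (a := j) (b := k)
    (fun e => hab <| MulAction.injective g₁ <| show g₁ • a = g₁ • b by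
      rw [hg₁, ← hj, e]; simp)
    (fun e => hcd <| MulAction.injective g₂ <| show g₂ • c = g₂ • d by
      rw [hg₂, ← hk, e]; simp)
  refine ⟨g₂⁻¹ * (h * g₁), ?_, ?_⟩
  · rw [mul_smul, mul_smul, hg₁, ht, inv_smul_eq_iff, hg₂]
  · rw [mul_smul, mul_smul, ← hj, hjk, inv_smul_eq_iff, hk]

omit hker hne in
/-- The form with a cyclic Sylow `q`-subgroup, for a subgroup of order not a power of `q`. -/
theorem isMultiplyPretransitive_two_of_cyclic_sylow (hq : q ∣ Nat.card J)
    (hnpow : ∀ n : ℕ, Nat.card J ≠ q ^ n) (P : Sylow q J) (hP : IsCyclic P) :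
    IsMultiplyPretransitive X I 2 := by
  classical
  letI : CommGroup J := { (inferInstance : Group J) with mul_comm := hcomm }
  have hmem : ∀ j : J, j ^ q = 1 → j ∈ (P : Subgroup J) := by
    intro j hj
    have hz : IsPGroup q (Subgroup.zpowers j) := by
      rintro ⟨x, hx⟩
      obtain ⟨n, rfl⟩ := Subgroup.mem_zpowers_iff.1 hx
      exact ⟨1, Subtype.ext (by
        rw [pow_one, SubgroupClass.coe_pow, ← zpow_natCast, ← zpow_mul, mul_comm, zpow_mul,
          zpow_natCast, hj, one_zpow, OneMemClass.coe_one])⟩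
    obtain ⟨Q, hQ⟩ := hz.exists_le_sylow
    haveI := Sylow.unique_of_normal P inferInstance
    rw [Subsingleton.elim P Q]
    exact hQ (Subgroup.mem_zpowers j)
  refine isMultiplyPretransitive_two J t hreg hcomm (q := q) ?_ ?_
  · have hqP : q ∣ Nat.card P := by
      have := P.dvd_card_of_dvd_card hq
      exact this
    let e : {x : P // x ^ q = 1} ≃ {j : J // j ^ q = 1} :=
      { toFun := fun x => ⟨x.1.1, by simpa [Subtype.ext_iff] using x.2⟩
        invFun := fun j => ⟨⟨j.1, hmem j.1 j.2⟩, Subtype.ext (by simpa using j.2)⟩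
        left_inv := fun _ => rfl
        right_inv := fun _ => rfl }
    rw [← Nat.card_congr e]
    apply le_antisymm
    · rw [Nat.card_eq_fintype_card, Fintype.card_subtype]
      exact IsCyclic.card_pow_eq_one_le (Fact.out : q.Prime).pos
    · obtain ⟨x, hx⟩ := exists_prime_orderOf_dvd_card' q hqP
      calc q = Nat.card (Subgroup.zpowers x) := by rw [Nat.card_zpowers, hx]
        _ ≤ _ := by
          refine Nat.card_le_card_of_injective
            (fun y => (⟨y.1, orderOf_dvd_iff_pow_eq_one.1
              ((orderOf_dvd_of_mem_zpowers y.2).trans (dvd_of_eq hx))⟩ : {z : P // z ^ q = 1})) ?_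
          intro y z h
          exact Subtype.ext (congrArg (fun w : {z : P // z ^ q = 1} => w.1) h)
  · by_contra h
    push Not at h
    obtain ⟨n, hn⟩ := IsPGroup.iff_card.1 (fun j : J => ⟨1, by rw [pow_one, h j]⟩ : IsPGroup q J)
    exact hnpow n hn

end CfsgLib.BenderSplit.OrbitLemma
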