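import Cfsg.Agent.Lib.LocalEven.BenderSplit.Main
import Cfsg.Agent.Lib.LocalEven.BenderSplit.Linear.Pure
import Cfsg.Agent.Lib.LocalEven.BenderSplit.NonLinear.Main
import Cfsg.Agent.Lib.LocalEven.BenderSplit.Final

/-!
# Bender's splitting theorem

A least configuration splits, hence every core-free configuration with two commuting involutions.
-/

set_option autoImplicit false

namespace CfsgLib.LocalEven.BenderSplit

open Subgroup MulAction CfsgLib.LocalEven.StrongCore

universe u

/-- Every least configuration splits. -/
theorem splitMin : SplitMin.{u} := by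
  intro G _ _ H h
  classical
  obtain ⟨g, hg⟩ : ∃ g : G, g ∉ H := by
    by_contra hall
    push Not at hall
    exact h.min.se.1 (eq_top_iff.2 fun g _ => hall g)
  have hab : ((1 : G) : G ⧸ H) ≠ (g : G ⧸ H) := fun e => hg (by simpa using QuotientGroup.eq.1 e)
  by_cases hlin : ∀ s t : G, orderOf s = 2 → s • ((1 : G) : G ⧸ H) = ((1 : G) : G ⧸ H) →
      orderOf t = 2 → t • ((1 : G) : G ⧸ H) = ((1 : G) : G ⧸ H) → Commute s t
  · exact hasSplit_of_linear h hab hlin fun hc x hx =>
      twoGen_le_centralizer_of_pure h hab hlin hc hx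
  · push Not at hlin
    obtain ⟨s, t, hs, hsa, ht, hta, hst⟩ := hlin
    exact (NonLinear.false_of_not_commute h hab hs hsa ht hta hst).elim

end CfsgLib.LocalEven.BenderSplit
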