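import Cfsg.Agent.Lib.LocalEven.StrongCore.Main

/-!
# Splitting of the stabiliser in a group with a strongly embedded subgroup

`HasSplit H`: `H` has a normal `2`-subgroup transitive on the cosets different from `H`; it is
then regular there.  `SplitBelow n`: this holds in all configurations of order below `n`.
-/

set_option autoImplicit false
set_option linter.style.haveILetI false

namespace CfsgLib.LocalEven.BenderSplit

open Subgroup MulAction CfsgLib.Involution.Dihedral CfsgLib.Involution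
  CfsgLib.LocalEven.BenderTransitive CfsgLib.LocalEven.SwapInjective CfsgLib.LocalEven.StrongCore

universe u

/-- `H` has a normal `2`-subgroup transitive on the cosets different from `H`. -/
def HasSplit {G : Type u} [Group G] (H : Subgroup G) : Prop :=
  ∃ T : Subgroup G, T ≤ H ∧ IsPGroup 2 T ∧ H ≤ normalizer (T : Set G) ∧
    ∀ g g' : G, g ∉ H → g' ∉ H → ∃ t ∈ T, (t * g)⁻¹ * g' ∈ H

/-- Splitting for all groups of smaller order. -/
def SplitBelow (n : ℕ) : Prop :=
  ∀ (G : Type u) [Group G] [Finite G] (H : Subgroup G), Nat.card G < n →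
    Cfsg.IsStronglyEmbedded H →
    (∃ x y : G, orderOf x = 2 ∧ orderOf y = 2 ∧ x ≠ y ∧ Commute x y) →
    H.normalCore = ⊥ → HasSplit H

theorem SplitBelow.mono {m n : ℕ} (h : SplitBelow.{u} n) (hmn : m ≤ n) : SplitBelow.{u} m :=
  fun G _ _ H hG => h G H (hG.trans_le hmn)

variable {G : Type u} [Group G] {H : Subgroup G}

/-- A least counterexample to splitting. -/
structure MinSplit (H : Subgroup G) [Finite G] : Prop where
  min : StrongCore.Min H
  split : SplitBelow.{u} (Nat.card G)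

theorem MinSplit.mk' [Finite G] (hH : Cfsg.IsStronglyEmbedded H)
    (hcomm : ∃ x y : G, orderOf x = 2 ∧ orderOf y = 2 ∧ x ≠ y ∧ Commute x y)
    (hcore : H.normalCore = ⊥) (hIH : SplitBelow.{u} (Nat.card G)) : MinSplit H :=
  ⟨⟨hH, hcomm, hcore, coreBelow _⟩, hIH⟩

section Finite

variable [Finite G]

/-- An element of `2`-power order fixing two cosets is trivial. -/
theorem eq_one_of_two_fixed (hH : Cfsg.IsStronglyEmbedded H) {t : G} {i : ℕ}
    (hi : t ^ 2 ^ i = 1) {a b : G ⧸ H} (hab : a ≠ b) (ha : t • a = a) (hb : t • b = b) : t = 1 := by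
  obtain ⟨k, -, hk⟩ := (Nat.dvd_prime_pow Nat.prime_two).1 (orderOf_dvd_of_pow_eq_one hi)
  rcases k with _ | k
  · exact orderOf_eq_one_iff.1 (by rw [hk, pow_zero])
  · exfalso
    have ho : orderOf (t ^ 2 ^ k) = 2 := by
      rw [orderOf_pow' _ (pow_ne_zero _ two_ne_zero), hk,
        Nat.gcd_eq_right (pow_dvd_pow 2 k.le_succ), pow_succ,
        Nat.mul_div_cancel_left _ (pow_pos two_pos k)]
    refine hab (SE.fixed_unique hH ho ?_ ?_)
    · exact mem_stabilizer_iff.1 (pow_mem (mem_stabilizer_iff.2 ha) _)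
    · exact mem_stabilizer_iff.1 (pow_mem (mem_stabilizer_iff.2 hb) _)

theorem eq_one_of_pgroup_fixed (hH : Cfsg.IsStronglyEmbedded H) {T : Subgroup G}
    (hT : IsPGroup 2 T) {t : G} (ht : t ∈ T) {a b : G ⧸ H} (hab : a ≠ b) (ha : t • a = a)
    (hb : t • b = b) : t = 1 := by
  obtain ⟨i, hi⟩ := hT ⟨t, ht⟩
  exact eq_one_of_two_fixed hH (congrArg Subtype.val hi) hab ha hb

end Finite

/-- Transitivity of a subgroup of `H` read on the cosets. -/
theorem exists_smul_of_split {T : Subgroup G}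
    (h : ∀ g g' : G, g ∉ H → g' ∉ H → ∃ t ∈ T, (t * g)⁻¹ * g' ∈ H) {b c : G ⧸ H}
    (hb : b ≠ ((1 : G) : G ⧸ H)) (hc : c ≠ ((1 : G) : G ⧸ H)) : ∃ t ∈ T, t • b = c := by
  induction b using QuotientGroup.induction_on with
  | H g =>
  induction c using QuotientGroup.induction_on with
  | H g' =>
  obtain ⟨t, ht, hmem⟩ := h g g' (fun hg => hb (QuotientGroup.eq.2 (by simpa using hg)))
    (fun hg => hc (QuotientGroup.eq.2 (by simpa using hg)))
  exact ⟨t, ht, by rw [MulAction.Quotient.smul_mk, smul_eq_mul]; exact QuotientGroup.eq.2 hmem⟩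

/-- The splitting subgroup at any coset. -/
theorem HasSplit.exists_at [Finite G] (h : HasSplit H) (a : G ⧸ H) :
    ∃ T : Subgroup G, T ≤ stabilizer G a ∧ IsPGroup 2 T ∧
      stabilizer G a ≤ normalizer (T : Set G) ∧
      ∀ b c : G ⧸ H, b ≠ a → c ≠ a → ∃ t ∈ T, t • b = c := by
  obtain ⟨T, hTH, hT, hN, htr⟩ := h
  induction a using QuotientGroup.induction_on with
  | H g =>
  refine ⟨T.map (MulAut.conj g).toMonoidHom, ?_, hT.map _, fun x hx => ?_, fun b c hb hc => ?_⟩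
  · rintro _ ⟨t, ht, rfl⟩
    rw [mem_stabilizer_iff, SE.fixes_mk_iff]
    simpa [mul_assoc] using hTH ht
  · have hxH : g⁻¹ * x * g ∈ H := SE.fixes_mk_iff.1 (mem_stabilizer_iff.1 hx)
    refine Coprime.mem_normalizer_of_conj_map_le ?_
    rintro _ ⟨t, ht, rfl⟩
    exact ⟨(g⁻¹ * x * g) * t * (g⁻¹ * x * g)⁻¹,
      BenderTransitive.conj_mem_of_mem_normalizer (hN hxH) ht, by simp [mul_assoc]⟩
  · have hne : ∀ {d : G ⧸ H}, d ≠ (g : G ⧸ H) → g⁻¹ • d ≠ ((1 : G) : G ⧸ H) := fun hd e =>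
      hd (by rw [inv_smul_eq_iff] at e; simpa [MulAction.Quotient.smul_mk] using e)
    obtain ⟨t, ht, e⟩ := exists_smul_of_split htr (hne hb) (hne hc)
    refine ⟨g * t * g⁻¹, ⟨t, ht, rfl⟩, ?_⟩
    rw [mul_smul, mul_smul, e, smul_inv_smul]

section Quotient

variable [Finite G]

/-- Splitting modulo the normal core. -/
theorem exists_split_mod_core {n : ℕ} (hIH : SplitBelow.{u} n) (hn : Nat.card G < n)
    (hH : Cfsg.IsStronglyEmbedded H)
    (hcomm : ∃ x y : G, orderOf x = 2 ∧ orderOf y = 2 ∧ x ≠ y ∧ Commute x y) :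
    ∃ T : Subgroup G, H.normalCore ≤ T ∧ T ≤ H ∧ (∀ t ∈ T, ∃ i : ℕ, t ^ 2 ^ i ∈ H.normalCore) ∧
      H ≤ normalizer (T : Set G) ∧
      ∀ g g' : G, g ∉ H → g' ∉ H → ∃ t ∈ T, (t * g)⁻¹ * g' ∈ H := by
  classical
  set C := H.normalCore with hC
  have hCH : C ≤ H := H.normalCore_le
  set π := QuotientGroup.mk' C with hπ
  have hπH : ∀ {g : G}, π g ∈ H.map π → g ∈ H := fun h => mem_of_mk_mem hCH h
  have hCodd : ∀ t ∈ C, orderOf t ≠ 2 := by
    intro t ht ht2
    obtain ⟨g, hg⟩ : ∃ g : G, g ∉ H := by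
      by_contra hall
      push Not at hall
      exact hH.1 (eq_top_iff.2 fun g _ => hall g)
    have h1 : t • ((1 : G) : G ⧸ H) = ((1 : G) : G ⧸ H) := by
      rw [SE.fixes_mk_iff]; simpa using hCH ht
    have h2 : t • (g : G ⧸ H) = (g : G ⧸ H) := by
      rw [SE.fixes_mk_iff]; simpa using ht g⁻¹
    exact hg (by simpa using QuotientGroup.eq.1 (SE.fixed_unique hH ht2 h1 h2))
  have hπ2 : ∀ t : G, orderOf t = 2 → orderOf (π t) = 2 := fun t ht =>
    orderOf_eq_two (by rw [← map_mul, mul_self ht, map_one])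
      fun h => hCodd t ((QuotientGroup.eq_one_iff t).1 h) ht
  have hcard : Nat.card (G ⧸ C) < n :=
    lt_of_le_of_lt (Nat.card_le_card_of_surjective _ (QuotientGroup.mk'_surjective C)) hn
  have hSE : Cfsg.IsStronglyEmbedded (H.map π) := by
    refine ⟨fun h => hH.1 (eq_top_iff.2 fun g _ => hπH (h ▸ mem_top _)), ?_, fun g hg => ?_⟩
    · obtain ⟨t, htH, ht⟩ := Basic.exists_involution_of_even H hH.2.1
      rw [even_iff_two_dvd, ← hπ2 t ht]
      exact Subgroup.orderOf_dvd_natCard _ (mem_map_of_mem π htH)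
    · obtain ⟨g, rfl⟩ := QuotientGroup.mk'_surjective C g
      refine (hH.2.2 g fun h => hg (mem_map_of_mem π h)).of_dvd_nat ((Subgroup.card_dvd_of_le ?_).trans
        (Subgroup.card_map_dvd _ π))
      rintro _ ⟨⟨k, hk, rfl⟩, ⟨_, ⟨l, hl, rfl⟩, e⟩⟩
      refine ⟨k, ⟨hk, g⁻¹ * k * g, hπH ?_, by simp [mul_assoc]⟩, rfl⟩
      change π g * π l * (π g)⁻¹ = π k at e
      rw [map_mul, map_mul, map_inv, ← e]
      exact ⟨l, hl, by group⟩
  have hcore : (H.map π).normalCore = ⊥ := by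
    refine (Subgroup.eq_bot_iff_forall _).2 fun q hq => ?_
    obtain ⟨g, rfl⟩ := QuotientGroup.mk'_surjective C q
    refine (QuotientGroup.eq_one_iff g).2 fun x => hπH ?_
    rw [map_mul, map_mul, map_inv]
    exact hq (π x)
  obtain ⟨x, y, hx, hy, hxy, hc⟩ := hcomm
  obtain ⟨T, hTH, hT, hN, htr⟩ := hIH (G ⧸ C) (H.map π) hcard hSE
    ⟨π x, π y, hπ2 x hx, hπ2 y hy, fun e => hCodd (x * y)
      ((QuotientGroup.eq_one_iff _).1 (show π (x * y) = 1 by
        rw [map_mul, e, mul_self (hπ2 y hy)]))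
      (StrongCore.commute_mul hx hy hxy hc), hc.map π⟩ hcore
  refine ⟨T.comap π, fun c hc' => ?_, fun t ht => hπH (hTH ht), fun t ht => ?_, fun h hh => ?_,
    fun g g' hg hg' => ?_⟩
  · change π c ∈ T
    rw [show π c = 1 from (QuotientGroup.eq_one_iff c).2 hc']
    exact one_mem _
  · obtain ⟨i, hi⟩ := hT ⟨π t, ht⟩
    exact ⟨i, (QuotientGroup.eq_one_iff _).1 (show π (t ^ 2 ^ i) = 1 by
      rw [map_pow]; exact congrArg Subtype.val hi)⟩
  · refine Coprime.mem_normalizer_of_conj_map_le fun t ht => ?_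
    change π (h * t * h⁻¹) ∈ T
    rw [map_mul, map_mul, map_inv]
    exact BenderTransitive.conj_mem_of_mem_normalizer (hN (mem_map_of_mem π hh)) ht
  · obtain ⟨t, ht, hmem⟩ := htr (π g) (π g') (fun h => hg (hπH h)) (fun h => hg' (hπH h))
    obtain ⟨t, rfl⟩ := QuotientGroup.mk'_surjective C t
    refine ⟨t, ht, hπH ?_⟩
    rw [map_mul, map_inv, map_mul]
    exact hmem

end Quotient

end CfsgLib.LocalEven.BenderSplit
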