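import Cfsg.Agent.Lib.CharDeep.PrimePowerClass

/-!
# A minimal normal subgroup containing all involutions

If all involutions are conjugate and lie in a non-abelian minimal normal subgroup, that subgroup is
simple; so the number of involutions is no prime power when the subgroup is transitive on them.
-/

set_option autoImplicit false

namespace CfsgLib.LocalEven.BenderSplit

open Subgroup

variable {H : Type*} [Group H] [Finite H]

/-- A non-abelian minimal normal subgroup containing the single class of involutions is simple. -/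
theorem minimalNormal_isSimple (L : Subgroup H) [hLn : L.Normal]
    (hmin : ∀ N : Subgroup H, N.Normal → N ≤ L → N ≠ ⊥ → N = L)
    (hna : ¬ IsMulCommutative ↥L)
    (hex : ∃ t : H, orderOf t = 2) (hmem : ∀ t : H, orderOf t = 2 → t ∈ L)
    (hconj : ∀ s t : H, orderOf s = 2 → orderOf t = 2 → ∃ g : H, g * s * g⁻¹ = t) :
    IsSimpleGroup ↥L := by
  classical
  -- the family of non-trivial subgroups of `L` normalised by `L`
  let S : Set (Subgroup H) := {N | N ≤ L ∧ N ≠ ⊥ ∧ ∀ l ∈ L, ∀ n ∈ N, l * n * l⁻¹ ∈ N}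
  have hLne : L ≠ ⊥ := fun h => hna ⟨⟨fun x y => by
    have hx : x = 1 := Subtype.ext ((Subgroup.mem_bot).1 (h ▸ x.2))
    have hy : y = 1 := Subtype.ext ((Subgroup.mem_bot).1 (h ▸ y.2))
    rw [hx, hy]⟩⟩
  have hLS : L ∈ S := ⟨le_rfl, hLne, fun l _ n hn => hLn.conj_mem n hn l⟩
  obtain ⟨N, -, hNmem, hNmin'⟩ := (Set.toFinite S).exists_le_minimal hLS
  have hNS : N ∈ S := hNmem
  have hNmin : ∀ M ∈ S, M ≤ N → N ≤ M := fun M hM hle => hNmin' hM hle
  -- conjugates of `N`
  let c : H → Subgroup H := fun g => N.map (MulAut.conj g).toMonoidHom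
  have hcmem : ∀ g n, n ∈ N → g * n * g⁻¹ ∈ c g := fun g n hn =>
    ⟨n, hn, rfl⟩
  have hcmem' : ∀ g x, x ∈ c g → g⁻¹ * x * g ∈ N := by
    rintro g _ ⟨n, hn, rfl⟩
    rw [show g⁻¹ * (MulAut.conj g).toMonoidHom n * g = n by simp [mul_assoc]]
    exact hn
  have hcS : ∀ g, c g ∈ S := by
    intro g
    refine ⟨?_, fun h => hNS.2.1 (Subgroup.map_eq_bot_iff_of_injective _
      (MulAut.conj g).injective |>.1 h), ?_⟩
    · rintro _ ⟨n, hn, rfl⟩
      exact hLn.conj_mem n (hNS.1 hn) g
    · rintro l hl _ ⟨n, hn, rfl⟩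
      refine ⟨g⁻¹ * l * g * n * (g⁻¹ * l * g)⁻¹, hNS.2.2 _ ?_ n hn, by simp [mul_assoc]⟩
      simpa using hLn.conj_mem l hl g⁻¹
  have hcmin : ∀ g, ∀ M ∈ S, M ≤ c g → c g ≤ M := by
    intro g M hM hle x hx
    have hM' : (M.map (MulAut.conj g⁻¹).toMonoidHom) ∈ S := by
      refine ⟨?_, fun h => hM.2.1 (Subgroup.map_eq_bot_iff_of_injective _
        (MulAut.conj g⁻¹).injective |>.1 h), ?_⟩
      · rintro _ ⟨m, hm, rfl⟩
        exact hLn.conj_mem m (hM.1 hm) g⁻¹
      · rintro l hl _ ⟨m, hm, rfl⟩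
        exact ⟨g * l * g⁻¹ * m * (g * l * g⁻¹)⁻¹, hM.2.2 _ (hLn.conj_mem l hl g) m hm,
          by simp [mul_assoc]⟩
    have hle' : M.map (MulAut.conj g⁻¹).toMonoidHom ≤ N := by
      rintro _ ⟨m, hm, rfl⟩
      simpa [mul_assoc] using hcmem' g m (hle hm)
    obtain ⟨m, hm, hmx⟩ := hNmin _ hM' hle' (hcmem' g x hx)
    have : m = x := by
      simp only [MulEquiv.coe_toMonoidHom, MulAut.conj_apply, inv_inv] at hmx
      exact mul_left_cancel (mul_right_cancel hmx)
    exact this ▸ hm
  have hN1 : c 1 = N := by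
    ext x
    simp [c]
  -- different conjugates commute
  have hdisj : ∀ g g', c g ≠ c g' → c g ⊓ c g' = ⊥ := by
    intro g g' hne
    by_contra h
    have hS : c g ⊓ c g' ∈ S := ⟨inf_le_left.trans (hcS g).1, h, fun l hl n hn =>
      ⟨(hcS g).2.2 l hl n hn.1, (hcS g').2.2 l hl n hn.2⟩⟩
    exact hne (le_antisymm ((hcmin g _ hS inf_le_left).trans inf_le_right)
      ((hcmin g' _ hS inf_le_right).trans inf_le_left))
  have hcomm : ∀ g g', c g ≠ c g' → ∀ x ∈ c g, ∀ y ∈ c g', x * y = y * x := by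
    intro g g' hne x hx y hy
    have h1 : x * y * x⁻¹ * y⁻¹ ∈ c g ⊓ c g' := by
      refine ⟨?_, (c g').mul_mem ((hcS g').2.2 x ((hcS g).1 hx) y hy) ((c g').inv_mem hy)⟩
      rw [show x * y * x⁻¹ * y⁻¹ = x * (y * x⁻¹ * y⁻¹) by group]
      exact (c g).mul_mem hx ((hcS g).2.2 y ((hcS g').1 hy) _ ((c g).inv_mem hx))
    rw [hdisj g g' hne, Subgroup.mem_bot] at h1
    calc x * y = x * y * x⁻¹ * y⁻¹ * (y * x) := by group
      _ = y * x := by rw [h1, one_mul]
  -- the conjugates generate `L`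
  have hsup : (⨆ g, c g) = L := by
    refine hmin _ ⟨fun x hx h => ?_⟩ (iSup_le fun g => (hcS g).1) fun h => hNS.2.1 ?_
    · refine Subgroup.iSup_induction c (C := fun x => h * x * h⁻¹ ∈ ⨆ g, c g) hx
        (fun g x hx => ?_) (by simp) (fun x y hx hy => ?_)
      · refine Subgroup.mem_iSup_of_mem (h * g) ?_
        obtain ⟨n, hn, rfl⟩ := hx
        exact ⟨n, hn, by simp [mul_assoc]⟩
      · rw [show h * (x * y) * h⁻¹ = h * x * h⁻¹ * (h * y * h⁻¹) by group]
        exact mul_mem hx hy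
    · rw [eq_bot_iff, ← hN1, ← h]
      exact le_iSup c 1
  -- `N` is not abelian
  have hNna : ¬ ∀ x ∈ N, ∀ y ∈ N, x * y = y * x := by
    intro hab
    have hcab : ∀ g, ∀ x ∈ c g, ∀ y ∈ c g, x * y = y * x := by
      rintro g _ ⟨x, hx, rfl⟩ _ ⟨y, hy, rfl⟩
      rw [← map_mul, hab x hx y hy, map_mul]
    have hle : L ≤ Subgroup.centralizer (L : Set H) := by
      rw [← hsup]
      refine iSup_le fun g x hx => Subgroup.mem_centralizer_iff.2 fun y hy => ?_
      refine Subgroup.iSup_induction c (C := fun y => y * x = x * y) hy (fun g' y hy => ?_)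
        (by simp) (fun y z hy hz => ?_)
      · by_cases h : c g' = c g
        · exact hcab g y (h ▸ hy) x hx
        · exact hcomm g' g h y hy x hx
      · rw [mul_assoc, hz, ← mul_assoc, hy, mul_assoc]
    exact hna ⟨⟨fun x y => Subtype.ext ((Subgroup.mem_centralizer_iff.1 (hle x.2) y y.2).symm)⟩⟩
  -- an involution in `N`
  have hinv : ∃ i ∈ N, orderOf i = 2 := by
    by_contra hno
    push_neg at hno
    have hodd : ∀ g, ¬ 2 ∣ Nat.card (c g) := by
      intro g hd
      haveI : Fact (Nat.Prime 2) := ⟨Nat.prime_two⟩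
      obtain ⟨y, hy⟩ := exists_prime_orderOf_dvd_card' 2 hd
      refine hno _ (hcmem' g y y.2) ?_
      rw [show g⁻¹ * (y : H) * g = MulAut.conj g⁻¹ (y : H) by simp,
        MulEquiv.orderOf_eq, Subgroup.orderOf_coe, hy]
    obtain ⟨t, ht⟩ := hex
    haveI hn : ∀ g, ((c g).subgroupOf L).Normal := fun g => ⟨fun x hx l => by
      rw [Subgroup.mem_subgroupOf] at hx ⊢
      simpa using (hcS g).2.2 l l.2 x hx⟩
    have hT : ∀ T : Finset H, ¬ 2 ∣ Nat.card (⨆ g ∈ T, (c g).subgroupOf L : Subgroup ↥L) := by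
      intro T
      induction T using Finset.induction_on with
      | empty => simp
      | insert g T hg ih =>
        rw [Finset.iSup_insert]
        intro hd
        have hd2 : 2 ∣ Nat.card ((c g).subgroupOf L) *
            Nat.card (⨆ g ∈ T, (c g).subgroupOf L : Subgroup ↥L) := by
          refine dvd_trans hd ?_
          have h1 := Subgroup.card_mul_index (((c g).subgroupOf L).subgroupOf
            ((c g).subgroupOf L ⊔ ⨆ g ∈ T, (c g).subgroupOf L))
          rw [Nat.card_congr (Subgroup.subgroupOfEquivOfLe le_sup_left).toEquiv] at h1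
          rw [← h1]
          refine Nat.mul_dvd_mul_left _ ?_
          change ((c g).subgroupOf L).relIndex _ ∣ _
          rw [sup_comm, Subgroup.relIndex_sup_right]
          exact Subgroup.relIndex_dvd_card _ _
        rcases (Nat.prime_two.dvd_mul).1 hd2 with h | h
        · exact hodd g (by rwa [Nat.card_congr (Subgroup.subgroupOfEquivOfLe (hcS g).1).toEquiv] at h)
        · exact ih h
    haveI : Fintype H := Fintype.ofFinite H
    have htop : (⨆ g ∈ (Finset.univ : Finset H), (c g).subgroupOf L) = ⊤ := by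
      apply Subgroup.map_injective L.subtype_injective
      rw [← MonoidHom.range_eq_map, Subgroup.range_subtype]
      refine Eq.trans ?_ hsup
      simp only [Finset.mem_univ, iSup_pos, Subgroup.map_iSup]
      exact iSup_congr fun g => Subgroup.map_subgroupOf_eq_of_le (hcS g).1
    refine hT Finset.univ ?_
    rw [htop, Nat.card_congr Subgroup.topEquiv.toEquiv, ← ht, ← Subgroup.orderOf_mk t (hmem t ht)]
    exact orderOf_dvd_natCard _
  obtain ⟨i, hiN, hi⟩ := hinv
  -- every conjugate equals `N`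
  have hall : ∀ h, c h = N := by
    intro h
    by_contra hne
    rw [← hN1] at hne
    have hiN1 : i ∈ c 1 := by rwa [hN1]
    have hjm : h * i * h⁻¹ ∈ c h := hcmem h i hiN
    have hj : orderOf (h * i * h⁻¹) = 2 := by
      rw [← MulAut.conj_apply, MulEquiv.orderOf_eq, hi]
    have hij : i * (h * i * h⁻¹) = h * i * h⁻¹ * i :=
      hcomm 1 h (fun e => hne e.symm) i hiN1 _ hjm
    have hi2 : i * i = 1 := by rw [← pow_two, ← hi, pow_orderOf_eq_one]
    have hj2 : h * i * h⁻¹ * (h * i * h⁻¹) = 1 := by rw [← pow_two, ← hj, pow_orderOf_eq_one]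
    have hne1 : i * (h * i * h⁻¹) ≠ 1 := by
      intro e
      have hm : i ∈ c 1 ⊓ c h := ⟨hiN1, by
        rw [show i = h * i * h⁻¹ from (mul_left_cancel (e.trans hi2.symm)).symm]; exact hjm⟩
      rw [hdisj 1 h (fun e => hne e.symm), Subgroup.mem_bot] at hm
      rw [hm, orderOf_one] at hi
      exact absurd hi (by norm_num)
    have hprod : orderOf (i * (h * i * h⁻¹)) = 2 := by
      refine orderOf_eq_prime ?_ hne1
      rw [(show Commute i (h * i * h⁻¹) from hij).mul_pow, pow_two, pow_two, hi2, hj2, one_mul]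
    obtain ⟨g, hg⟩ := hconj _ _ hi hprod
    have hpg : i * (h * i * h⁻¹) ∈ c g := hg ▸ hcmem g i hiN
    have hi1 : i ≠ 1 := fun e => by rw [e, orderOf_one] at hi; norm_num at hi
    by_cases h1 : c g = c 1
    · have : h * i * h⁻¹ ∈ c 1 ⊓ c h := ⟨by
        rw [show h * i * h⁻¹ = i * (i * (h * i * h⁻¹)) by rw [← mul_assoc, hi2, one_mul]]
        exact mul_mem hiN1 (h1 ▸ hpg), hjm⟩
      rw [hdisj 1 h (fun e => hne e.symm), Subgroup.mem_bot, conj_eq_one_iff] at this
      exact hi1 this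
    · -- then `i` centralises `N`
      have hic : ∀ n ∈ c 1, i * n = n * i := by
        intro n hn
        have e1 := hcomm g 1 h1 _ hpg n hn
        have e2 : h * i * h⁻¹ * n = n * (h * i * h⁻¹) := hcomm h 1 hne _ hjm n hn
        have e3 : i * n * (h * i * h⁻¹) = n * i * (h * i * h⁻¹) := by
          calc i * n * (h * i * h⁻¹) = i * (n * (h * i * h⁻¹)) := mul_assoc _ _ _
            _ = i * (h * i * h⁻¹ * n) := by rw [e2]
            _ = i * (h * i * h⁻¹) * n := (mul_assoc _ _ _).symm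
            _ = n * (i * (h * i * h⁻¹)) := e1
            _ = n * i * (h * i * h⁻¹) := (mul_assoc _ _ _).symm
        exact mul_right_cancel e3
      -- and the centre of `N` is trivial
      let Z : Subgroup H := c 1 ⊓ Subgroup.centralizer (c 1 : Set H)
      have hZS : Z ∈ S := by
        refine ⟨inf_le_left.trans (hcS 1).1, ?_, fun l hl z hz => ⟨(hcS 1).2.2 l hl z hz.1, ?_⟩⟩
        · intro hb
          have : i ∈ Z := ⟨hiN1, Subgroup.mem_centralizer_iff.2 fun n hn => (hic n hn).symm⟩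
          rw [hb, Subgroup.mem_bot] at this
          exact hi1 this
        · refine Subgroup.mem_centralizer_iff.2 fun n hn => ?_
          have h3 := (hcS 1).2.2 l⁻¹ (inv_mem hl) n hn
          rw [inv_inv] at h3
          have h4 := Subgroup.mem_centralizer_iff.1 hz.2 _ h3
          calc n * (l * z * l⁻¹) = l * (l⁻¹ * n * l * z) * l⁻¹ := by group
            _ = l * (z * (l⁻¹ * n * l)) * l⁻¹ := by rw [h4]
            _ = l * z * l⁻¹ * n := by group
      have hle : c 1 ≤ Z := hcmin 1 Z hZS inf_le_left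
      refine hNna fun x hx y hy => ?_
      rw [← hN1] at hx hy
      exact (Subgroup.mem_centralizer_iff.1 (hle hx).2 y hy).symm
  -- hence `N = L`
  have hNL : N = L := by
    refine hmin N ⟨fun n hn g => ?_⟩ hNS.1 hNS.2.1
    have := hcmem g n hn
    rwa [hall g] at this
  haveI : Nontrivial ↥L := (Subgroup.nontrivial_iff_ne_bot L).2 hLne
  refine ⟨fun M hM => ?_⟩
  rw [or_iff_not_imp_left]
  intro hne
  have hS : M.map L.subtype ∈ S := by
    refine ⟨Subgroup.map_subtype_le M, fun h => hne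
      ((Subgroup.map_eq_bot_iff_of_injective _ L.subtype_injective).1 h), ?_⟩
    rintro l hl _ ⟨m, hm, rfl⟩
    exact ⟨⟨l, hl⟩ * m * ⟨l, hl⟩⁻¹, hM.conj_mem m hm _, by simp⟩
  have hle : L ≤ M.map L.subtype := by
    exact le_of_eq_of_le hNL.symm
      (hNmin _ hS ((Subgroup.map_subtype_le M).trans hNL.ge))
  rw [Subgroup.eq_top_iff']
  intro x
  obtain ⟨y, hy, hyx⟩ := hle x.2
  exact L.subtype_injective hyx ▸ hy

/-- The involutions cannot form one class of prime power size of such a subgroup. -/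
theorem false_of_prime_pow_involutions (L : Subgroup H) [L.Normal]
    (hmin : ∀ N : Subgroup H, N.Normal → N ≤ L → N ≠ ⊥ → N = L)
    (hna : ¬ IsMulCommutative ↥L)
    (hex : ∃ t : H, orderOf t = 2) (hmem : ∀ t : H, orderOf t = 2 → t ∈ L)
    (hconj : ∀ s t : H, orderOf s = 2 → orderOf t = 2 → ∃ g ∈ L, g * s * g⁻¹ = t)
    {q k : ℕ} (hq : q.Prime) (hcard : Nat.card {t : H // orderOf t = 2} = q ^ k) : False := by
  classical
  haveI := minimalNormal_isSimple L hmin hna hex hmem
    (fun s t hs ht => let ⟨g, _, hg⟩ := hconj s t hs ht; ⟨g, hg⟩)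
  obtain ⟨t, ht⟩ := hex
  set tL : ↥L := ⟨t, hmem t ht⟩ with htL
  set C := Subgroup.centralizer ({tL} : Set ↥L)
  have hbij : Nat.card (↥L ⧸ C) = q ^ k := by
    rw [← hcard]
    let f : ↥L → {t : H // orderOf t = 2} := fun g =>
      ⟨(g : H) * t * (g : H)⁻¹, by rw [← MulAut.conj_apply, MulEquiv.orderOf_eq, ht]⟩
    have hf : ∀ a b : ↥L, f a = f b ↔ a⁻¹ * b ∈ C := by
      intro a b
      rw [Subgroup.mem_centralizer_singleton_iff, Subtype.ext_iff, Subtype.ext_iff]
      simp only [f, htL, Subgroup.coe_mul, Subgroup.coe_inv]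
      constructor
      · intro h
        calc (a : H)⁻¹ * b * t = (a : H)⁻¹ * ((b : H) * t * (b : H)⁻¹) * b := by group
          _ = (a : H)⁻¹ * ((a : H) * t * (a : H)⁻¹) * b := by rw [h]
          _ = t * ((a : H)⁻¹ * b) := by group
      · intro h
        calc (a : H) * t * (a : H)⁻¹ = (a : H) * (t * ((a : H)⁻¹ * b)) * (b : H)⁻¹ := by group
          _ = (a : H) * ((a : H)⁻¹ * b * t) * (b : H)⁻¹ := by rw [h]
          _ = (b : H) * t * (b : H)⁻¹ := by group
    refine Nat.card_congr (Equiv.ofBijective (fun x => f x.out) ⟨fun x y h => ?_, fun y => ?_⟩)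
    · have := (hf _ _).1 h
      rw [← QuotientGroup.eq, QuotientGroup.out_eq', QuotientGroup.out_eq'] at this
      exact this
    · obtain ⟨g, hgL, hg⟩ := hconj t y ht y.2
      refine ⟨QuotientGroup.mk (⟨g, hgL⟩ : ↥L), ?_⟩
      show f (QuotientGroup.mk (⟨g, hgL⟩ : ↥L)).out = y
      refine Eq.trans ((hf _ _).2 ?_) (Subtype.ext hg : f ⟨g, hgL⟩ = y)
      rw [← QuotientGroup.eq, QuotientGroup.out_eq']
  have hsol := CfsgLib.CharDeep.PrimePowerClass.isSolvable_normalClosure tL hq k hbij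
  have ht1 : tL ≠ 1 := fun e => by
    have : t = 1 := congrArg Subtype.val e
    rw [this, orderOf_one] at ht
    norm_num at ht
  have htop : Subgroup.normalClosure ({tL} : Set ↥L) = ⊤ :=
    Subgroup.Normal.eq_bot_or_eq_top Subgroup.normalClosure_normal |>.resolve_left fun e =>
      ht1 (Subgroup.mem_bot.1 (e ▸ Subgroup.subset_normalClosure rfl))
  rw [htop] at hsol
  haveI := hsol
  haveI : Group.IsSolvable ↥L :=
    Group.isSolvable_of_surjective (f := (Subgroup.topEquiv : (⊤ : Subgroup ↥L) ≃* ↥L).toMonoidHom)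
      (Subgroup.topEquiv : (⊤ : Subgroup ↥L) ≃* ↥L).surjective
  exact hna ⟨⟨fun a b => IsSimpleGroup.comm_iff_isSolvable.2 inferInstance a b⟩⟩

end CfsgLib.LocalEven.BenderSplit
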