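import Cfsg.Agent.Lib.LocalEven.BenderSplit.Pure

/-!
# Inverted elements and pure elements

A pure element `x` commuting with the swap `u` fixes no nontrivial coset `k * N` of an invariant
subgroup `N` of `G_{a,b}` whose representative is inverted by `u`.
-/

set_option autoImplicit false
set_option linter.style.haveILetI false

namespace CfsgLib.LocalEven.BenderSplit

open Subgroup MulAction CfsgLib.Involution.Dihedral CfsgLib.Involution
  CfsgLib.LocalEven.BenderTransitive CfsgLib.LocalEven.SwapInjective CfsgLib.LocalEven.StrongCore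

universe u

variable {G : Type u} [Group G] [Finite G] {H : Subgroup G}

section

variable (h : MinSplit H) {a b : G ⧸ H} (hab : a ≠ b) {x u : G} (hx : Pure x a b)
  (hu : orderOf u = 2) (hua : u • a = b) (hux : Commute u x)

include h hab hx hu hua hux

/-- An inverted element whose coset modulo an invariant subgroup is fixed by a pure element lies in
that subgroup. -/
theorem mem_of_pure_fixed_coset {N : Subgroup G} (hN : N ≤ stab2 a b)
    (hxN : x ∈ normalizer (N : Set G)) {k : G} (hk : k ∈ stab2 a b)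
    (hkN : k ∈ normalizer (N : Set G)) (hkinv : u * k * u⁻¹ = k⁻¹)
    (hfix : k⁻¹ * (x * k * x⁻¹) ∈ N) : k ∈ N := by
  classical
  haveI := Fact.mk hx.prime
  obtain ⟨m, hm⟩ : Odd (orderOf k) :=
    (odd_stab2 h.min.se hab).of_dvd_nat (Subgroup.orderOf_dvd_natCard _ hk)
  set s := k ^ (m + 1) with hs
  have hss : s * s = k := by
    rw [hs, ← pow_add, show m + 1 + (m + 1) = orderOf k + 1 by omega, pow_succ,
      pow_orderOf_eq_one, one_mul]
  have hsab : s ∈ stab2 a b := pow_mem hk _
  have hsN : s ∈ normalizer (N : Set G) := pow_mem hkN _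
  have hsinv : u * s * u⁻¹ = s⁻¹ := by rw [hs, ← _root_.conj_pow, hkinv, inv_pow]
  let S₀ := {y : G // y ∈ N ∧ u * y * u⁻¹ = y⁻¹}
  let S₁ := {y : G // y ∈ stab2 a b ∧ k⁻¹ * y ∈ N ∧ u * y * u⁻¹ = y⁻¹}
  have hinvconj : ∀ {y : G}, u * y * u⁻¹ = y⁻¹ → ∀ {z : G}, u * z * u⁻¹ = z⁻¹ →
      u * (z * y * z) * u⁻¹ = (z * y * z)⁻¹ := fun {y} hy {z} hz => by
    calc u * (z * y * z) * u⁻¹ = (u * z * u⁻¹) * (u * y * u⁻¹) * (u * z * u⁻¹) := by group
      _ = _ := by rw [hz, hy]; group
  have hkinv' : k⁻¹ = s⁻¹ * s⁻¹ := by rw [← mul_inv_rev, hss]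
  have hback : ∀ z : G, s⁻¹ * z * s⁻¹ = s * (k⁻¹ * z) * s⁻¹ := fun z => by
    rw [hkinv']; group
  let e : S₀ ≃ S₁ :=
    { toFun := fun y => ⟨s * y * s, mul_mem (mul_mem hsab (hN y.2.1)) hsab, by
        rw [show k⁻¹ * (s * y * s) = s⁻¹ * (y : G) * s by rw [hkinv']; group]
        exact BenderTransitive.conj_inv_mem_of_mem_normalizer hsN y.2.1, hinvconj y.2.2 hsinv⟩
      invFun := fun y => ⟨s⁻¹ * y * s⁻¹, by
        rw [hback y]
        exact BenderTransitive.conj_mem_of_mem_normalizer hsN y.2.2.1,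
        hinvconj y.2.2.2 (by rw [← conj_inv, hsinv])⟩
      left_inv := fun y => Subtype.ext (by simp [mul_assoc])
      right_inv := fun y => Subtype.ext (by simp [mul_assoc]) }
  have hX : IsPGroup (orderOf x) (zpowers x) := isPGroup_zpowers_of_orderOf (k := 1) (pow_one _).symm
  have hu' : ∀ g : zpowers x, Commute u (g : G) := fun g => by
    obtain ⟨j, hj⟩ := mem_zpowers_iff.1 g.2
    rw [← hj]; exact hux.zpow_right j
  have hg' : ∀ g : zpowers x, (g : G) ∈ stab2 a b := fun g => zpowers_le.2 hx.mem g.2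
  have hgN : ∀ g : zpowers x, (g : G) ∈ normalizer (N : Set G) := fun g => zpowers_le.2 hxN g.2
  have hinv' : ∀ (g : zpowers x) {y : G}, u * y * u⁻¹ = y⁻¹ →
      u * ((g : G) * y * (g : G)⁻¹) * u⁻¹ = ((g : G) * y * (g : G)⁻¹)⁻¹ := fun g {y} hy => by
    calc u * ((g : G) * y * (g : G)⁻¹) * u⁻¹
        = (u * g * u⁻¹) * (u * y * u⁻¹) * (u * g * u⁻¹)⁻¹ := by group
      _ = _ := by rw [(hu' g).eq, mul_inv_cancel_right, hy]; group
  have hcoset : ∀ g : zpowers x, k⁻¹ * ((g : G) * k * (g : G)⁻¹) ∈ N := by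
    rintro ⟨g, hg⟩
    obtain ⟨j, rfl⟩ := (mem_powers_iff_mem_zpowers).2 hg
    induction j with
    | zero => simp
    | succ j ih =>
      have h1 : x * (k⁻¹ * (x ^ j * k * (x ^ j)⁻¹)) * x⁻¹ ∈ N :=
        BenderTransitive.conj_mem_of_mem_normalizer hxN (ih (pow_mem (mem_zpowers x) j))
      have h2 := mul_mem hfix h1
      show k⁻¹ * (x ^ (j + 1) * k * (x ^ (j + 1))⁻¹) ∈ N
      rw [pow_succ']
      convert h2 using 1
      group
  letI : MulAction (zpowers x) S₀ :=
    { smul := fun g y => ⟨(g : G) * y * (g : G)⁻¹,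
        BenderTransitive.conj_mem_of_mem_normalizer (hgN g) y.2.1, hinv' g y.2.2⟩
      one_smul := fun y => Subtype.ext (by
        show ((1 : zpowers x) : G) * (y : G) * ((1 : zpowers x) : G)⁻¹ = y
        simp)
      mul_smul := fun g g' y => Subtype.ext (by
        show ((g * g' : zpowers x) : G) * (y : G) * ((g * g' : zpowers x) : G)⁻¹ =
          (g : G) * ((g' : G) * y * (g' : G)⁻¹) * (g : G)⁻¹
        simp [mul_assoc]) }
  letI : MulAction (zpowers x) S₁ :=
    { smul := fun g y => ⟨(g : G) * y * (g : G)⁻¹,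
        mul_mem (mul_mem (hg' g) y.2.1) (inv_mem (hg' g)), by
          have h1 := mul_mem (hcoset g)
            (BenderTransitive.conj_mem_of_mem_normalizer (hgN g) y.2.2.1)
          convert h1 using 1
          group, hinv' g y.2.2.2⟩
      one_smul := fun y => Subtype.ext (by
        show ((1 : zpowers x) : G) * (y : G) * ((1 : zpowers x) : G)⁻¹ = y
        simp)
      mul_smul := fun g g' y => Subtype.ext (by
        show ((g * g' : zpowers x) : G) * (y : G) * ((g * g' : zpowers x) : G)⁻¹ =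
          (g : G) * ((g' : G) * y * (g' : G)⁻¹) * (g : G)⁻¹
        simp [mul_assoc]) }
  have hone : Nat.card (fixedPoints (zpowers x) S₀) = 1 := by
    haveI : Subsingleton (fixedPoints (zpowers x) S₀) := ⟨fun p q => by
      have key : ∀ p : fixedPoints (zpowers x) S₀, (p.1 : G) = 1 := fun p => by
        have h1 : x * (p.1 : G) * x⁻¹ = p.1 := congrArg Subtype.val (p.2 ⟨x, mem_zpowers x⟩)
        exact hx.eq_one_of_inverted h hab hu hua hux (hN p.1.2.1) p.1.2.2
          (mul_inv_eq_iff_eq_mul.1 h1).symm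
      exact Subtype.ext (Subtype.ext ((key p).trans (key q).symm))⟩
    haveI : Nonempty (fixedPoints (zpowers x) S₀) :=
      ⟨⟨⟨1, one_mem _, by simp⟩, fun g => Subtype.ext (by
        show (g : G) * 1 * (g : G)⁻¹ = 1
        simp)⟩⟩
    exact Nat.card_unique
  have h0 : ¬ orderOf x ∣ Nat.card S₀ := fun hd => by
    have h1 := (hX.card_modEq_card_fixedPoints S₀).symm.trans (Nat.modEq_zero_iff_dvd.2 hd)
    rw [hone] at h1
    exact hx.prime.not_dvd_one (Nat.modEq_zero_iff_dvd.1 h1)
  obtain ⟨y, hy⟩ := hX.nonempty_fixed_point_of_prime_not_dvd_card S₁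
    (by rwa [← Nat.card_congr e])
  have h1 : x * (y : G) * x⁻¹ = y := congrArg Subtype.val (hy ⟨x, mem_zpowers x⟩)
  have hy1 : (y : G) = 1 := hx.eq_one_of_inverted h hab hu hua hux y.2.1 y.2.2.2
    (mul_inv_eq_iff_eq_mul.1 h1).symm
  simpa [hy1] using y.2.2.1

/-- A subgroup containing a pure element, normalised by an inverted element, contains it. -/
theorem mem_of_pure_mem {N : Subgroup G} (hN : N ≤ stab2 a b) (hxN : x ∈ N) {k : G}
    (hk : k ∈ stab2 a b) (hkN : k ∈ normalizer (N : Set G)) (hkinv : u * k * u⁻¹ = k⁻¹) :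
    k ∈ N :=
  mem_of_pure_fixed_coset h hab hx hu hua hux hN (le_normalizer hxN) hk hkN hkinv (by
    rw [← mul_assoc, ← mul_assoc]
    exact mul_mem (BenderTransitive.conj_inv_mem_of_mem_normalizer hkN hxN) (inv_mem hxN))

/-- A pure element centralises no nontrivial coset of `N` given by an inverted element; in
particular an inverted element commuting with it modulo `N` lies in `N`. -/
theorem mem_of_pure_comm {N : Subgroup G} (hN : N ≤ stab2 a b)
    (hxN : x ∈ normalizer (N : Set G)) {k : G} (hk : k ∈ stab2 a b)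
    (hkN : k ∈ normalizer (N : Set G)) (hkinv : u * k * u⁻¹ = k⁻¹)
    (hcomm : k⁻¹ * x * k * x⁻¹ ∈ N) : k ∈ N :=
  mem_of_pure_fixed_coset h hab hx hu hua hux hN hxN hk hkN hkinv (by
    rwa [← mul_assoc, ← mul_assoc])

end

end CfsgLib.LocalEven.BenderSplit
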