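import Cfsg.Agent.Lib.LocalEven.BenderSplit.Pure

/-!
# The inverted elements centralising a `Two` element

For `c` of prime order with `Two c a`, centralised by the swap `u`, the inverted elements of
`G_{a,b}` commuting with `c` form a cyclic group of order `2 ^ d - 1`, regular on the involutions at
`a` commuting with `c`; elements normalising `⟨c⟩` act on it as powers of two.
-/

set_option autoImplicit false
set_option linter.style.haveILetI false

namespace CfsgLib.LocalEven.BenderSplit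

open Subgroup MulAction CfsgLib.Involution.Dihedral CfsgLib.Involution
  CfsgLib.LocalEven.BenderTransitive CfsgLib.LocalEven.SwapInjective CfsgLib.LocalEven.StrongCore

universe u

variable {G : Type u} [Group G] {H : Subgroup G}

/-- The structure attached to a `Two` element `c` centralised by the swap `u`. -/
structure TwoData (c : G) (a b : G ⧸ H) (u k₀ : G) (d : ℕ) : Prop where
  two_le : 2 ≤ d
  mem : k₀ ∈ stab2 a b
  commute : Commute k₀ c
  inverted : u * k₀ * u⁻¹ = k₀⁻¹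
  order : orderOf k₀ = 2 ^ d - 1
  card : Nat.card {t : G // orderOf t = 2 ∧ t ∈ centralizer ({c} : Set G) ∧ t • a = a} = 2 ^ d - 1
  all : ∀ k ∈ stab2 a b, k ∈ normalizer ((zpowers c : Subgroup G) : Set G) →
    u * k * u⁻¹ = k⁻¹ → k ∈ zpowers k₀
  regular : ∀ s t : G, orderOf s = 2 → s • a = a → Commute s c → orderOf t = 2 → t • a = a →
    Commute t c → ∃ j ∈ zpowers k₀, j * s * j⁻¹ = t
  free : ∀ j ∈ zpowers k₀, ∀ t : G, orderOf t = 2 → t • a = a → Commute t c → Commute j t → j = 1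
  fixes : ∀ v ∈ stab2 a b, Commute v c → Commute u v →
    ∃ t : G, orderOf t = 2 ∧ t • a = a ∧ Commute t c ∧ Commute v t
  conj : ∀ n ∈ stab2 a b, n ∈ normalizer ((zpowers c : Subgroup G) : Set G) →
    ∃ i < d, n * k₀ * n⁻¹ = k₀ ^ 2 ^ i
  kernel : ∀ n ∈ stab2 a b, Commute n c →
    (∀ t : G, orderOf t = 2 → t • a = a → Commute t c → Commute n t) →
      Commute u n ∧ Commute n k₀

/-- The action on a normalised subgroup. -/
def actE (N E : Subgroup G) (h : N ≤ normalizer (E : Set G)) : N →* MulAut E where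
  toFun n :=
    { toFun := fun e => ⟨(n : G) * e * (n : G)⁻¹,
        BenderTransitive.conj_mem_of_mem_normalizer (h n.2) e.2⟩
      invFun := fun e => ⟨(n : G)⁻¹ * e * (n : G),
        BenderTransitive.conj_inv_mem_of_mem_normalizer (h n.2) e.2⟩
      left_inv := fun e => Subtype.ext (by simp [mul_assoc])
      right_inv := fun e => Subtype.ext (by simp [mul_assoc])
      map_mul' := fun e f => Subtype.ext (by simp [mul_assoc]) }
  map_one' := MulEquiv.ext fun e => Subtype.ext (by simp)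
  map_mul' := fun n m => MulEquiv.ext fun e => Subtype.ext (by simp [mul_assoc])

theorem actE_apply {N E : Subgroup G} (h : N ≤ normalizer (E : Set G)) (n : N) (e : E) :
    ((actE N E h n e : E) : G) = (n : G) * e * (n : G)⁻¹ := rfl

theorem actE_eq_one_iff {N E : Subgroup G} (h : N ≤ normalizer (E : Set G)) {n : N} :
    actE N E h n = 1 ↔ ∀ e ∈ E, Commute (n : G) e := by
  constructor
  · intro h1 e he
    exact mul_inv_eq_iff_eq_mul.1 (congrArg Subtype.val (DFunLike.congr_fun h1 ⟨e, he⟩) :)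
  · intro h1
    refine MulEquiv.ext fun e => Subtype.ext ?_
    rw [actE_apply, (h1 e e.2).eq, mul_inv_cancel_right]
    rfl

variable [Finite G]

section

variable (h : MinSplit H) {r : ℕ} [hr' : Fact r.Prime] {c : G} {a b : G ⧸ H} (hab : a ≠ b)
  (hc : orderOf c = r) (hcab : c ∈ stab2 a b) (h2 : Two c a) {u : G} (hu : orderOf u = 2)
  (hua : u • a = b) (huc : Commute u c)

include h hab hc hcab h2 hu hua huc

/-- An element commuting with `c` and the swap centralises an involution of `C(c)` at `a`. -/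
theorem exists_fixes {v : G} (hv : v ∈ stab2 a b) (hvc : Commute v c) (huv : Commute u v) :
    ∃ t : G, orderOf t = 2 ∧ t • a = a ∧ Commute t c ∧ Commute v t := by
  obtain ⟨p, hup⟩ := SE.exists_fixed h.min.se hu
  have hub : u • b = a := swap_smul hu hua
  have hpa : p ≠ a := fun e => hab (by rw [← e, ← hup, e, hua])
  have hpb : p ≠ b := fun e => hab (by rw [← hub, ← e, hup, e])
  have hcp : c • p = p := SE.commute_fixes h.min.se hu hup huc.symm
  have hvp : v • p = p := SE.commute_fixes h.min.se hu hup huv.symm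
  obtain ⟨T, hT⟩ := exists_twoSplit h hab hc hcab h2
  obtain ⟨τ, hτ, hτv, hτb⟩ := exists_translation h hab hc hcab h2 hT (X := zpowers v)
    (zpowers_le.2 (mem_centralizer_singleton_iff.2 hvc.eq)) (zpowers_le.2 hv) hpa hcp
    (zpowers_le.2 hvp)
  obtain ⟨i, hi⟩ : ∃ i : ℕ, orderOf τ = 2 ^ (i + 1) := by
    obtain ⟨j, hj⟩ := IsPGroup.iff_orderOf.1 hT.two ⟨τ, hτ⟩
    rw [Subgroup.orderOf_mk] at hj
    rcases j with _ | j
    · exact absurd (by rw [← hτb, orderOf_eq_one_iff.1 (hj.trans (pow_zero 2)), one_smul]) hpb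
    · exact ⟨j, hj⟩
  have hzT : τ ^ 2 ^ i ∈ T := pow_mem hτ _
  refine ⟨τ ^ 2 ^ i, ?_, mem_stabilizer_iff.1 (mem_inf.1 (hT.le hzT)).2,
    mem_centralizer_singleton_iff.1 (mem_inf.1 (hT.le hzT)).1, ?_⟩
  · rw [orderOf_pow' _ (pow_ne_zero _ two_ne_zero), hi, Nat.gcd_eq_right (pow_dvd_pow 2 i.le_succ),
      pow_succ, Nat.mul_div_cancel_left _ (pow_pos two_pos i)]
  · exact Commute.pow_right (mem_centralizer_iff.1 hτv v (mem_zpowers v)) _

/-- The structure exists. -/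
theorem exists_twoData : ∃ k₀ d, TwoData c a b u k₀ d := by
  classical
  obtain ⟨T, hT⟩ := exists_twoSplit h hab hc hcab h2
  set Γ := centralizer ({c} : Set G) with hΓdef
  have hmemΓ : ∀ {g : G}, g ∈ Γ ↔ Commute g c := fun {g} => mem_centralizer_singleton_iff
  -- the elementary group
  let E : Subgroup G :=
    { carrier := {x | x ∈ Γ ∧ x • a = a ∧ x * x = 1}
      one_mem' := ⟨one_mem _, one_smul _ _, one_mul _⟩
      mul_mem' := fun {x y} hx hy => by
        refine ⟨mul_mem hx.1 hy.1, by rw [mul_smul, hy.2.1, hx.2.1], ?_⟩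
        have hc' : Commute x y := by
          by_cases hx1 : x = 1
          · rw [hx1]; exact Commute.one_left y
          by_cases hy1 : y = 1
          · rw [hy1]; exact Commute.one_right x
          exact hT.inv_central x hx.1 (orderOf_eq_two hx.2.2 hx1) hx.2.1 y
            (hT.inv_mem y hy.1 (orderOf_eq_two hy.2.2 hy1) hy.2.1)
        rw [hc'.symm.mul_mul_mul_comm, hx.2.2, hy.2.2, one_mul]
      inv_mem' := fun {x} hx => by rw [inv_eq_of_mul_eq_one_right hx.2.2]; exact hx }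
  have hEmem : ∀ {t : G}, orderOf t = 2 → t • a = a → Commute t c → t ∈ E :=
    fun ht hta htc => ⟨hmemΓ.2 htc, hta, mul_self ht⟩
  have hEinv : ∀ {e : G}, e ∈ E → e ≠ 1 → orderOf e = 2 ∧ e • a = a ∧ Commute e c :=
    fun he he1 => ⟨orderOf_eq_two he.2.2 he1, he.2.1, hmemΓ.1 he.1⟩
  -- the two acting groups
  set D := stab2 a b ⊓ Γ with hD
  set N := stab2 a b ⊓ normalizer ((zpowers c : Subgroup G) : Set G) with hN
  have hNΓ : N ≤ normalizer (Γ : Set G) := fun n hn => by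
    rw [hΓdef, ← centralizer_zpowers_eq]
    exact le_normalizer_centralizer _ (mem_inf.1 hn).2
  have hNE : N ≤ normalizer (E : Set G) := fun n hn =>
    Coprime.mem_normalizer_of_conj_map_le fun e he => by
      refine ⟨BenderTransitive.conj_mem_of_mem_normalizer (hNΓ hn) he.1, ?_, ?_⟩
      · rw [mul_smul, mul_smul, inv_smul_eq_iff.2 (mem_stab2.1 (mem_inf.1 hn).1).1.symm, he.2.1,
          (mem_stab2.1 (mem_inf.1 hn).1).1]
      · calc n * e * n⁻¹ * (n * e * n⁻¹) = n * (e * e) * n⁻¹ := by group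
          _ = 1 := by rw [he.2.2]; group
  have hDN : D ≤ N := le_inf inf_le_left (inf_le_right.trans (by
    rw [hΓdef, ← centralizer_zpowers_eq]; exact centralizer_le_normalizer _))
  have hNodd : Odd (Nat.card N) :=
    (odd_stab2 h.min.se hab).of_dvd_nat (Subgroup.card_dvd_of_le inf_le_left)
  have hDodd : Odd (Nat.card D) := hNodd.of_dvd_nat (Subgroup.card_dvd_of_le hDN)
  -- involutions at `b`
  obtain ⟨v₀, w₀, hv₀, hv₀a, hv₀C, hw₀, hw₀a, hw₀C, -, hne₀⟩ := id h2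
  have htb : ∀ {t : G}, orderOf t = 2 → t • a = a → Commute t c →
      orderOf (u * t * u⁻¹) = 2 ∧ (u * t * u⁻¹) • b = b ∧ Commute (u * t * u⁻¹) c :=
    fun ht hta htc => ⟨(orderOf_conj u _).trans ht,
      by rw [← hua, smul_smul, inv_mul_cancel_right, mul_smul, hta],
      (huc.mul_left htc).mul_left huc.inv_left⟩
  have htrans : ∀ s t : G, orderOf s = 2 → s • a = a → Commute s c → orderOf t = 2 → t • a = a →
      Commute t c → ∃ g ∈ D, g * s * g⁻¹ = t := by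
    intro s t hs hsa hsc ht hta htc
    obtain ⟨hb1, hb2, hb3⟩ := htb hs hsa hsc
    obtain ⟨g, hgΓ, hg, e⟩ := exists_conj_fixing_mem h.min.se (N := Γ) hab hs hsa ht hta hb1 hb2
      (hmemΓ.2 hsc) (hmemΓ.2 htc) (hmemΓ.2 hb3)
    exact ⟨g, mem_inf.2 ⟨hg, hgΓ⟩, e⟩
  set ρ := actE D E (hDN.trans hNE) with hρ
  set ρN := actE N E hNE with hρN
  haveI hEnt : Nontrivial E := ⟨⟨⟨v₀, hEmem hv₀ hv₀a (hmemΓ.1 hv₀C)⟩, 1,
    fun e => ne_one hv₀ (congrArg Subtype.val e)⟩⟩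
  have hEsq : ∀ e : E, e * e = 1 := fun e => Subtype.ext e.2.2.2
  have hodd : ∀ (S : Subgroup G) (hS : S ≤ normalizer (E : Set G)), Odd (Nat.card S) →
      D ≤ S → OddTrans (actE S E hS).range := by
    intro S hS hSodd hDS
    refine ⟨hSodd.of_dvd_nat (Subgroup.card_range_dvd _), hEsq, fun x y hx hy => ?_, hEnt⟩
    obtain ⟨hx2, hxa, hxc⟩ := hEinv x.2 fun e => hx (Subtype.ext e)
    obtain ⟨hy2, hya, hyc⟩ := hEinv y.2 fun e => hy (Subtype.ext e)
    obtain ⟨g, hg, e⟩ := htrans x y hx2 hxa hxc hy2 hya hyc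
    exact ⟨_, ⟨⟨g, hDS hg⟩, rfl⟩, Subtype.ext e⟩
  have hA : OddTrans ρ.range := hodd D _ hDodd le_rfl
  have hAN : OddTrans ρN.range := hodd N _ hNodd hDN
  set π := ρ.rangeRestrict with hπ
  have hπ1 : ∀ {x : D}, π x = 1 ↔ ∀ e ∈ E, Commute (x : G) e := fun {x} => by
    rw [← actE_eq_one_iff (hDN.trans hNE), ← hρ]
    exact ⟨fun e => congrArg Subtype.val e, fun e => Subtype.ext e⟩
  -- the kernel
  have hker : ∀ n ∈ D, (∀ e ∈ E, Commute n e) →
      ∀ s : G, orderOf s = 2 → s • b = b → Commute s c → Commute n s := by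
    intro n hn hne s hs hsb hsc
    set K := D ⊓ centralizer (E : Set G)
    have hKC : K ≤ centralizer ({s} : Set G) := by
      refine le_of_primePow_mem fun p hp z hz hzp => ?_
      haveI := Fact.mk hp
      obtain ⟨hzD, hzE⟩ := mem_inf.1 hz
      have h1 := centralizes_right h hab hc hcab h2 hzp (zpowers_le.2 (mem_inf.1 hzD).2)
        (zpowers_le.2 (mem_inf.1 hzD).1) (fun t ht hta htc => mem_centralizer_iff.2 fun y hy => by
          obtain ⟨j, rfl⟩ := mem_zpowers_iff.1 hy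
          exact ((show Commute z t from
            (mem_centralizer_iff.1 hzE t (hEmem ht hta htc)).symm).zpow_left j).eq) hs hsb hsc
      exact mem_centralizer_singleton_iff.2 (mem_centralizer_iff.1 h1 z (mem_zpowers z))
    exact mem_centralizer_singleton_iff.1
      (hKC (mem_inf.2 ⟨hn, mem_centralizer_iff.2 fun e he => (hne e he).eq.symm⟩))
  have hkeru : ∀ n ∈ D, (∀ e ∈ E, Commute n e) → Commute u n := by
    intro n hn hne
    obtain ⟨hb1, hb2, hb3⟩ := htb hv₀ hv₀a (hmemΓ.1 hv₀C)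
    obtain ⟨i, ⟨-, hi⟩⟩ := SE.existsUnique_swap h.min.se hab hv₀ hv₀a hb1 hb2
    obtain ⟨hna, hnb⟩ := mem_stab2.1 (mem_inf.1 hn).1
    have hn1 : Commute n v₀ := hne v₀ (hEmem hv₀ hv₀a (hmemΓ.1 hv₀C))
    have hn2 : Commute n (u * v₀ * u⁻¹) := hker n hn hne _ hb1 hb2 hb3
    have e1 := hi (n * u * n⁻¹) ⟨⟨(orderOf_conj n u).trans hu,
      by rw [mul_smul, mul_smul, inv_smul_eq_iff.2 hna.symm, hua, hnb]⟩, by
        calc n * u * n⁻¹ * v₀ * (n * u * n⁻¹)⁻¹ = n * u * (n⁻¹ * v₀ * n) * u⁻¹ * n⁻¹ := by group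
          _ = n * (u * v₀ * u⁻¹) * n⁻¹ := by
            rw [mul_assoc n⁻¹, ← hn1.eq, inv_mul_cancel_left]; group
          _ = u * v₀ * u⁻¹ := by rw [hn2.eq, mul_inv_cancel_right]⟩
    have e2 := hi u ⟨⟨hu, hua⟩, rfl⟩
    exact (mul_inv_eq_iff_eq_mul.1 (e1.trans e2.symm)).symm
  have hinvD : ∀ {x : G}, x ∈ D → u * x * u⁻¹ ∈ D := fun {x} hx => mem_inf.2
    ⟨BenderTransitive.conj_mem_of_mem_normalizer (swap_mem_normalizer hu hua) (mem_inf.1 hx).1,
      hmemΓ.2 ((huc.mul_left (hmemΓ.1 (mem_inf.1 hx).2)).mul_left huc.inv_left)⟩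
  -- the swap acts on the image
  set F := Cfsg.fittingSubgroup ρ.range with hF
  haveI : F.Normal := CfsgLib.Solvable.Cores.fittingSubgroup_normal
  haveI : IsCyclic F := hA.isCyclic_fitting
  haveI : Group.IsNilpotent F := CfsgLib.Solvable.Cores.fittingSubgroup_isNilpotent
  have hπs : Function.Surjective π := ρ.rangeRestrict_surjective
  let θ : D →* D := MonoidHom.mk' (fun x => ⟨u * x * u⁻¹, hinvD x.2⟩)
    (fun x y => Subtype.ext (show u * ((x : G) * y) * u⁻¹ = u * x * u⁻¹ * (u * y * u⁻¹) by group))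
  have hker' : π.ker ≤ (π.comp θ).ker := fun x hx => MonoidHom.mem_ker.2 <| hπ1.2 fun e he => by
    show Commute (u * (x : G) * u⁻¹) e
    rw [(hkeru x x.2 (hπ1.1 hx)).eq, mul_inv_cancel_right]
    exact hπ1.1 hx e he
  let θb : ρ.range →* ρ.range := π.liftOfSurjective hπs ⟨π.comp θ, hker'⟩
  have hθb : ∀ x, θb (π x) = π (θ x) := fun x =>
    MonoidHom.liftOfRightInverse_comp_apply _ _ _ _ x
  have hinvol : ∀ y, θb (θb y) = y := fun y => by
    obtain ⟨x, rfl⟩ := hπs y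
    rw [hθb, hθb]
    refine congrArg π (Subtype.ext ?_)
    show u * (u * (x : G) * u⁻¹) * u⁻¹ = x
    calc u * (u * (x : G) * u⁻¹) * u⁻¹ = (u * u) * x * (u * u)⁻¹ := by group
      _ = x := by rw [mul_self hu]; group
  have hθbs : Function.Surjective θb := fun y => ⟨θb y, hinvol y⟩
  have hθbi : Function.Injective θb := Finite.injective_iff_surjective.mpr hθbs
  have hθF : ∀ f ∈ F, θb f ∈ F := fun f hf => by
    haveI : (F.map θb).Normal := Subgroup.Normal.map inferInstance θb hθbs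
    exact CfsgLib.Solvable.Cores.le_fittingSubgroup (N := F.map θb)
      (Group.nilpotent_of_mulEquiv (F.equivMapOfInjective θb hθbi)) ⟨f, hf, rfl⟩
  have hsq : ∀ x : ρ.range, x * x = 1 → x = 1 := fun x hx =>
    mem_bot.1 (ZStar.mem_of_sq_mem (N := (⊥ : Subgroup ρ.range))
      (hA.odd.of_dvd_nat (orderOf_dvd_natCard x)) (mem_bot.2 hx))
  have hfix : ∀ x : D, π x ∈ F → (∃ e : E, e ≠ 1 ∧ Commute (x : G) e) → π x = 1 := by
    rintro x hx ⟨e, he, hxe⟩
    by_contra hx1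
    refine he (hA.eq_one_of_fix hx hx1 (Subtype.ext ?_))
    show (x : G) * e * (x : G)⁻¹ = e
    rw [hxe.eq, mul_inv_cancel_right]
  have hcent : ∀ x : D, π x ∈ F → Commute u (x : G) → π x = 1 := by
    intro x hx hxu
    obtain ⟨t, ht, hta, htc, hvt⟩ := exists_fixes h hab hc hcab h2 hu hua huc
      (mem_inf.1 x.2).1 (hmemΓ.1 (mem_inf.1 x.2).2) hxu
    exact hfix x hx ⟨⟨t, hEmem ht hta htc⟩, fun e => ne_one ht (congrArg Subtype.val e), hvt⟩
  have huD : u ∈ normalizer (D : Set G) :=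
    Coprime.mem_normalizer_of_conj_map_le fun x hx => hinvD hx
  have hfixed : ∀ f ∈ F, θb f = f → f = 1 := by
    intro f hf hθ
    obtain ⟨x, rfl⟩ := hπs f
    obtain ⟨v, hv, j, hj, huv, hjinv, hx⟩ := exists_decomp hu hDodd huD x.2
    have hx' : x = (⟨v, hv⟩ : D) * ⟨j, hj⟩ := Subtype.ext hx
    have hθv : θ ⟨v, hv⟩ = ⟨v, hv⟩ :=
      Subtype.ext (show u * v * u⁻¹ = v by rw [huv.eq, mul_inv_cancel_right])
    have hθj : θ ⟨j, hj⟩ = (⟨j, hj⟩ : D)⁻¹ := Subtype.ext hjinv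
    rw [hx', hθb, map_mul, map_mul, hθv, hθj, map_mul, mul_left_cancel_iff, map_inv] at hθ
    have hj1 : π ⟨j, hj⟩ = 1 := hsq _ (by nth_rw 1 [← hθ]; exact inv_mul_cancel _)
    rw [hx', map_mul, hj1, mul_one] at hf ⊢
    exact hcent _ hf huv
  have hcomm : ∀ f ∈ F, ∀ g ∈ F, f * g = g * f := fun f hf g hg => by
    letI := IsCyclic.commGroup (α := F)
    exact congrArg Subtype.val (mul_comm (⟨f, hf⟩ : F) ⟨g, hg⟩)
  have hinv : ∀ f ∈ F, θb f = f⁻¹ := fun f hf => by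
    have h1 := hfixed (f * θb f) (mul_mem hf (hθF f hf)) (by
      rw [map_mul, hinvol]; exact hcomm _ (hθF f hf) _ hf)
    exact eq_inv_of_mul_eq_one_right h1
  have hinF : ∀ x : D, u * (x : G) * u⁻¹ = (x : G)⁻¹ → π x ∈ F := by
    intro i hi
    have hθi : θb (π i) = (π i)⁻¹ := by
      rw [hθb, ← map_inv]; exact congrArg π (Subtype.ext hi)
    have hi2 : π i * π i ∈ F := by
      refine hA.centralizer_le (Subgroup.mem_centralizer_iff.2 fun f hf => ?_)
      have h1 := hinv _ (‹F.Normal›.conj_mem f hf (π i))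
      rw [map_mul, map_mul, map_inv, hθi, hinv f hf] at h1
      have h3 : (π i)⁻¹ * f⁻¹ * π i = π i * f⁻¹ * (π i)⁻¹ := by
        calc (π i)⁻¹ * f⁻¹ * π i = (π i)⁻¹ * f⁻¹ * (π i)⁻¹⁻¹ := by group
          _ = (π i * f * (π i)⁻¹)⁻¹ := h1
          _ = _ := by group
      have h4 : f⁻¹ * (π i * π i) = π i * π i * f⁻¹ := by
        calc f⁻¹ * (π i * π i) = π i * ((π i)⁻¹ * f⁻¹ * π i) * π i := by group
          _ = π i * (π i * f⁻¹ * (π i)⁻¹) * π i := by rw [h3]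
          _ = _ := by group
      calc f * (π i * π i) = f * (π i * π i * f⁻¹) * f := by group
        _ = f * (f⁻¹ * (π i * π i)) * f := by rw [h4]
        _ = _ := by group
    exact ZStar.mem_of_sq_mem (hA.odd.of_dvd_nat (orderOf_dvd_natCard _)) hi2
  -- inverted elements with trivial image
  have hinj : ∀ x : D, u * (x : G) * u⁻¹ = (x : G)⁻¹ → π x = 1 → (x : G) = 1 := by
    intro x hx hx1
    rw [(hkeru x x.2 (hπ1.1 hx1)).eq, mul_inv_cancel_right] at hx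
    exact mem_bot.1 (ZStar.mem_of_sq_mem (N := (⊥ : Subgroup G))
      (hDodd.of_dvd_nat (Subgroup.orderOf_dvd_natCard _ x.2)) (mem_bot.2 (by
        nth_rw 2 [hx]; exact mul_inv_cancel _)))
  have hkcomm : ∀ k ∈ D, u * k * u⁻¹ = k⁻¹ → ∀ n ∈ D, (∀ e ∈ E, Commute n e) → Commute k n := by
    intro k hk hki n hn hne
    refine commute_inverted (J := D ⊓ centralizer (E : Set G))
      (hDodd.of_dvd_nat (Subgroup.orderOf_dvd_natCard _ hk)) hki
      (fun j hj => hkeru j (mem_inf.1 hj).1 fun e he =>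
        ((mem_centralizer_iff.1 (mem_inf.1 hj).2 e he) : Commute e j).symm) ?_
      (mem_inf.2 ⟨hn, mem_centralizer_iff.2 fun e he => (hne e he).eq.symm⟩)
    exact mem_normalizer_inf' (le_normalizer hk)
      (le_normalizer_centralizer _ (hDN.trans hNE hk))
  -- the generator
  obtain ⟨f₀, hf₀⟩ := (inferInstance : IsCyclic F).exists_generator
  obtain ⟨x₀, hx₀⟩ := hπs (f₀ : ρ.range)
  obtain ⟨v, hv, k₀, hk₀, huv, hk₀inv, hx₀'⟩ := exists_decomp hu hDodd huD x₀.2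
  have hkF : π ⟨k₀, hk₀⟩ ∈ F := hinF _ hk₀inv
  have hsplit : π x₀ = π ⟨v, hv⟩ * π ⟨k₀, hk₀⟩ := by
    rw [← map_mul]; exact congrArg π (Subtype.ext hx₀')
  have hv1 : π ⟨v, hv⟩ = 1 := hcent _ (by
    rw [show π ⟨v, hv⟩ = π x₀ * (π ⟨k₀, hk₀⟩)⁻¹ by rw [hsplit, mul_inv_cancel_right], hx₀]
    exact mul_mem f₀.2 (inv_mem hkF)) huv
  have hk0π : π ⟨k₀, hk₀⟩ = (f₀ : ρ.range) := by rw [← hx₀, hsplit, hv1, one_mul]
  have hzinv : ∀ j ∈ zpowers k₀, u * j * u⁻¹ = j⁻¹ := fun j hj => by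
    obtain ⟨n, rfl⟩ := mem_zpowers_iff.1 hj
    rw [Dihedral.conj_zpow hk₀inv, zpow_neg]
  have hall : ∀ k ∈ D, u * k * u⁻¹ = k⁻¹ → k ∈ zpowers k₀ := by
    intro k hk hki
    obtain ⟨n, hn⟩ := mem_zpowers_iff.1 (hf₀ ⟨π ⟨k, hk⟩, hinF _ hki⟩)
    have hkn : k₀ ^ n ∈ D := zpow_mem hk₀ n
    set y := k * (k₀ ^ n)⁻¹ with hy
    have hyD : y ∈ D := mul_mem hk (inv_mem hkn)
    have hn' : π ⟨k, hk⟩ = π ⟨k₀, hk₀⟩ ^ n := by
      rw [hk0π]; exact (congrArg Subtype.val hn).symm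
    have hy1 : π ⟨y, hyD⟩ = 1 := by
      rw [show (⟨y, hyD⟩ : D) = ⟨k, hk⟩ * (⟨k₀, hk₀⟩ ^ n)⁻¹ from Subtype.ext (by simp [hy]),
        map_mul, map_inv, map_zpow, ← hn', mul_inv_cancel]
    have hc' : Commute (k₀ ^ n) y :=
      hkcomm _ hkn (hzinv _ (zpow_mem (mem_zpowers k₀) n)) y hyD (hπ1.1 hy1)
    have hyinv : u * y * u⁻¹ = y⁻¹ := by
      have e : k = y * k₀ ^ n := by rw [hy, inv_mul_cancel_right]
      have h1 : (u * y * u⁻¹) * (k₀ ^ n)⁻¹ = (k₀ ^ n)⁻¹ * y⁻¹ := by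
        rw [← mul_inv_rev, ← e, ← hki, ← hzinv _ (zpow_mem (mem_zpowers k₀) n), e]; group
      rw [hc'.inv_left.inv_right.eq] at h1
      exact mul_right_cancel h1
    have := hinj ⟨y, hyD⟩ hyinv hy1
    exact (mul_inv_eq_one.1 this) ▸ zpow_mem (mem_zpowers k₀) n
  have hzD : zpowers k₀ ≤ D := zpowers_le.2 hk₀
  have hfree : ∀ j ∈ zpowers k₀, ∀ t : G, orderOf t = 2 → t • a = a → Commute t c → Commute j t →
      j = 1 := fun j hj t ht hta htc hjt =>
    hinj ⟨j, hzD hj⟩ (hzinv j hj) (hfix _ (hinF _ (hzinv j hj))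
      ⟨⟨t, hEmem ht hta htc⟩, fun e => ne_one ht (congrArg Subtype.val e), hjt⟩)
  have hswapmem : ∀ {i : G}, orderOf i = 2 → i • a = b → Commute i c → u * i ∈ zpowers k₀ := by
    intro i hi hia hic
    refine hall _ (mem_inf.2 ⟨mem_stab2.2 ⟨by rw [mul_smul, hia, swap_smul hu hua],
      by rw [mul_smul, swap_smul hi hia, hua]⟩, hmemΓ.2 (huc.mul_left hic)⟩) ?_
    rw [mul_inv_rev, inv_eq hi, inv_eq hu, ← mul_assoc, mul_self hu, one_mul]
  have hreg : ∀ s t : G, orderOf s = 2 → s • a = a → Commute s c → orderOf t = 2 → t • a = a →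
      Commute t c → ∃ j ∈ zpowers k₀, j * s * j⁻¹ = t := by
    intro s t hs hsa hsc ht hta htc
    obtain ⟨hb1, hb2, hb3⟩ := htb ht hta htc
    obtain ⟨i, hiΓ, hi, hia, hiv⟩ := exists_swap_mem h.min.se (N := Γ) hab hs hsa hb1 hb2
      (hmemΓ.2 hsc) (hmemΓ.2 hb3)
    refine ⟨u * i, hswapmem hi hia (hmemΓ.1 hiΓ), ?_⟩
    calc u * i * s * (u * i)⁻¹ = u * (i * s * i⁻¹) * u⁻¹ := by group
      _ = (u * u) * t * (u * u)⁻¹ := by rw [hiv]; group
      _ = t := by rw [mul_self hu]; group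
  -- the order
  have hE2 : IsPGroup 2 E := fun e => ⟨1, by rw [pow_one, pow_two]; exact hEsq e⟩
  obtain ⟨d, hd⟩ := hE2.exists_card_eq
  have hd1 : Nat.card {t : G // orderOf t = 2 ∧ t ∈ Γ ∧ t • a = a} = 2 ^ d - 1 := by
    haveI := Fintype.ofFinite E
    rw [← hd, Nat.card_congr
      ({ toFun := fun t => ⟨⟨t.1, t.2.2.1, t.2.2.2, mul_self t.2.1⟩,
          fun e => ne_one t.2.1 (congrArg Subtype.val e)⟩
         invFun := fun e => ⟨e.1.1, orderOf_eq_two e.1.2.2.2 (fun h => e.2 (Subtype.ext h)),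
          e.1.2.1, e.1.2.2.1⟩
         left_inv := fun _ => rfl
         right_inv := fun _ => rfl } :
        {t : G // orderOf t = 2 ∧ t ∈ Γ ∧ t • a = a} ≃ {e : E // e ≠ 1})]
    rw [Nat.card_eq_fintype_card, Nat.card_eq_fintype_card, Fintype.card_subtype_compl,
      Fintype.card_subtype_eq]
  have hd2 : 2 ≤ d := by
    by_contra hlt
    have h1 : 2 ^ d - 1 ≤ 1 := by
      have : 2 ^ d ≤ 2 ^ 1 := Nat.pow_le_pow_right two_pos (by omega)
      omega
    have h2 : 1 < Nat.card {t : G // orderOf t = 2 ∧ t ∈ Γ ∧ t • a = a} :=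
      Finite.one_lt_card_iff_nontrivial.2 ⟨⟨⟨v₀, hv₀, hv₀C, hv₀a⟩, ⟨w₀, hw₀, hw₀C, hw₀a⟩,
        fun e => hne₀ (congrArg Subtype.val e)⟩⟩
    omega
  have hord : orderOf k₀ = 2 ^ d - 1 := by
    rw [← hd1, ← Nat.card_zpowers]
    refine Nat.card_eq_of_bijective
      (fun j : zpowers k₀ => (⟨(j : G) * v₀ * (j : G)⁻¹, (orderOf_conj _ _).trans hv₀,
        mul_mem (mul_mem (mem_inf.1 (hzD j.2)).2 hv₀C) (inv_mem (mem_inf.1 (hzD j.2)).2), by
          have hja := (mem_stab2.1 (mem_inf.1 (hzD j.2)).1).1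
          rw [mul_smul, mul_smul, inv_smul_eq_iff.2 hja.symm, hv₀a, hja]⟩ :
        {t : G // orderOf t = 2 ∧ t ∈ Γ ∧ t • a = a})) ⟨fun j j' e => ?_, fun t => ?_⟩
    · have e' : (j : G) * v₀ * (j : G)⁻¹ = j' * v₀ * (j' : G)⁻¹ := congrArg Subtype.val e
      refine Subtype.ext (inv_mul_eq_one.1 (hfree _ (mul_mem (inv_mem j'.2) j.2) v₀ hv₀ hv₀a
        (hmemΓ.1 hv₀C) ?_)).symm
      show (j' : G)⁻¹ * j * v₀ = v₀ * ((j' : G)⁻¹ * j)
      calc (j' : G)⁻¹ * j * v₀ = (j' : G)⁻¹ * (j * v₀ * (j : G)⁻¹) * j := by group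
        _ = _ := by rw [e']; group
    · obtain ⟨j, hj, e⟩ := hreg v₀ t hv₀ hv₀a (hmemΓ.1 hv₀C) t.2.1 t.2.2.2 (hmemΓ.1 t.2.2.1)
      exact ⟨⟨j, hj⟩, Subtype.ext e⟩
  -- inverted elements normalising `⟨c⟩`
  have hall' : ∀ k ∈ stab2 a b, k ∈ normalizer ((zpowers c : Subgroup G) : Set G) →
      u * k * u⁻¹ = k⁻¹ → k ∈ zpowers k₀ := by
    intro k hk hkc hki
    refine hall k (mem_inf.2 ⟨hk, hmemΓ.2 (commute_inverted (J := zpowers c)
      ((odd_stab2 h.min.se hab).of_dvd_nat (Subgroup.orderOf_dvd_natCard _ hk)) hki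
      (fun j hj => ?_) hkc (mem_zpowers c))⟩) hki
    obtain ⟨n, rfl⟩ := mem_zpowers_iff.1 hj
    exact huc.zpow_right n
  -- normality and exponents
  have huN : u ∈ normalizer (N : Set G) := mem_normalizer_inf' (swap_mem_normalizer hu hua)
    (le_normalizer (conj_normalizer_of_commute huc))
  have hnorm : ∀ n ∈ N, ∀ j ∈ zpowers k₀, n * j * n⁻¹ ∈ zpowers k₀ := by
    intro n hn j hj
    obtain ⟨v, hv, i, hi, huv, hiinv, rfl⟩ := exists_decomp hu hNodd huN hn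
    have hi' : i ∈ zpowers k₀ := hall' i (mem_inf.1 hi).1 (mem_inf.1 hi).2 hiinv
    have hj' : i * j * i⁻¹ ∈ zpowers k₀ := mul_mem (mul_mem hi' hj) (inv_mem hi')
    rw [show v * i * j * (v * i)⁻¹ = v * (i * j * i⁻¹) * v⁻¹ by group]
    have hmem : v * (i * j * i⁻¹) * v⁻¹ ∈ N := mul_mem (mul_mem hv (hDN (hzD hj'))) (inv_mem hv)
    refine hall' _ (mem_inf.1 hmem).1 (mem_inf.1 hmem).2 ?_
    calc u * (v * (i * j * i⁻¹) * v⁻¹) * u⁻¹
        = (u * v * u⁻¹) * (u * (i * j * i⁻¹) * u⁻¹) * (u * v * u⁻¹)⁻¹ := by group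
      _ = v * (i * j * i⁻¹)⁻¹ * v⁻¹ := by rw [hzinv _ hj', huv.eq, mul_inv_cancel_right]
      _ = _ := by group
  set Z := (zpowers k₀).subgroupOf N with hZ
  haveI : Z.Normal := ⟨fun j hj n => mem_subgroupOf.2 (hnorm n n.2 j (mem_subgroupOf.1 hj))⟩
  have hπNs : Function.Surjective ρN.rangeRestrict := ρN.rangeRestrict_surjective
  haveI : (Z.map ρN.rangeRestrict).Normal := Subgroup.Normal.map inferInstance _ hπNs
  haveI : IsCyclic Z :=
    (subgroupOfEquivOfLe (hzD.trans hDN)).isCyclic.2 (inferInstance : IsCyclic (zpowers k₀))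
  letI : CommGroup Z := IsCyclic.commGroup
  have hZF : Z.map ρN.rangeRestrict ≤ Cfsg.fittingSubgroup ρN.range :=
    CfsgLib.Solvable.Cores.le_fittingSubgroup
      (Group.nilpotent_of_surjective _ (ρN.rangeRestrict.subgroupMap_surjective Z))
  have hconj : ∀ n ∈ N, ∃ i < d, n * k₀ * n⁻¹ = k₀ ^ 2 ^ i := by
    intro n hn
    set e₀ : E := ⟨v₀, hEmem hv₀ hv₀a (hmemΓ.1 hv₀C)⟩
    obtain ⟨i, hid, hi⟩ := (hAN.field_facts hd).2 e₀ (fun e => ne_one hv₀ (congrArg Subtype.val e))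
      (fun y hy => by
        obtain ⟨hy2, hya, hyc⟩ := hEinv y.2 fun e => hy (Subtype.ext e)
        obtain ⟨j, hj, e⟩ := hreg v₀ y hv₀ hv₀a (hmemΓ.1 hv₀C) hy2 hya hyc
        exact ⟨ρN.rangeRestrict ⟨j, hDN (hzD hj)⟩, hZF ⟨_, mem_subgroupOf.2 hj, rfl⟩,
          Subtype.ext e⟩) (ρN.rangeRestrict ⟨n, hn⟩)
    refine ⟨i, hid, ?_⟩
    have h1 := hi (ρN.rangeRestrict ⟨k₀, hDN hk₀⟩) (hZF ⟨_, mem_subgroupOf.2 (mem_zpowers k₀), rfl⟩)
    have hq : n * k₀ * n⁻¹ * (k₀ ^ 2 ^ i)⁻¹ ∈ zpowers k₀ :=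
      mul_mem (hnorm n hn _ (mem_zpowers k₀)) (inv_mem (pow_mem (mem_zpowers k₀) _))
    set m : N := ⟨n, hn⟩ * ⟨k₀, hDN hk₀⟩ * (⟨n, hn⟩ : N)⁻¹ * ((⟨k₀, hDN hk₀⟩ : N) ^ 2 ^ i)⁻¹
    have hm : ρN m = 1 := by
      have h1' : ρN.rangeRestrict m = 1 := by
        rw [map_mul, map_mul, map_mul, map_inv, map_inv, map_pow, h1, mul_inv_cancel]
      exact congrArg Subtype.val h1'
    have hmv : Commute (m : G) v₀ := (actE_eq_one_iff hNE).1 hm v₀ (hEmem hv₀ hv₀a (hmemΓ.1 hv₀C))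
    have hmz : (m : G) = n * k₀ * n⁻¹ * (k₀ ^ 2 ^ i)⁻¹ := by simp [m]
    rw [hmz] at hmv
    exact mul_inv_eq_one.1 (hfree _ hq v₀ hv₀ hv₀a (hmemΓ.1 hv₀C) hmv)
  refine ⟨k₀, d, ⟨hd2, (mem_inf.1 hk₀).1, hmemΓ.1 (mem_inf.1 hk₀).2, hk₀inv, hord, hd1, hall',
    hreg, hfree, fun v hv hvc huv => exists_fixes h hab hc hcab h2 hu hua huc hv hvc huv,
    fun n hn hnc => hconj n (mem_inf.2 ⟨hn, hnc⟩), fun n hn hnc hne => ?_⟩⟩
  have hnE : ∀ e ∈ E, Commute n e := fun e he => by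
    by_cases he1 : e = 1
    · rw [he1]; exact Commute.one_right n
    · obtain ⟨e2, ea, ec⟩ := hEinv he he1
      exact hne e e2 ea ec
  have hnD : n ∈ D := mem_inf.2 ⟨hn, hmemΓ.2 hnc⟩
  exact ⟨hkeru n hnD hnE, (hkcomm k₀ hk₀ hk₀inv n hnD hnE).symm⟩

end

omit [Finite G] in
/-- An element of prime order `l` acting as a power of two without fixed points on a cyclic group of
order `2 ^ d - 1` forces `d = l`. -/
theorem eq_of_two_pow_fpf {k x : G} {d i l : ℕ} (hl : l.Prime) (hd : 2 ≤ d)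
    (hk : orderOf k = 2 ^ d - 1) (hx : x * k * x⁻¹ = k ^ 2 ^ i) (hxl : Commute (x ^ l) k)
    (hfree : ∀ j ∈ zpowers k, Commute j x → j = 1) : d = l := by
  have hpow : ∀ n : ℕ, x ^ n * k * (x ^ n)⁻¹ = k ^ 2 ^ (i * n) := by
    intro n; induction n with
    | zero => simp
    | succ n ih =>
      calc x ^ (n + 1) * k * (x ^ (n + 1))⁻¹ = x * (x ^ n * k * (x ^ n)⁻¹) * x⁻¹ := by
            rw [pow_succ', mul_inv_rev]; group
        _ = (x * k * x⁻¹) ^ 2 ^ (i * n) := by rw [ih, _root_.conj_pow]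
        _ = k ^ 2 ^ (i * (n + 1)) := by rw [hx, ← pow_mul, ← pow_add]; ring_nf
  have hdvd : d ∣ i * l := by
    have h1 := hpow l
    rw [hxl.eq, mul_inv_cancel_right] at h1
    have h2 : k ^ (2 ^ (i * l) - 1) = 1 := by
      have e : k ^ (2 ^ (i * l) - 1) * k = 1 * k := by
        rw [one_mul, ← pow_succ, Nat.sub_add_cancel Nat.one_le_two_pow, ← h1]
      exact mul_right_cancel e
    have h3 : 2 ^ d - 1 ∣ 2 ^ (i * l) - 1 := hk ▸ orderOf_dvd_of_pow_eq_one h2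
    have h4 := Nat.pow_sub_one_gcd_pow_sub_one 2 d (i * l)
    rw [Nat.gcd_eq_left h3] at h4
    have h5 : d = d.gcd (i * l) := by
      have h6 : 2 ^ d = 2 ^ d.gcd (i * l) := by
        have := Nat.one_le_two_pow (n := d)
        have := Nat.one_le_two_pow (n := d.gcd (i * l))
        omega
      exact Nat.pow_right_injective le_rfl h6
    exact h5 ▸ Nat.gcd_dvd_right _ _
  have hg : i.gcd d = 1 := by
    set g := i.gcd d with hgdef
    have hgd : 2 ^ g - 1 ∣ 2 ^ d - 1 := Nat.pow_sub_one_dvd_pow_sub_one 2 (Nat.gcd_dvd_right i d)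
    have hgi : 2 ^ g - 1 ∣ 2 ^ i - 1 := Nat.pow_sub_one_dvd_pow_sub_one 2 (Nat.gcd_dvd_left i d)
    obtain ⟨q, hq⟩ := hgd
    have hjx : Commute (k ^ q) x := by
      have h1 : x * k ^ q * x⁻¹ = k ^ q := by
        obtain ⟨s, hs⟩ := hgi
        have hpos := Nat.one_le_two_pow (n := i)
        rw [← _root_.conj_pow, hx, ← pow_mul, show 2 ^ i * q = (2 ^ d - 1) * s + q by
          rw [hq, mul_assoc, mul_comm q s, ← mul_assoc, ← hs]
          obtain ⟨w, hw⟩ : ∃ w, 2 ^ i = w + 1 := ⟨2 ^ i - 1, by omega⟩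
          rw [hw, Nat.add_sub_cancel]; ring, pow_add, pow_mul, ← hk, pow_orderOf_eq_one, one_pow,
          one_mul]
      exact (mul_inv_eq_iff_eq_mul.1 h1).symm
    have h1 := hfree _ (pow_mem (mem_zpowers k) q) hjx
    have hqk : 2 ^ d - 1 ∣ q := hk ▸ orderOf_dvd_of_pow_eq_one h1
    have hpd : 0 < 2 ^ d - 1 := by
      have : 2 ^ 2 ≤ 2 ^ d := Nat.pow_le_pow_right two_pos hd
      omega
    have hq0 : 0 < q := Nat.pos_of_ne_zero fun e => by rw [e, mul_zero] at hq; omega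
    have hle := Nat.le_of_dvd hq0 hqk
    have hg1 : 2 ^ g - 1 ≤ 1 := by
      by_contra hlt
      push Not at hlt
      have : 2 * q ≤ (2 ^ g - 1) * q := Nat.mul_le_mul_right q hlt
      omega
    have hg0 : 0 < g := Nat.pos_of_ne_zero fun e => by
      rw [hgdef, Nat.gcd_eq_zero_iff] at e; omega
    have hg2 : g < 2 := by
      by_contra hge
      have : 2 ^ 2 ≤ 2 ^ g := Nat.pow_le_pow_right two_pos (by omega)
      omega
    omega
  have hdl : d ∣ l := (Nat.Coprime.dvd_mul_left (Nat.Coprime.symm hg)).1 hdvd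
  rcases (Nat.dvd_prime hl).1 hdl with e | e
  · omega
  · exact e

omit [Finite G] in
/-- An element of prime order `p` acting nontrivially as a power of two on a cyclic group of order
`2 ^ d - 1` forces `p ∣ d`. -/
theorem dvd_of_two_pow_moves {k x : G} {d i p : ℕ} (hp : p.Prime)
    (hk : orderOf k = 2 ^ d - 1) (hx : x * k * x⁻¹ = k ^ 2 ^ i) (hxp : Commute (x ^ p) k)
    (hmove : ¬ Commute x k) : p ∣ d := by
  by_contra hpd
  have hco : p.Coprime d := (hp.coprime_iff_not_dvd).2 hpd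
  have hpow : ∀ n : ℕ, x ^ n * k * (x ^ n)⁻¹ = k ^ 2 ^ (i * n) := by
    intro n; induction n with
    | zero => simp
    | succ n ih =>
      calc x ^ (n + 1) * k * (x ^ (n + 1))⁻¹ = x * (x ^ n * k * (x ^ n)⁻¹) * x⁻¹ := by
            rw [pow_succ', mul_inv_rev]; group
        _ = (x * k * x⁻¹) ^ 2 ^ (i * n) := by rw [ih, _root_.conj_pow]
        _ = k ^ 2 ^ (i * (n + 1)) := by rw [hx, ← pow_mul, ← pow_add]; ring_nf
  have h1 := hpow p
  rw [hxp.eq, mul_inv_cancel_right] at h1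
  have h2 : k ^ (2 ^ (i * p) - 1) = 1 := by
    have e : k ^ (2 ^ (i * p) - 1) * k = 1 * k := by
      rw [one_mul, ← pow_succ, Nat.sub_add_cancel Nat.one_le_two_pow, ← h1]
    exact mul_right_cancel e
  have h3 : 2 ^ d - 1 ∣ 2 ^ (i * p) - 1 := hk ▸ orderOf_dvd_of_pow_eq_one h2
  have h4 := Nat.pow_sub_one_gcd_pow_sub_one 2 d (i * p)
  rw [Nat.gcd_eq_left h3] at h4
  have h6 : 2 ^ d = 2 ^ d.gcd (i * p) := by
    have := Nat.one_le_two_pow (n := d)
    have := Nat.one_le_two_pow (n := d.gcd (i * p))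
    omega
  have hdi : d ∣ i := (Nat.Coprime.dvd_mul_right hco.symm).1
    ((Nat.pow_right_injective le_rfl h6) ▸ Nat.gcd_dvd_right _ _)
  obtain ⟨s, hs⟩ := Nat.pow_sub_one_dvd_pow_sub_one 2 hdi
  refine hmove ?_
  have h7 : x * k * x⁻¹ = k := by
    rw [hx, show 2 ^ i = (2 ^ d - 1) * s + 1 by
      have := Nat.one_le_two_pow (n := i); omega, pow_succ, pow_mul, ← hk, pow_orderOf_eq_one,
      one_pow, one_mul]
  exact mul_inv_eq_iff_eq_mul.1 h7

end CfsgLib.LocalEven.BenderSplit
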