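import Mathlib

/-!
# An automorphism normalising an extraspecial group of order `s ^ 3` on a module

If the fixed subgroups of the non-central elements are cyclic the module has rank `s`, so the group
spans all endomorphisms; counting the centraliser of `x` by its orbits and by its eigenspaces shows
that `x` fixes a non-trivial vector.
-/

set_option autoImplicit false

namespace CfsgLib.LocalEven.BenderSplit

open Finset

section Linear

variable {K V : Type*} [Field K] [AddCommGroup V] [Module K V]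

/-- The endomorphisms commuting with `f`. -/
noncomputable def commutant (f : Module.End K V) : Submodule K (Module.End K V) :=
  LinearMap.ker (LinearMap.mulLeft K f - LinearMap.mulRight K f)

theorem mem_commutant {f y : Module.End K V} : y ∈ commutant f ↔ f * y = y * f := by
  simp [commutant, sub_eq_zero]

theorem sum_range_periodic {A : Type*} [AddCommMonoid A] {l : ℕ} (F : ℕ → A) (h : F l = F 0) :
    ∑ t ∈ range l, F (t + 1) = ∑ t ∈ range l, F t := by
  cases l with
  | zero => simp
  | succ m =>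
    rw [Finset.sum_range_succ, h, Finset.sum_range_succ' F]

/-- The centraliser of a fixed point free element of order `l` is large. -/
theorem sq_finrank_le_commutant [IsAlgClosed K] [FiniteDimensional K V] {l : ℕ} (hl : l ≠ 0)
    (hlK : (l : K) ≠ 0) (f : Module.End K V) (hf : f ^ l = 1) (hfix : ∀ v, f v = v → v = 0) :
    Module.finrank K V ^ 2 ≤ (l - 1) * Module.finrank K (commutant f) := by
  classical
  haveI : NeZero l := ⟨hl⟩
  haveI : NeZero (l : K) := ⟨hlK⟩
  obtain ⟨ε, hε⟩ := HasEnoughRootsOfUnity.exists_primitiveRoot K l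
  let E : Set V := {v | ∃ k : Fin (l - 1), f v = ε ^ ((k : ℕ) + 1) • v}
  have hspan : Submodule.span K E = ⊤ := by
    rw [eq_top_iff]
    rintro v -
    let P : ℕ → V := fun k => ∑ t ∈ range l, (ε ^ k)⁻¹ ^ t • (f ^ t) v
    have hP : ∀ k, f (P k) = ε ^ k • P k := by
      intro k
      have hne : ε ^ k ≠ 0 := pow_ne_zero _ (hε.ne_zero hl)
      have h1 := sum_range_periodic (l := l) (fun t => (ε ^ k)⁻¹ ^ t • (f ^ t) v) (by
        show (ε ^ k)⁻¹ ^ l • (f ^ l) v = (ε ^ k)⁻¹ ^ 0 • (f ^ 0) v
        rw [hf, inv_pow, ← pow_mul, mul_comm, pow_mul, hε.pow_eq_one]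
        simp)
      show f (∑ t ∈ range l, (ε ^ k)⁻¹ ^ t • (f ^ t) v) = _
      rw [map_sum]
      conv_rhs => rw [show P k = _ from h1.symm, Finset.smul_sum]
      refine Finset.sum_congr rfl fun t _ => ?_
      rw [map_smul, smul_smul, pow_succ' (ε ^ k)⁻¹, ← mul_assoc, mul_inv_cancel₀ hne, one_mul,
        pow_succ' f, Module.End.mul_apply]
    have hsum : ∑ k ∈ range l, P k = (l : K) • v := by
      show ∑ k ∈ range l, ∑ t ∈ range l, (ε ^ k)⁻¹ ^ t • (f ^ t) v = _
      rw [Finset.sum_comm]
      rw [Finset.sum_eq_single 0]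
      · simp [Nat.cast_smul_eq_nsmul]
      · intro t ht ht0
        rw [← Finset.sum_smul]
        have h1 : ∀ k, (ε ^ k)⁻¹ ^ t = ((ε ^ t)⁻¹) ^ k := fun k => by
          rw [inv_pow, inv_pow, ← pow_mul, ← pow_mul, mul_comm]
        simp only [h1]
        have h2 : (ε ^ t)⁻¹ ≠ 1 := by
          rw [ne_eq, inv_eq_one, hε.pow_eq_one_iff_dvd]
          exact fun h => ht0 (Nat.eq_zero_of_dvd_of_lt h (Finset.mem_range.1 ht))
        rw [geom_sum_eq h2, inv_pow, ← pow_mul, mul_comm, pow_mul, hε.pow_eq_one]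
        simp
      · intro h
        exact absurd (Finset.mem_range.2 (Nat.pos_of_ne_zero hl)) h
    have hmem : ∑ k ∈ range l, P k ∈ Submodule.span K E := by
      refine Submodule.sum_mem _ fun k hk => ?_
      rcases Nat.eq_zero_or_pos k with rfl | hk0
      · have := hP 0
        rw [pow_zero, one_smul] at this
        rw [hfix _ this]
        exact zero_mem _
      · refine Submodule.subset_span ⟨⟨k - 1, by have := Finset.mem_range.1 hk; omega⟩, ?_⟩
        rw [show k - 1 + 1 = k by omega]
        exact hP k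
    rw [hsum] at hmem
    exact (Submodule.smul_mem_iff _ hlK).1 hmem
  obtain ⟨b, hbE, hbspan, hbli⟩ := exists_linearIndependent K E
  let B : Module.Basis b K V := Module.Basis.mk hbli (by
    rw [Subtype.range_coe, hbspan, hspan])
  haveI : Fintype b := FiniteDimensional.fintypeBasisIndex B
  have hBc : ∀ j, B j = (j : V) := fun j => Module.Basis.mk_apply _ _ j
  choose κ hκ using fun j : b => hbE j.2
  let T : Finset (b × b) := univ.filter fun p => κ p.1 = κ p.2
  let U : T → Module.End K V := fun p => (B.coord p.1.2).smulRight (B p.1.1)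
  have hU : LinearIndependent K U := by
    rw [Fintype.linearIndependent_iff]
    intro g hg p
    have h := congrArg (fun L : Module.End K V => B.coord p.1.1 (L (B p.1.2))) hg
    simp only [U, LinearMap.sum_apply, map_sum, LinearMap.smul_apply, LinearMap.smulRight_apply,
      map_smul, Module.Basis.coord_apply, Module.Basis.repr_self, LinearMap.zero_apply, map_zero,
      smul_eq_mul, Finsupp.coe_zero, Pi.zero_apply] at h
    rw [Finset.sum_eq_single p] at h
    · simpa using h
    · intro p' _ hne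
      by_cases h2 : p.1.2 = p'.1.2
      · have h1 : p'.1.1 ≠ p.1.1 := fun h1 => hne (Subtype.ext (Prod.ext h1 h2.symm))
        simp [Finsupp.single_apply, h1]
      · simp [Finsupp.single_apply, h2]
    · simp
  have hUC : ∀ p, U p ∈ commutant f := by
    rintro ⟨⟨j, k⟩, hjk⟩
    rw [mem_commutant]
    refine B.ext fun m => ?_
    have hfj : f (B j) = ε ^ ((κ j : ℕ) + 1) • B j := by rw [hBc]; exact hκ j
    have hfm : f (B m) = ε ^ ((κ m : ℕ) + 1) • B m := by rw [hBc]; exact hκ m
    simp only [U, Module.End.mul_apply, LinearMap.smulRight_apply, map_smul, hfm,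
      Module.Basis.coord_apply, Module.Basis.repr_self, hfj]
    by_cases h : m = k
    · subst h
      rw [(Finset.mem_filter.1 hjk).2]
      simp
    · simp [Finsupp.single_apply, h]
  have hle : T.card ≤ Module.finrank K (commutant f) := by
    have h : LinearIndependent K fun p => (⟨U p, hUC p⟩ : commutant f) :=
      LinearIndependent.of_comp (commutant f).subtype hU
    have := h.fintype_card_le_finrank
    rwa [Fintype.card_coe] at this
  have hsq : Fintype.card b ^ 2 ≤ (l - 1) * T.card := by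
    have h1 := sq_sum_le_card_mul_sum_sq (s := (univ : Finset (Fin (l - 1))))
      (f := fun k => (univ.filter fun j : b => κ j = k).card)
    rw [← Finset.card_eq_sum_card_fiberwise (fun j _ => Finset.mem_univ (κ j)), Finset.card_univ,
      Finset.card_univ, Fintype.card_fin] at h1
    refine h1.trans (le_of_eq ?_)
    congr 1
    have h2 : T.card = ∑ k : Fin (l - 1), (T.filter fun p => κ p.1 = k).card :=
      Finset.card_eq_sum_card_fiberwise fun p _ => Finset.mem_univ _
    rw [h2]
    refine Finset.sum_congr rfl fun k _ => ?_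
    rw [sq, ← Finset.card_product]
    congr 1
    ext ⟨i, j⟩
    simp only [T, Finset.mem_product, Finset.mem_filter, Finset.mem_univ, true_and]
    constructor
    · rintro ⟨h1, h2⟩; exact ⟨h1.trans h2.symm, h1⟩
    · rintro ⟨h1, h2⟩; exact ⟨h2, h1.symm.trans h2⟩
  calc Module.finrank K V ^ 2 = Fintype.card b ^ 2 := by rw [Module.finrank_eq_card_basis B]
    _ ≤ (l - 1) * T.card := hsq
    _ ≤ _ := Nat.mul_le_mul_left _ hle

/-- The centraliser of `f` is no larger than the number of orbits on a spanning set. -/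
theorem finrank_commutant_le [FiniteDimensional K V] {Q : Type*} [Finite Q] {l : ℕ}
    (hlK : (l : K) ≠ 0) (f : Module.End K V) (hf : f ^ l = 1)
    (φ : Q → Module.End K V) (hspan : Submodule.span K (Set.range φ) = ⊤) (σ : Equiv.Perm Q)
    (hσ : ∀ q, ∃ c : K, f * φ q = c • (φ (σ q) * f)) (hc : ∀ q, ∀ c : K, f * φ q = c • (φ (σ q) * f) →
      c ≠ 0) :
    Module.finrank K (commutant f) ≤
      Nat.card (Quotient (MulAction.orbitRel (Subgroup.zpowers σ) Q)) := by
  classical
  have hl : l ≠ 0 := fun h => hlK (by simp [h])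
  let R : Q → Module.End K V := fun q => ∑ t ∈ range l, f ^ t * φ q * f ^ (l - t)
  have hR : ∀ q, ∃ c : K, R (σ q) = c • R q := by
    intro q
    obtain ⟨c, hcq⟩ := hσ q
    refine ⟨c⁻¹, ?_⟩
    have hc0 := hc q c hcq
    have h1 : φ (σ q) = c⁻¹ • (f * φ q * f ^ (l - 1)) := by
      rw [hcq, smul_mul_assoc, mul_assoc, ← pow_succ', Nat.sub_add_cancel (Nat.pos_of_ne_zero hl),
        hf, mul_one, smul_smul, inv_mul_cancel₀ hc0, one_smul]
    show ∑ t ∈ range l, f ^ t * φ (σ q) * f ^ (l - t) = c⁻¹ • ∑ t ∈ range l, f ^ t * φ q * f ^ (l - t)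
    rw [← sum_range_periodic (l := l) (fun t => f ^ t * φ q * f ^ (l - t)) (by simp [hf]),
      Finset.smul_sum]
    refine Finset.sum_congr rfl fun t ht => ?_
    rw [h1, mul_smul_comm, smul_mul_assoc]
    congr 1
    have htl := Finset.mem_range.1 ht
    rw [show f ^ t * (f * φ q * f ^ (l - 1)) * f ^ (l - t) = f ^ (t + 1) * φ q * (f ^ (l - 1) * f ^ (l - t))
      by simp [pow_succ, mul_assoc], ← pow_add,
      show l - 1 + (l - t) = l + (l - (t + 1)) by omega, pow_add f l, hf, one_mul]
  let W := Submodule.span K (Set.range fun o : Quotient (MulAction.orbitRel (Subgroup.zpowers σ) Q) =>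
    R o.out)
  have hRW : ∀ q, R q ∈ W := by
    intro q
    obtain ⟨⟨g, hg⟩, hgq⟩ : q ∈ MulAction.orbit (Subgroup.zpowers σ)
        (Quotient.mk'' q : Quotient (MulAction.orbitRel (Subgroup.zpowers σ) Q)).out := by
      have h := Quotient.mk_out' (s₁ := MulAction.orbitRel (Subgroup.zpowers σ) Q) q
      exact MulAction.orbitRel_apply.1 ((MulAction.orbitRel (Subgroup.zpowers σ) Q).symm h)
    obtain ⟨i, rfl⟩ := (mem_powers_iff_mem_zpowers).2 hg
    rw [← hgq]
    show R ((σ ^ i) _) ∈ W
    clear hgq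
    generalize hr : (Quotient.mk'' q : Quotient (MulAction.orbitRel (Subgroup.zpowers σ) Q)).out = r
    have hr0 : R r ∈ W := hr ▸ Submodule.subset_span ⟨_, rfl⟩
    clear hg
    induction i with
    | zero => simpa using hr0
    | succ i ih =>
      rw [pow_succ', Equiv.Perm.mul_apply]
      obtain ⟨c, hc'⟩ := hR ((σ ^ i) r)
      rw [hc']
      exact W.smul_mem c ih
  have hle : commutant f ≤ W := by
    intro y hy
    have hav : ∀ y, ∑ t ∈ range l, f ^ t * y * f ^ (l - t) ∈ W := by
      intro y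
      have hy : y ∈ Submodule.span K (Set.range φ) := by rw [hspan]; trivial
      induction hy using Submodule.span_induction with
      | mem y hy => obtain ⟨q, rfl⟩ := hy; exact hRW q
      | zero => simp
      | add y z _ _ hy hz => simpa [mul_add, add_mul, Finset.sum_add_distrib] using add_mem hy hz
      | smul c y _ hy =>
        simpa [mul_smul_comm, smul_mul_assoc, ← Finset.smul_sum] using W.smul_mem c hy
    have h := hav y
    have hcy : ∀ t, Commute (f ^ t) y := fun t => Commute.pow_left (mem_commutant.1 hy) t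
    have heq : ∀ t ∈ range l, f ^ t * y * f ^ (l - t) = y := fun t ht => by
      rw [(hcy t).eq, mul_assoc, ← pow_add,
        Nat.add_sub_cancel' (Finset.mem_range.1 ht).le, hf, mul_one]
    rw [Finset.sum_congr rfl heq, Finset.sum_const, Finset.card_range, ← Nat.cast_smul_eq_nsmul K]
      at h
    exact (Submodule.smul_mem_iff _ hlK).1 h
  haveI := Fintype.ofFinite (Quotient (MulAction.orbitRel (Subgroup.zpowers σ) Q))
  refine (Submodule.finrank_mono hle).trans ?_
  rw [Nat.card_eq_fintype_card]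
  exact finrank_range_le_card _

end Linear

/-- A free action of a group of prime order with one fixed point. -/
theorem orbit_count {Q : Type*} [Finite Q] {l : ℕ} (hl : l.Prime) (σ : Equiv.Perm Q)
    (hσ : σ ^ l = 1) (q0 : Q) (hfix : ∀ q, σ q = q ↔ q = q0) (hQ : 1 < Nat.card Q) :
    Nat.card (Quotient (MulAction.orbitRel (Subgroup.zpowers σ) Q)) * l =
      Nat.card Q + (l - 1) := by
  classical
  haveI : Fintype Q := Fintype.ofFinite Q
  haveI : Fintype (Subgroup.zpowers σ) := Fintype.ofFinite _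
  haveI : Fact l.Prime := ⟨hl⟩
  have hσ1 : σ ≠ 1 := by
    intro h
    obtain ⟨q, hq⟩ : ∃ q, q ≠ q0 := by
      by_contra! hh
      haveI : Subsingleton Q := ⟨fun a b => (hh a).trans (hh b).symm⟩
      rw [Nat.card_of_subsingleton q0] at hQ
      omega
    exact hq ((hfix q).1 (by rw [h]; rfl))
  have hord : orderOf σ = l := orderOf_eq_prime hσ hσ1
  haveI : Fintype (Quotient (MulAction.orbitRel (Subgroup.zpowers σ) Q)) := Fintype.ofFinite _
  have h := MulAction.sum_card_fixedBy_eq_card_orbits_mul_card_group (Subgroup.zpowers σ) Q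
  have hcard : Fintype.card (Subgroup.zpowers σ) = l := by
    rw [← Nat.card_eq_fintype_card, Nat.card_zpowers, hord]
  rw [hcard] at h
  rw [Nat.card_eq_fintype_card, ← h,
    ← Finset.sum_erase_add _ _ (Finset.mem_univ (1 : Subgroup.zpowers σ))]
  have h1 : Fintype.card (MulAction.fixedBy Q (1 : Subgroup.zpowers σ)) = Nat.card Q := by
    rw [Nat.card_eq_fintype_card]
    exact Fintype.card_congr ⟨fun q => q.1, fun q => ⟨q, one_smul _ q⟩, fun q => rfl, fun q => rfl⟩
  rw [h1, Finset.sum_eq_card_nsmul (b := 1), Finset.card_erase_of_mem (Finset.mem_univ _),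
    Finset.card_univ, hcard, smul_eq_mul, mul_one, add_comm]
  intro g hg
  have hg1 : (g : Equiv.Perm Q) ≠ 1 := fun e => (Finset.mem_erase.1 hg).1 (Subtype.ext e)
  rw [Fintype.card_eq_one_iff]
  have hq0 : σ q0 = q0 := (hfix q0).2 rfl
  have hgz : σ ∈ Subgroup.zpowers (g : Equiv.Perm Q) := by
    obtain ⟨i, hi⟩ := (mem_powers_iff_mem_zpowers).2 g.2
    have hi' : σ ^ i = (g : Equiv.Perm Q) := hi
    have hco : Nat.Coprime i (orderOf σ) := by
      rw [hord, Nat.coprime_comm, hl.coprime_iff_not_dvd]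
      exact fun hd => hg1 (by rw [← hi', orderOf_dvd_iff_pow_eq_one.1 (hord ▸ hd)])
    obtain ⟨m, hm⟩ := exists_pow_eq_self_of_coprime hco
    exact ⟨m, by show (g : Equiv.Perm Q) ^ (m : ℤ) = σ; rw [zpow_natCast, ← hi', hm]⟩
  refine ⟨⟨q0, ?_⟩, fun ⟨q, hq⟩ => Subtype.ext ?_⟩
  · obtain ⟨i, hi⟩ := g.2
    show (g : Equiv.Perm Q) q0 = q0
    rw [← hi]
    exact Equiv.Perm.zpow_apply_eq_self_of_apply_eq_self hq0 i
  · obtain ⟨i, hi⟩ := hgz
    refine (hfix q).1 ?_
    rw [← hi]
    exact Equiv.Perm.zpow_apply_eq_self_of_apply_eq_self hq i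

section Group

variable {M : Type*} [CommGroup M]

/-- An automorphism as an endomorphism of the additive group over `ZMod q`. -/
noncomputable def autLinear (q : ℕ) [Module (ZMod q) (Additive M)] :
    MulAut M →* Module.End (ZMod q) (Additive M) where
  toFun g := (MonoidHom.toAdditive g.toMonoidHom).toZModLinearMap q
  map_one' := rfl
  map_mul' _ _ := rfl

theorem autLinear_apply (q : ℕ) [Module (ZMod q) (Additive M)] (g : MulAut M) (m : M) :
    autLinear q g (Additive.ofMul m) = Additive.ofMul (g m) := rfl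

/-- The automorphism `x` fixes a non-trivial element. -/
theorem exists_fixed_point [Finite M] [Nontrivial M] {q s l : ℕ} (hq : q.Prime) (hs : s.Prime)
    (hl : l.Prime) (hs2 : s ≠ 2) (hsq : s ≠ q) (hlq : l ≠ q) (hM : ∀ m : M, m ^ q = 1)
    (a b x z : MulAut M) (hz : z = a * b * a⁻¹ * b⁻¹) (ha : a ^ s = 1) (hb : b ^ s = 1)
    (hza : Commute z a) (hzb : Commute z b) (hzx : Commute z x)
    (hzfix : ∀ m, z m = m → m = 1) (hx : x ^ l = 1)
    (hxa : x * a * x⁻¹ ∈ Subgroup.closure ({a, b} : Set (MulAut M)))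
    (hxb : x * b * x⁻¹ ∈ Subgroup.closure ({a, b} : Set (MulAut M)))
    (hfree : ∀ g ∈ Subgroup.closure ({a, b} : Set (MulAut M)),
      x * g * x⁻¹ * g⁻¹ ∈ Subgroup.zpowers z → g ∈ Subgroup.zpowers z)
    (hcyc : ∀ g ∈ Subgroup.closure ({a, b} : Set (MulAut M)), g ∉ Subgroup.zpowers z →
      ∀ m n : M, m ≠ 1 → g m = m → g n = n → n ∈ Subgroup.zpowers m) :
    ∃ m : M, m ≠ 1 ∧ x m = m := by
  classical
  haveI := Fact.mk hq
  haveI := Fact.mk hs
  haveI := Fact.mk hl
  letI : Module (ZMod q) (Additive M) :=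
    AddCommGroup.zmodModule (n := q) fun m => congrArg Additive.ofMul (hM (Additive.toMul m))
  haveI : Finite (Additive M) := Finite.of_equiv M Additive.ofMul
  haveI : FiniteDimensional (ZMod q) (Additive M) := Module.Finite.of_finite
  let ρ : MulAut M →* Module.End (ZMod q) (Additive M) := autLinear q
  have hsF : (s : ZMod q) ≠ 0 := fun h =>
    hsq ((Nat.prime_dvd_prime_iff_eq hq hs).1 ((CharP.cast_eq_zero_iff (ZMod q) q s).1 h)).symm
  -- the relations
  have hzmem : z ∈ Subgroup.closure ({a, b} : Set (MulAut M)) := by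
    have ha' : a ∈ Subgroup.closure ({a, b} : Set (MulAut M)) := Subgroup.subset_closure (by simp)
    have hb' : b ∈ Subgroup.closure ({a, b} : Set (MulAut M)) := Subgroup.subset_closure (by simp)
    rw [hz]
    exact mul_mem (mul_mem (mul_mem ha' hb') (inv_mem ha')) (inv_mem hb')
  have hab : a * b = z * (b * a) := by rw [hz]; group
  have habi : ∀ i : ℕ, a * b ^ i = z ^ i * (b ^ i * a) := by
    intro i
    induction i with
    | zero => simp
    | succ i ih =>
      calc a * b ^ (i + 1) = a * b ^ i * b := by rw [pow_succ, mul_assoc]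
        _ = z ^ i * (b ^ i * (a * b)) := by rw [ih]; simp only [mul_assoc]
        _ = z ^ i * (b ^ i * z * (b * a)) := by rw [hab]; simp only [mul_assoc]
        _ = z ^ i * (z * b ^ i * (b * a)) := by rw [(hzb.pow_right i).eq]
        _ = z ^ (i + 1) * (b ^ (i + 1) * a) := by simp only [pow_succ, mul_assoc]
  have hzs : z ^ s = 1 := by
    have h := habi s
    rw [hb, mul_one, one_mul] at h
    exact mul_right_cancel (h.symm.trans (one_mul a).symm)
  obtain ⟨m₁, hm₁⟩ := exists_ne (1 : M)
  have hz1 : z ≠ 1 := fun h => hm₁ (hzfix m₁ (by rw [h]; rfl))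
  have hzord : orderOf z = s := orderOf_eq_prime hzs hz1
  have hanz : a ∉ Subgroup.zpowers z := by
    intro h
    obtain ⟨i, hi⟩ := h
    have hcab : Commute a b := by rw [← hi]; exact hzb.zpow_left i
    exact hz1 (by rw [hz, hcab.eq]; group)
  -- on the vector space
  set A := ρ a with hA
  set B := ρ b with hB
  set Z := ρ z with hZ
  have hBs : B ^ s = 1 := by rw [hB, ← map_pow, hb, map_one]
  have hZs : Z ^ s = 1 := by rw [hZ, ← map_pow, hzs, map_one]
  have hABi : ∀ i v, A ((B ^ i) v) = (Z ^ i) ((B ^ i) (A v)) := by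
    intro i v
    have h := congrArg (fun g => ρ g v) (habi i)
    simpa only [map_mul, map_pow, Module.End.mul_apply] using h
  have hZB : ∀ i j v, (Z ^ i) ((B ^ j) v) = (B ^ j) ((Z ^ i) v) := by
    intro i j v
    have h := congrArg (fun g => ρ g v) ((hzb.pow_pow i j).eq)
    simpa only [map_mul, map_pow, Module.End.mul_apply] using h
  have hBback : ∀ i, i ≤ s → ∀ v, (B ^ (s - i)) ((B ^ i) v) = v := by
    intro i hi v
    rw [← Module.End.mul_apply, ← pow_add, Nat.sub_add_cancel hi, hBs, Module.End.one_apply]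
  have hZfix : ∀ i, 0 < i → i < s → ∀ v, (Z ^ i) v = v → v = 0 := by
    intro i hi0 his v hv
    have hco : Nat.Coprime i (orderOf z) := by
      rw [hzord, Nat.coprime_comm, hs.coprime_iff_not_dvd]
      exact fun h => absurd (Nat.le_of_dvd hi0 h) (by omega)
    obtain ⟨m, hm⟩ := exists_pow_eq_self_of_coprime hco
    have hit : ∀ k, ((Z ^ i) ^ k) v = v := by
      intro k
      induction k with
      | zero => rfl
      | succ k ih => rw [pow_succ, Module.End.mul_apply, hv, ih]
    have h1 : Z v = v := by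
      have := hit m
      rwa [hZ, ← map_pow, ← map_pow, hm] at this
    obtain ⟨m, rfl⟩ := Additive.ofMul.surjective v
    have h2 : z m = m := Additive.ofMul.injective (by
      rw [← autLinear_apply q z m]; exact h1)
    exact congrArg Additive.ofMul (hzfix m h2)
  -- the fixed points of the conjugates of `a` span
  let N : ℕ → Additive M → Additive M := fun t v => ∑ i ∈ range s, ((A * Z ^ t) ^ i) v
  have hN : ∀ t v, A ((B ^ t) (N t v)) = (B ^ t) (N t v) := by
    intro t v
    have hper : (A * Z ^ t) (N t v) = N t v := by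
      show (A * Z ^ t) (∑ i ∈ range s, ((A * Z ^ t) ^ i) v) = _
      rw [map_sum]
      refine Eq.trans (Finset.sum_congr rfl fun i _ => ?_)
        (sum_range_periodic (l := s) (fun i => ((A * Z ^ t) ^ i) v) ?_)
      · simp only [pow_succ', Module.End.mul_apply]
      · have : (a * z ^ t) ^ s = 1 := by
          rw [(hza.symm.pow_right t).mul_pow, ha, ← pow_mul, mul_comm, pow_mul, hzs, one_pow, one_mul]
        show ((A * Z ^ t) ^ s) v = ((A * Z ^ t) ^ 0) v
        rw [hA, hZ, ← map_pow, ← map_mul, ← map_pow, this, map_one, pow_zero]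
    have h1 : A ((Z ^ t) (N t v)) = (Z ^ t) (A (N t v)) := by
      have h := congrArg (fun g => ρ g (N t v)) ((hza.symm.pow_right t).eq)
      simpa only [map_mul, map_pow, Module.End.mul_apply] using h
    rw [hABi, hZB, ← h1]
    exact congrArg (B ^ t) hper
  have hsum : ∀ v, ∑ t ∈ range s, N t v = (s : ZMod q) • v := by
    intro v
    show ∑ t ∈ range s, ∑ i ∈ range s, ((A * Z ^ t) ^ i) v = _
    rw [Finset.sum_comm, Finset.sum_eq_single 0]
    · simp [Nat.cast_smul_eq_nsmul]
    · intro i hi hi0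
      have h : ∀ t, ((A * Z ^ t) ^ i) v = (A ^ i) (((Z ^ i) ^ t) v) := by
        intro t
        have hc : Commute A (Z ^ t) := by
          rw [hA, hZ, ← map_pow]
          exact (hza.symm.pow_right t).map ρ
        rw [hc.mul_pow, Module.End.mul_apply, ← pow_mul, ← pow_mul, mul_comm t i]
      rw [Finset.sum_congr rfl fun t _ => h t, ← map_sum]
      have h0 : ∑ t ∈ range s, ((Z ^ i) ^ t) v = 0 := by
        refine hZfix i (Nat.pos_of_ne_zero hi0) (Finset.mem_range.1 hi) _ ?_
        rw [map_sum]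
        refine Eq.trans (Finset.sum_congr rfl fun t _ => ?_)
          (sum_range_periodic (l := s) (fun t => ((Z ^ i) ^ t) v) ?_)
        · rw [pow_succ', Module.End.mul_apply]
        · show ((Z ^ i) ^ s) v = ((Z ^ i) ^ 0) v
          rw [← pow_mul, mul_comm, pow_mul, hZs, one_pow, pow_zero]
      rw [h0, map_zero]
    · intro h
      exact absurd (Finset.mem_range.2 hs.pos) h
  obtain ⟨v₀, hv0, hAv0⟩ : ∃ v₀ : Additive M, v₀ ≠ 0 ∧ A v₀ = v₀ := by
    by_contra! hno
    have hzero : ∀ t ∈ range s, N t (Additive.ofMul m₁) = 0 := by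
      intro t ht
      by_contra h
      refine hno ((B ^ t) (N t (Additive.ofMul m₁))) (fun h0 => h ?_) (hN t _)
      rw [← hBback t (Finset.mem_range.1 ht).le (N t (Additive.ofMul m₁)), h0, map_zero]
    have h := hsum (Additive.ofMul m₁)
    rw [Finset.sum_eq_zero hzero, eq_comm, smul_eq_zero] at h
    exact hm₁ (Additive.ofMul.injective (h.resolve_left hsF))
  have hline : ∀ v, A v = v → ∃ c : ZMod q, v = c • v₀ := by
    intro v hv
    obtain ⟨n, rfl⟩ := Additive.ofMul.surjective v
    obtain ⟨m, rfl⟩ := Additive.ofMul.surjective v₀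
    have h1 : a m = m := Additive.ofMul.injective (by rw [← autLinear_apply q a m]; exact hAv0)
    have h2 : a n = n := Additive.ofMul.injective (by rw [← autLinear_apply q a n]; exact hv)
    obtain ⟨k, hk⟩ := hcyc a (Subgroup.subset_closure (by simp)) hanz m n
      (fun e => hv0 (by rw [e]; rfl)) h1 h2
    refine ⟨(k : ZMod q), ?_⟩
    rw [Int.cast_smul_eq_zsmul, ← ofMul_zpow]
    exact congrArg Additive.ofMul hk.symm
  obtain ⟨c, hc⟩ := hline (Z v₀) (by
    have h := congrArg (fun g => ρ g v₀) hza.eq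
    simp only [map_mul, Module.End.mul_apply] at h
    rw [← hA, ← hZ, hAv0] at h
    exact h.symm)
  have hZi : ∀ i : ℕ, (Z ^ i) v₀ = c ^ i • v₀ := by
    intro i
    induction i with
    | zero => simp
    | succ i ih =>
      rw [pow_succ', Module.End.mul_apply, ih, map_smul, hc, smul_smul, ← pow_succ]
  have hcs : c ^ s = 1 := smul_left_injective (ZMod q) hv0 (by
    show c ^ s • v₀ = (1 : ZMod q) • v₀
    rw [← hZi, hZs, one_smul, Module.End.one_apply])
  have hc1 : c ≠ 1 := by
    intro h
    refine hv0 (hZfix 1 one_pos hs.one_lt v₀ ?_)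
    rw [pow_one, hc, h, one_smul]
  have hcord : orderOf c = s := orderOf_eq_prime hcs hc1
  let w : Fin s → Additive M := fun i => (B ^ (i : ℕ)) v₀
  have hAw : ∀ i : Fin s, A (w i) = c ^ (i : ℕ) • w i := by
    intro i
    show A ((B ^ (i : ℕ)) v₀) = _
    rw [hABi, hAv0, hZB, hZi, map_smul]
  have hwne : ∀ i, w i ≠ 0 := by
    intro i h
    refine hv0 ?_
    rw [← hBback i i.2.le v₀]
    show (B ^ (s - (i : ℕ))) (w i) = 0
    rw [h, map_zero]
  have hwmod : ∀ j : ℕ, (B ^ j) v₀ = w ⟨j % s, Nat.mod_lt _ hs.pos⟩ := by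
    intro j
    show (B ^ j) v₀ = (B ^ (j % s)) v₀
    rw [← pow_eq_pow_mod j hBs]
  have hli : LinearIndependent (ZMod q) w := by
    refine Module.End.eigenvectors_linearIndependent' A (fun i : Fin s => c ^ (i : ℕ)) ?_ w
      fun i => Module.End.hasEigenvector_iff.2 ⟨Module.End.mem_eigenspace_iff.2 (hAw i), hwne i⟩
    intro i j hij
    refine Fin.ext (pow_injOn_Iio_orderOf (x := c) ?_ ?_ hij)
    · show (i : ℕ) < orderOf c
      rw [hcord]; exact i.2
    · show (j : ℕ) < orderOf c
      rw [hcord]; exact j.2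
  have hsp : ⊤ ≤ Submodule.span (ZMod q) (Set.range w) := by
    rintro v -
    refine (Submodule.smul_mem_iff _ hsF).1 ?_
    rw [← hsum v]
    refine Submodule.sum_mem _ fun t ht => ?_
    obtain ⟨d, hd⟩ := hline _ (hN t v)
    have ht' := (Finset.mem_range.1 ht).le
    rw [← hBback t ht' (N t v), hd, map_smul, hwmod]
    exact Submodule.smul_mem _ _ (Submodule.subset_span ⟨_, rfl⟩)
  let Bw : Module.Basis (Fin s) (ZMod q) (Additive M) := Module.Basis.mk hli hsp
  have hBw : ∀ i, Bw i = w i := fun i => Module.Basis.mk_apply _ _ i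
  have hZc : Z = c • (1 : Module.End (ZMod q) (Additive M)) := by
    refine Bw.ext fun i => ?_
    rw [hBw]
    show Z ((B ^ (i : ℕ)) v₀) = c • (B ^ (i : ℕ)) v₀
    have h := hZB 1 i v₀
    rw [pow_one] at h
    rw [h, hc, map_smul]
  -- extend the scalars
  let K := AlgebraicClosure (ZMod q)
  let Φ : Module.End (ZMod q) (Additive M) →+* Module.End K (Fin s → K) :=
    ((Matrix.toLinAlgEquiv' : Matrix (Fin s) (Fin s) K ≃ₐ[K] _).toRingEquiv.toRingHom.comp
      ((algebraMap (ZMod q) K).mapMatrix)).comp (LinearMap.toMatrixAlgEquiv Bw).toRingEquiv.toRingHom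
  let ψ : MulAut M →* Module.End K (Fin s → K) := Φ.toMonoidHom.comp ρ
  have hΦ : ∀ e, Φ e = Matrix.toLinAlgEquiv'
      ((LinearMap.toMatrixAlgEquiv Bw e).map (algebraMap (ZMod q) K)) := fun e => rfl
  have hΦsmul : ∀ (d : ZMod q) e, Φ (d • e) = algebraMap (ZMod q) K d • Φ e := by
    intro d e
    have h : ∀ T : Matrix (Fin s) (Fin s) (ZMod q), (d • T).map (algebraMap (ZMod q) K) =
        algebraMap (ZMod q) K d • T.map (algebraMap (ZMod q) K) := fun T => by
      ext i j
      simp [Matrix.map_apply, smul_eq_mul]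
    rw [hΦ, hΦ, map_smul (LinearMap.toMatrixAlgEquiv Bw), h, map_smul]
  have hψz : ψ z = algebraMap (ZMod q) K c • 1 := by
    show Φ Z = _
    rw [hZc, hΦsmul, map_one]
  have hc0K : algebraMap (ZMod q) K c ≠ 0 := by
    rw [ne_eq, map_eq_zero]
    intro h
    rw [h, zero_pow hs.pos.ne'] at hcs
    exact zero_ne_one hcs
  haveI : Nonempty (Fin s) := ⟨⟨0, hs.pos⟩⟩
  haveI : Nontrivial (Module.End K (Fin s → K)) := inferInstance
  have hψne : ∀ g, ψ g ≠ 0 := by
    intro g h
    have h1 : ψ g * ψ g⁻¹ = 1 := by rw [← map_mul, mul_inv_cancel, map_one]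
    rw [h, zero_mul] at h1
    exact zero_ne_one h1
  -- the orbits
  let S := Subgroup.closure ({a, b} : Set (MulAut M))
  have haS : a ∈ S := Subgroup.subset_closure (by simp)
  have hbS : b ∈ S := Subgroup.subset_closure (by simp)
  let Zs : Subgroup S := (Subgroup.zpowers z).subgroupOf S
  have hSz : ∀ g ∈ S, Commute g z := by
    intro g hg
    have : S ≤ Subgroup.centralizer ({z} : Set (MulAut M)) := by
      refine (Subgroup.closure_le _).2 ?_
      rintro g (rfl | rfl)
      · exact Subgroup.mem_centralizer_singleton_iff.2 hza.eq.symm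
      · exact Subgroup.mem_centralizer_singleton_iff.2 hzb.eq.symm
    exact Subgroup.mem_centralizer_singleton_iff.1 (this hg)
  haveI : Zs.Normal := ⟨fun n hn g => by
    have h : (g : MulAut M) * n * (g : MulAut M)⁻¹ = n := by
      obtain ⟨i, hi⟩ := hn
      have hi' : z ^ i = (n : MulAut M) := hi
      rw [← hi', ((hSz g g.2).zpow_right i).eq, mul_inv_cancel_right]
    rwa [show g * n * g⁻¹ = n from Subtype.ext (by simpa using h)]⟩
  have hconj : ∀ g ∈ S, x * g * x⁻¹ ∈ S := by
    intro g hg
    have : S ≤ S.comap (MulAut.conj x).toMonoidHom := by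
      refine (Subgroup.closure_le _).2 ?_
      rintro g (rfl | rfl)
      · exact hxa
      · exact hxb
    exact this hg
  let cS : S →* S :=
    { toFun := fun g => ⟨x * g * x⁻¹, hconj g g.2⟩
      map_one' := Subtype.ext (by simp)
      map_mul' := fun g h => Subtype.ext (by simp [mul_assoc]) }
  let σ₀ : S ⧸ Zs →* S ⧸ Zs := QuotientGroup.map Zs Zs cS (fun g hg => by
    obtain ⟨i, hi⟩ := hg
    have hi' : z ^ i = (g : MulAut M) := hi
    refine ⟨i, ?_⟩
    show z ^ i = x * (g : MulAut M) * x⁻¹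
    rw [← hi', (hzx.zpow_left i).symm.eq, mul_inv_cancel_right])
  have hσ₀ : Function.Injective σ₀ := by
    rw [injective_iff_map_eq_one]
    intro g
    induction g using QuotientGroup.induction_on with | H g => ?_
    intro h
    rw [QuotientGroup.map_mk, QuotientGroup.eq_one_iff] at h
    obtain ⟨i, hi⟩ := h
    have hi' : z ^ i = x * (g : MulAut M) * x⁻¹ := hi
    refine (QuotientGroup.eq_one_iff _).2 ⟨i, ?_⟩
    show z ^ i = (g : MulAut M)
    calc z ^ i = x⁻¹ * z ^ i * x := by
          rw [mul_assoc, (hzx.zpow_left i).eq, inv_mul_cancel_left]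
      _ = (g : MulAut M) := by rw [hi']; group
  let σ : Equiv.Perm (S ⧸ Zs) := Equiv.ofBijective σ₀ (Finite.injective_iff_bijective.1 hσ₀)
  have hσapp : ∀ g : S, σ (QuotientGroup.mk g) = QuotientGroup.mk (cS g) := fun g => rfl
  have hpow : ∀ (i : ℕ) (g : S), ∃ g' : S, (g' : MulAut M) = x ^ i * g * (x ^ i)⁻¹ ∧
      (σ ^ i) (QuotientGroup.mk g) = QuotientGroup.mk g' := by
    intro i g
    induction i with
    | zero => exact ⟨g, by simp, rfl⟩
    | succ i ih =>
      obtain ⟨g', h1, h2⟩ := ih
      refine ⟨cS g', ?_, ?_⟩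
      · show x * (g' : MulAut M) * x⁻¹ = _
        rw [h1, pow_succ']
        group
      · rw [pow_succ', Equiv.Perm.mul_apply, h2, hσapp]
  have hσl : σ ^ l = 1 := by
    refine Equiv.ext fun q' => ?_
    induction q' using QuotientGroup.induction_on with | H g => ?_
    obtain ⟨g', h1, h2⟩ := hpow l g
    rw [h2]
    rw [hx, one_mul, inv_one, mul_one] at h1
    rw [Subtype.ext h1]
    rfl
  have hσfix : ∀ q', σ q' = q' ↔ q' = 1 := by
    intro q'
    refine ⟨?_, fun h => by rw [h]; exact map_one σ₀⟩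
    induction q' using QuotientGroup.induction_on with | H g => ?_
    intro h
    rw [hσapp, QuotientGroup.eq] at h
    refine (QuotientGroup.eq_one_iff _).2 (hfree g g.2 ?_)
    have h' : (x * (g : MulAut M) * x⁻¹)⁻¹ * g ∈ Subgroup.zpowers z := h
    have h'' := Subgroup.inv_mem _ h'
    obtain ⟨i, hi⟩ := h''
    refine ⟨i, ?_⟩
    show z ^ i = _
    have hi' : z ^ i = ((x * (g : MulAut M) * x⁻¹)⁻¹ * g)⁻¹ := hi
    calc z ^ i = (g : MulAut M) * z ^ i * (g : MulAut M)⁻¹ := by
          rw [((hSz g g.2).zpow_right i).eq, mul_inv_cancel_right]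
      _ = _ := by rw [hi']; group
  let φ : S ⧸ Zs → Module.End K (Fin s → K) := fun q' => ψ (q'.out : S)
  have hscal : ∀ g : S, ∃ d : K, d ≠ 0 ∧ ψ g = d • φ (QuotientGroup.mk g) := by
    intro g
    have h : (QuotientGroup.mk g : S ⧸ Zs).out⁻¹ * g ∈ Zs :=
      QuotientGroup.eq.1 (QuotientGroup.out_eq' _)
    obtain ⟨i, hi⟩ := mem_powers_iff_mem_zpowers.2 (show _ ∈ Subgroup.zpowers z from h)
    have hi' : z ^ i = ((QuotientGroup.mk g : S ⧸ Zs).out : MulAut M)⁻¹ * g := hi
    refine ⟨algebraMap (ZMod q) K c ^ i, pow_ne_zero _ hc0K, ?_⟩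
    show ψ g = _ • ψ ((QuotientGroup.mk g : S ⧸ Zs).out : S)
    conv_lhs => rw [← mul_inv_cancel_left ((QuotientGroup.mk g : S ⧸ Zs).out : MulAut M) (g : MulAut M),
      ← hi', map_mul, map_pow, hψz, smul_pow, one_pow, mul_smul_comm, mul_one]
  have hφspan : Submodule.span K (Set.range φ) = ⊤ := by
    rw [eq_top_iff]
    rintro e -
    have hψmem : ∀ g ∈ S, ψ g ∈ Submodule.span K (Set.range φ) := fun g hg => by
      obtain ⟨d, -, hd⟩ := hscal ⟨g, hg⟩
      rw [show ψ g = d • φ _ from hd]
      exact Submodule.smul_mem _ _ (Submodule.subset_span ⟨_, rfl⟩)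
    have hunit : ∀ k k' : Fin s, (Matrix.toLinAlgEquiv' (Matrix.single k k' (1 : K))) ∈
        Submodule.span K (Set.range φ) := by
      intro k k'
      let E : Module.End (ZMod q) (Additive M) :=
        (s : ZMod q)⁻¹ • ∑ t ∈ range s, B ^ (k : ℕ) * A ^ t * B ^ (s - (k' : ℕ))
      have hAt : ∀ (t : ℕ) (n : Fin s), (A ^ t) (w n) = (c ^ (n : ℕ)) ^ t • w n := by
        intro t n
        induction t with
        | zero => simp
        | succ t ih => rw [pow_succ', Module.End.mul_apply, ih, map_smul, hAw, smul_smul, ← pow_succ]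
      have hE : LinearMap.toMatrixAlgEquiv Bw E = Matrix.single k k' 1 := by
        ext i j
        rw [LinearMap.toMatrixAlgEquiv_apply]
        have hEj : E (Bw j) = if j = k' then Bw k else 0 := by
          rw [hBw, hBw]
          simp only [E, LinearMap.smul_apply, LinearMap.sum_apply, Module.End.mul_apply]
          have hj : (B ^ (s - (k' : ℕ))) (w j) = w ⟨(s - k' + j) % s, Nat.mod_lt _ hs.pos⟩ := by
            rw [← hwmod, pow_add, Module.End.mul_apply]
          simp only [hj, hAt, map_smul, ← Finset.sum_smul, smul_smul]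
          have hk' := k'.2
          have hj2 := j.2
          by_cases h : j = k'
          · subst h
            have h0 : (s - (j : ℕ) + j) % s = 0 := by
              rw [Nat.sub_add_cancel hj2.le, Nat.mod_self]
            simp only [h0, pow_zero, one_pow, Finset.sum_const, Finset.card_range, nsmul_eq_mul,
              mul_one, inv_mul_cancel₀ hsF, one_smul, if_true]
            show (B ^ (k : ℕ)) ((B ^ 0) v₀) = _
            rw [pow_zero, Module.End.one_apply]
          · rw [if_neg h]
            have hne : c ^ ((s - (k' : ℕ) + j) % s) ≠ 1 := by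
              rw [ne_eq, ← orderOf_dvd_iff_pow_eq_one, hcord]
              intro hd
              have h0 := Nat.eq_zero_of_dvd_of_lt hd (Nat.mod_lt _ hs.pos)
              obtain ⟨e, he⟩ := Nat.dvd_of_mod_eq_zero h0
              rcases e with _ | _ | e
              · omega
              · exact h (Fin.ext (by omega))
              · nlinarith [Nat.sub_le s (k' : ℕ)]
            rw [geom_sum_eq hne, ← pow_mul, mul_comm _ s, pow_mul, hcs, one_pow, sub_self, zero_div,
              mul_zero, zero_smul]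
        rw [hEj]
        by_cases h : j = k'
        · simp [h, Matrix.single_apply, Finsupp.single_apply, eq_comm]
        · simp [h, Matrix.single_apply, Ne.symm h]
      have hEmem : Φ E ∈ Submodule.span K (Set.range φ) := by
        rw [hΦsmul, map_sum]
        refine Submodule.smul_mem _ _ (Submodule.sum_mem _ fun t _ => ?_)
        have : Φ (B ^ (k : ℕ) * A ^ t * B ^ (s - (k' : ℕ))) =
            ψ (b ^ (k : ℕ) * a ^ t * b ^ (s - (k' : ℕ))) := by
          show _ = Φ (ρ _)
          simp only [map_mul, map_pow, hA, hB]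
        rw [this]
        exact hψmem _ (mul_mem (mul_mem (pow_mem hbS _) (pow_mem haS _)) (pow_mem hbS _))
      rw [hΦ, hE] at hEmem
      convert hEmem using 2
      ext i j
      simp [Matrix.single_apply, apply_ite (algebraMap (ZMod q) K)]
    obtain ⟨T, rfl⟩ := (Matrix.toLinAlgEquiv' : Matrix (Fin s) (Fin s) K ≃ₐ[K] _).surjective e
    rw [Matrix.matrix_eq_sum_single T, map_sum]
    refine Submodule.sum_mem _ fun i _ => ?_
    rw [map_sum]
    refine Submodule.sum_mem _ fun j _ => ?_
    rw [show Matrix.single i j (T i j) = T i j • Matrix.single i j (1 : K) by simp [Matrix.smul_single],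
      map_smul]
    exact Submodule.smul_mem _ _ (hunit i j)
  have hQ : Nat.card (S ⧸ Zs) ≤ s ^ 2 := by
    set a' : S ⧸ Zs := QuotientGroup.mk ⟨a, haS⟩ with ha'
    set b' : S ⧸ Zs := QuotientGroup.mk ⟨b, hbS⟩ with hb'
    have hcm : Commute a' b' := by
      show a' * b' = b' * a'
      rw [ha', hb', ← QuotientGroup.mk_mul, ← QuotientGroup.mk_mul, eq_comm, QuotientGroup.eq]
      refine ⟨1, ?_⟩
      show z ^ (1 : ℤ) = (b * a)⁻¹ * (a * b)
      rw [zpow_one, hab, ← mul_assoc, ← ((hzb.mul_right hza).inv_right).eq, mul_assoc,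
        inv_mul_cancel, mul_one]
    have ha'' : a' ^ s = 1 := by
      rw [ha', ← QuotientGroup.mk_pow]
      exact (QuotientGroup.eq_one_iff _).2 (by simp [Zs, Subgroup.mem_subgroupOf, ha])
    have hb'' : b' ^ s = 1 := by
      rw [hb', ← QuotientGroup.mk_pow]
      exact (QuotientGroup.eq_one_iff _).2 (by simp [Zs, Subgroup.mem_subgroupOf, hb])
    have key : ∀ g (hg : g ∈ S), ∃ i j : ℤ, (QuotientGroup.mk ⟨g, hg⟩ : S ⧸ Zs) = a' ^ i * b' ^ j := by
      intro g hg
      induction hg using Subgroup.closure_induction with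
      | mem g hg =>
        rcases hg with rfl | rfl
        · exact ⟨1, 0, by simp [ha']⟩
        · exact ⟨0, 1, by simp [hb']⟩
      | one => exact ⟨0, 0, by rw [zpow_zero, zpow_zero, mul_one]; rfl⟩
      | mul g h hg hh ih1 ih2 =>
        obtain ⟨i, j, h1⟩ := ih1
        obtain ⟨i', j', h2⟩ := ih2
        refine ⟨i + i', j + j', ?_⟩
        rw [show (⟨g * h, mul_mem hg hh⟩ : S) = ⟨g, hg⟩ * ⟨h, hh⟩ from rfl, QuotientGroup.mk_mul,
          h1, h2, zpow_add, zpow_add, (hcm.symm.zpow_zpow j i').mul_mul_mul_comm]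
      | inv g hg ih =>
        obtain ⟨i, j, h1⟩ := ih
        refine ⟨-i, -j, ?_⟩
        rw [show (⟨g⁻¹, inv_mem hg⟩ : S) = ⟨g, hg⟩⁻¹ from rfl, QuotientGroup.mk_inv, h1,
          mul_inv_rev, zpow_neg, zpow_neg, ((hcm.symm.zpow_zpow j i).inv_inv).eq]
    have hsurj : Function.Surjective
        fun p : Fin s × Fin s => a' ^ (p.1 : ℕ) * b' ^ (p.2 : ℕ) := by
      intro q'
      induction q' using QuotientGroup.induction_on with | H g => ?_
      obtain ⟨i, j, h⟩ := key g.1 g.2
      obtain ⟨i', hi'⟩ := mem_powers_iff_mem_zpowers.2 (⟨i, rfl⟩ : a' ^ i ∈ Subgroup.zpowers a')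
      obtain ⟨j', hj'⟩ := mem_powers_iff_mem_zpowers.2 (⟨j, rfl⟩ : b' ^ j ∈ Subgroup.zpowers b')
      refine ⟨(⟨i' % s, Nat.mod_lt _ hs.pos⟩, ⟨j' % s, Nat.mod_lt _ hs.pos⟩), ?_⟩
      show a' ^ (i' % s) * b' ^ (j' % s) = _
      rw [← pow_eq_pow_mod i' ha'', ← pow_eq_pow_mod j' hb'']
      exact (congrArg₂ (· * ·) hi' hj').trans h.symm
    have := Nat.card_le_card_of_surjective _ hsurj
    simpa [Nat.card_prod, sq] using this
  -- counting
  by_contra! hno
  set f := ψ x with hf
  have hfl : f ^ l = 1 := by rw [hf, ← map_pow, hx, map_one]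
  have hlK : (l : K) ≠ 0 := by
    intro h
    rw [← map_natCast (algebraMap (ZMod q) K), map_eq_zero] at h
    exact hlq ((Nat.prime_dvd_prime_iff_eq hq hl).1 ((CharP.cast_eq_zero_iff (ZMod q) q l).1 h)).symm
  have hffix : ∀ v, f v = v → v = 0 := by
    have hunit : IsUnit (ρ x - 1) := by
      rw [Module.End.isUnit_iff]
      have hinj : Function.Injective ⇑(ρ x - 1) := by
        rw [← LinearMap.ker_eq_bot, LinearMap.ker_eq_bot']
        intro v hv
        obtain ⟨m, rfl⟩ := Additive.ofMul.surjective v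
        rw [LinearMap.sub_apply, Module.End.one_apply, sub_eq_zero] at hv
        by_contra hm
        exact hno m (fun e => hm (by rw [e]; rfl))
          (Additive.ofMul.injective ((autLinear_apply q x m).symm.trans hv))
      exact ⟨hinj, LinearMap.injective_iff_surjective.1 hinj⟩
    have h := hunit.map Φ
    rw [map_sub, map_one, Module.End.isUnit_iff] at h
    intro v hv
    refine h.1 ?_
    rw [map_zero, LinearMap.sub_apply, Module.End.one_apply]
    exact sub_eq_zero.2 hv
  have hσ : ∀ q', ∃ d : K, f * φ q' = d • (φ (σ q') * f) := by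
    intro q'
    obtain ⟨d, -, hd⟩ := hscal (cS q'.out)
    refine ⟨d, ?_⟩
    have h2 : σ q' = QuotientGroup.mk (cS q'.out) := by
      conv_lhs => rw [← QuotientGroup.out_eq' q', hσapp]
    rw [h2, ← smul_mul_assoc, ← hd, hf, ← map_mul, ← map_mul]
    show ψ _ = ψ (x * (q'.out : MulAut M) * x⁻¹ * x)
    rw [inv_mul_cancel_right]
  have hup := finrank_commutant_le hlK f hfl φ hφspan σ hσ (fun q' d hd h0 => by
    rw [h0, zero_smul, hf, ← map_mul] at hd
    exact hψne _ hd)
  have hlow := sq_finrank_le_commutant hl.ne_zero hlK f hfl hffix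
  rw [Module.finrank_fin_fun] at hlow
  haveI := Fintype.ofFinite (S ⧸ Zs)
  have hQ' : s ^ 2 ≤ Nat.card (S ⧸ Zs) := by
    have h := finrank_range_le_card (R := K) φ
    rw [Set.finrank, hφspan, finrank_top, Module.finrank_linearMap, Module.finrank_fin_fun] at h
    rw [Nat.card_eq_fintype_card, sq]
    exact h
  have hcard : Nat.card (S ⧸ Zs) = s ^ 2 := le_antisymm hQ hQ'
  have horb := orbit_count hl σ hσl 1 hσfix (by
    rw [hcard]; have := hs.one_lt; nlinarith)
  rw [hcard] at horb
  set orb := Nat.card (Quotient (MulAction.orbitRel (Subgroup.zpowers σ) (S ⧸ Zs))) with horbdef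
  have h1 : s ^ 2 ≤ (l - 1) * orb := hlow.trans (Nat.mul_le_mul_left _ hup)
  obtain ⟨L, rfl⟩ : ∃ L, l = L + 1 := ⟨l - 1, (Nat.succ_pred_eq_of_pos hl.pos).symm⟩
  rw [Nat.add_sub_cancel] at h1 horb
  have h2 : s ^ 2 ≤ L ^ 2 := by nlinarith
  have h3 : s ≤ L := by nlinarith
  obtain ⟨u, rfl⟩ : ∃ u, s = u + 1 := ⟨s - 1, (Nat.succ_pred_eq_of_pos hs.pos).symm⟩
  have hu1 : 1 ≤ u := by have := hs.two_le; omega
  obtain ⟨o, ho⟩ : ∃ o, orb = o + 1 := ⟨orb - 1, by
    rcases Nat.eq_zero_or_pos orb with h | h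
    · rw [h] at h1; nlinarith
    · omega⟩
  have hd : L + 1 ∣ u * (u + 2) := ⟨o, by rw [ho] at horb; nlinarith⟩
  rcases hl.dvd_mul.1 hd with h | h
  · have := Nat.le_of_dvd (by omega) h; omega
  · have h4 := Nat.le_of_dvd (by omega) h
    have h5 : L + 1 = u + 1 + 1 := by omega
    rcases hs.eq_two_or_odd with h6 | h6
    · exact hs2 h6
    · rcases hl.eq_two_or_odd with h7 | h7 <;> omega

end Group

end CfsgLib.LocalEven.BenderSplit
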