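import Cfsg.Agent.Lib.LocalEven.BenderSplit.RankOne

/-!
# Fixed points of `r`-subgroups for `r` dividing the number of involutions at a point

A nontrivial `r`-subgroup fixing two points has centraliser of odd order and fixes no third point, or
its fixed points form one orbit of its centraliser, with two commuting involutions at each.
-/

set_option autoImplicit false
set_option linter.style.haveILetI false

namespace CfsgLib.LocalEven.BenderSplit

open Subgroup MulAction CfsgLib.Involution.Dihedral CfsgLib.Involution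
  CfsgLib.LocalEven.BenderTransitive CfsgLib.LocalEven.SwapInjective CfsgLib.LocalEven.StrongCore
open scoped commutatorElement

universe u

variable {G : Type u} [Group G] {H : Subgroup G}

theorem centralizer_le_of_le {X R : Subgroup G} (h : X ≤ R) :
    centralizer (R : Set G) ≤ centralizer (X : Set G) := centralizer_le h

theorem conj_mem_centralizer_of_normalizer {X : Subgroup G} {n c : G}
    (hn : n ∈ normalizer (X : Set G)) (hc : c ∈ centralizer (X : Set G)) :
    n * c * n⁻¹ ∈ centralizer (X : Set G) := by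
  refine mem_centralizer_iff.2 fun x hx => ?_
  have h := mem_centralizer_iff.1 hc _ (BenderTransitive.conj_inv_mem_of_mem_normalizer hn hx)
  calc x * (n * c * n⁻¹) = n * ((n⁻¹ * x * n) * c) * n⁻¹ := by group
    _ = n * (c * (n⁻¹ * x * n)) * n⁻¹ := by rw [h]
    _ = n * c * n⁻¹ * x := by group

theorem le_normalizer_centralizer (X : Subgroup G) :
    normalizer (X : Set G) ≤ normalizer (centralizer (X : Set G) : Set G) := fun n hn => by
  refine mem_normalizer_iff.2 fun c => ⟨conj_mem_centralizer_of_normalizer hn, fun h => ?_⟩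
  have h' := conj_mem_centralizer_of_normalizer (inv_mem hn) h
  rwa [show n⁻¹ * (n * c * n⁻¹) * n⁻¹⁻¹ = c by group] at h'

variable [Finite G]

/-- An involution acting on a set of cosets of odd size fixes one of them. -/
theorem exists_fixed_of_odd {F : G ⧸ H → Prop} {i : G} (hi : orderOf i = 2)
    (hF : ∀ f, F f → F (i • f)) (hodd : Odd (Nat.card {f // F f})) : ∃ f, F f ∧ i • f = f := by
  classical
  haveI := Fintype.ofFinite {f // F f}
  let σ : Equiv.Perm {f // F f} := (MulAction.toPerm i).subtypePerm (p := F)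
    fun f => ⟨fun h => by simpa [smul_smul, mul_self hi] using hF _ h, hF f⟩
  have hσ : σ ^ 2 ^ 1 = 1 := by
    refine Equiv.ext fun f => Subtype.ext ?_
    rw [pow_one, pow_two]
    change i • i • (f : G ⧸ H) = f
    rw [smul_smul, mul_self hi, one_smul]
  haveI : Fact (Nat.Prime 2) := ⟨Nat.prime_two⟩
  obtain ⟨f, hf⟩ := Equiv.Perm.exists_fixed_point_of_prime (p := 2) (n := 1) (by
    rw [Nat.card_eq_fintype_card, Nat.odd_iff] at hodd
    omega) hσ
  exact ⟨f.1, f.2, congrArg Subtype.val hf⟩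

/-- An `r`-subgroup fixing `a` centralises a number of the involutions there divisible by `r`, if `r`
divides their number. -/
theorem dvd_card_centralized (hH : Cfsg.IsStronglyEmbedded H) {r : ℕ} [Fact r.Prime]
    (hr : r ∣ mult H) {X : Subgroup G} (hX : IsPGroup r X) {a : G ⧸ H}
    (hXa : X ≤ stabilizer G a) :
    r ∣ Nat.card {t : G // orderOf t = 2 ∧ t ∈ centralizer (X : Set G) ∧ t • a = a} := by
  rw [← card_involutions_fixing hH a] at hr
  let S := {t : G // orderOf t = 2 ∧ t • a = a}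
  letI : MulAction X S :=
    { smul := fun g t => ⟨(g : G) * t * (g : G)⁻¹, (orderOf_conj _ _).trans t.2.1, by
        have hg : (g : G) • a = a := mem_stabilizer_iff.1 (hXa g.2)
        rw [mul_smul, mul_smul, inv_smul_eq_iff.2 hg.symm, t.2.2, hg]⟩
      one_smul := fun t => Subtype.ext (by
        show ((1 : X) : G) * (t : G) * ((1 : X) : G)⁻¹ = t
        simp)
      mul_smul := fun g h t => Subtype.ext (by
        show ((g * h : X) : G) * (t : G) * ((g * h : X) : G)⁻¹ =
          (g : G) * ((h : G) * t * (h : G)⁻¹) * (g : G)⁻¹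
        simp [mul_assoc]) }
  have h := (hX.card_modEq_card_fixedPoints S).symm.trans (Nat.modEq_zero_iff_dvd.2 hr)
  refine Nat.modEq_zero_iff_dvd.1 (Nat.ModEq.trans ?_ h)
  refine congrArg (· % r) (Nat.card_congr
    { toFun := fun t => ⟨⟨t.1, t.2.1, t.2.2.2⟩, fun g => Subtype.ext (by
        show (g : G) * t.1 * (g : G)⁻¹ = t.1
        exact mul_inv_eq_iff_eq_mul.2 (mem_centralizer_iff.1 t.2.2.1 g g.2))⟩
      invFun := fun t => ⟨t.1.1, t.1.2.1, mem_centralizer_iff.2 fun g hg => by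
        have h : g * t.1.1 * g⁻¹ = t.1.1 := congrArg Subtype.val (t.2 ⟨g, hg⟩)
        exact mul_inv_eq_iff_eq_mul.1 h, t.1.2.2⟩
      left_inv := fun _ => rfl
      right_inv := fun _ => rfl })

theorem exists_other_centralized (hH : Cfsg.IsStronglyEmbedded H) {r : ℕ} [hr' : Fact r.Prime]
    (hr : r ∣ mult H) {X : Subgroup G} (hX : IsPGroup r X) {a : G ⧸ H}
    (hXa : X ≤ stabilizer G a) {t : G} (ht : orderOf t = 2) (hta : t • a = a)
    (htX : t ∈ centralizer (X : Set G)) :
    ∃ t', orderOf t' = 2 ∧ t' • a = a ∧ t' ∈ centralizer (X : Set G) ∧ t' ≠ t := by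
  by_contra hno
  push Not at hno
  have hd := dvd_card_centralized hH hr hX hXa
  haveI : Subsingleton {t : G // orderOf t = 2 ∧ t ∈ centralizer (X : Set G) ∧ t • a = a} :=
    ⟨fun p q => Subtype.ext
      ((hno _ p.2.1 p.2.2.2 p.2.2.1).trans (hno _ q.2.1 q.2.2.2 q.2.2.1).symm)⟩
  haveI : Nonempty {t : G // orderOf t = 2 ∧ t ∈ centralizer (X : Set G) ∧ t • a = a} :=
    ⟨⟨t, ht, htX, hta⟩⟩
  rw [Nat.card_unique, Nat.dvd_one] at hd
  exact hr'.out.ne_one hd

section PZero

variable (h : MinSplit H) {r : ℕ} [hr' : Fact r.Prime] (hr : r ∣ mult H)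

/-- The two statements for one subgroup. -/
def FixedSpec (X : Subgroup G) (a b : G ⧸ H) : Prop :=
  (Odd (Nat.card (centralizer (X : Set G))) → ∀ c, X ≤ stabilizer G c → c = a ∨ c = b) ∧
    (Even (Nat.card (centralizer (X : Set G))) → ∀ c, X ≤ stabilizer G c →
      PairAt (centralizer (X : Set G)) c ∧ ∃ g ∈ centralizer (X : Set G), g • a = c)

omit hr' [Finite G] in
private theorem third {F : G ⧸ H → Prop} {x y z p q : G ⧸ H} (hx : F x) (hy : F y) (hz : F z)
    (hxy : x ≠ y) (hxz : x ≠ z) (hyz : y ≠ z) : ∃ e, F e ∧ e ≠ p ∧ e ≠ q := by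
  by_contra hno
  push Not at hno
  by_cases hxp : x = p
  · have hyq : y = q := hno y hy (fun e => hxy (hxp.trans e.symm))
    exact hyz (hyq.trans (hno z hz fun e => hxz (hxp.trans e.symm)).symm)
  · have hxq : x = q := hno x hx hxp
    have hyp : y = p := by_contra fun e => hxy (hxq.trans (hno y hy e).symm)
    have hzp : z = p := by_contra fun e => hxz (hxq.trans (hno z hz e).symm)
    exact hyz (hyp.trans hzp.symm)

include h hr

/-- The induction step: a bigger subgroup fixing a pair. -/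
private theorem exists_bigger {X : Subgroup G} (hX : IsPGroup r X) {c d : G ⧸ H} (hcd : c ≠ d)
    (hc : X ≤ stabilizer G c) (hd : X ≤ stabilizer G d)
    (he : ∃ e, X ≤ stabilizer G e ∧ e ≠ c ∧ e ≠ d) :
    ∃ R : Subgroup G, X < R ∧ IsPGroup r R ∧ R ≤ normalizer (X : Set G) ∧ R ≤ stab2 c d ∧
      ((∀ e, R ≤ stabilizer G e → e = c ∨ e = d) →
        ∃ S : Sylow r (normalizer (X : Set G)),
          (S : Subgroup (normalizer (X : Set G))).map (normalizer (X : Set G)).subtype = R) := by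
  classical
  set N := normalizer (X : Set G) with hN
  obtain ⟨R, ⟨⟨hXR, hR, hRN, hRcd⟩, hmax⟩⟩ :=
    (Set.toFinite {Y : Subgroup G | X ≤ Y ∧ IsPGroup r Y ∧ Y ≤ N ∧ Y ≤ stab2 c d}).exists_maximal
      ⟨X, le_rfl, hX, le_normalizer, le_inf hc hd⟩
  have hgrow : ∀ (P : Subgroup G), IsPGroup r P → R < P → ∀ x ∈ P, x ∈ normalizer (R : Set G) →
      x ∈ N → x • c = c → x • d = d → x ∈ R := by
    intro P hP hRP x hx _ hxN hxc hxd
    exact (hmax (y := R ⊔ zpowers x) ⟨hXR.trans le_sup_left,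
      hP.to_le (sup_le hRP.le (zpowers_le.2 hx)), sup_le hRN (zpowers_le.2 hxN),
      sup_le hRcd (zpowers_le.2 (mem_stab2.2 ⟨hxc, hxd⟩))⟩ le_sup_left)
      (mem_sup_right (mem_zpowers x))
  have hne : X ≠ R := by
    intro e
    obtain ⟨f, hf, hfc, hfd⟩ := he
    obtain ⟨P, hP, hPp, hPc⟩ := exists_sylow_in (p := r) (stab2 c d)
    obtain ⟨S, hS⟩ := (hX.of_equiv (subgroupOfEquivOfLe (le_inf hc hd)).symm).exists_le_sylow
    set P' := (S : Subgroup (stab2 c d)).map (stab2 c d).subtype with hP'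
    have hXP' : X ≤ P' := fun x hx => ⟨⟨x, hc hx, hd hx⟩, hS (mem_subgroupOf.2 hx), rfl⟩
    rcases hXP'.eq_or_lt with e' | hlt
    · have hcard : Nat.card X = r ^ (Nat.card (stab2 c d)).factorization r := by
        rw [e', hP', Coprime.card_map_subtype, Sylow.card_eq_multiplicity]
      rcases fixed_pair' h.min hr hcd (le_inf hc hd) hcard hf with k | k
      · exact hfc k
      · exact hfd k
    · obtain ⟨x, hxP, hxN, hxX⟩ := exists_normalizer_not_mem (S.isPGroup'.map _) hlt
      refine hxX (e ▸ hgrow P' (S.isPGroup'.map _) (e ▸ hlt) x hxP (e ▸ hxN) hxN ?_ ?_)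
      · exact (mem_stab2.1 (map_subtype_le _ hxP)).1
      · exact (mem_stab2.1 (map_subtype_le _ hxP)).2
  refine ⟨R, lt_of_le_of_ne hXR hne, hR, hRN, hRcd, fun hfix => ?_⟩
  obtain ⟨S, hS⟩ := (hR.of_equiv (subgroupOfEquivOfLe hRN).symm).exists_le_sylow
  refine ⟨S, ?_⟩
  set S' := (S : Subgroup N).map N.subtype with hS'
  have hRS : R ≤ S' := fun x hx => ⟨⟨x, hRN hx⟩, hS (mem_subgroupOf.2 hx), rfl⟩
  rcases hRS.eq_or_lt with e' | hlt
  · exact e'.symm
  exfalso
  obtain ⟨x, hxS, hxR, hxnR⟩ := exists_normalizer_not_mem (S.isPGroup'.map _) hlt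
  have hxodd : Odd (orderOf x) :=
    (odd_of_pgroup (dvd_mult_ne_two h.min hr) (S.isPGroup'.map N.subtype)).of_dvd_nat
      (Subgroup.orderOf_dvd_natCard _ hxS)
  have hpc := hfix (x • c) (smul_of_normalizes hxR (hRcd.trans inf_le_left))
  have hpd := hfix (x • d) (smul_of_normalizes hxR (hRcd.trans inf_le_right))
  have hswap : x • c = d → x • d = c := fun e => hpd.resolve_right fun e2 =>
    hcd (smul_left_cancel x (e.trans e2.symm))
  have hxc : x • c = c := by
    rcases hpc with e | e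
    · exact e
    exfalso
    obtain ⟨m, hm⟩ := hxodd
    have hx2 : (x * x) • c = c := by rw [mul_smul, e, hswap e]
    have h1 : (x ^ (2 * m + 1)) • c = d := by
      rw [pow_succ', pow_mul, pow_two, mul_smul,
        mem_stabilizer_iff.1 ((stabilizer G c).pow_mem (mem_stabilizer_iff.2 hx2) m), e]
    rw [← hm, pow_orderOf_eq_one, one_smul] at h1
    exact hcd h1
  have hxd : x • d = d := hpd.resolve_left fun e => hcd (smul_left_cancel x (hxc.trans e.symm))
  exact hxnR (hgrow S' (S.isPGroup'.map _) hlt x hxS hxR (map_subtype_le _ hxS) hxc hxd)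

private theorem spec_odd {X : Subgroup G} (hX : IsPGroup r X) (hX1 : X ≠ ⊥) {a b : G ⧸ H}
    (hab : a ≠ b) (ha : X ≤ stabilizer G a) (hb : X ≤ stabilizer G b)
    (hpair : ∀ c d : G ⧸ H, c ≠ d → ∀ R : Subgroup G, X < R → IsPGroup r R → R ≤ stab2 c d →
      FixedSpec R c d)
    (hodd : Odd (Nat.card (centralizer (X : Set G)))) {c : G ⧸ H} (hc : X ≤ stabilizer G c)
    (hca : c ≠ a) (hcb : c ≠ b) : False := by
  classical
  have hH := h.min.se
  set N := normalizer (X : Set G) with hN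
  let F : G ⧸ H → Prop := fun f => X ≤ stabilizer G f
  have hmove : ∀ g ∈ N, ∀ f, F f → F (g • f) := fun g hg f hf => smul_of_normalizes hg hf
  have hthird : ∀ p q, ∃ e, F e ∧ e ≠ p ∧ e ≠ q := fun p q =>
    third (F := F) ha hb hc hab (Ne.symm hca) (Ne.symm hcb)
  -- `N` is transitive on the pairs
  have hR : ∀ p q, F p → F q → p ≠ q → ∃ S : Sylow r N,
      ∀ e, ((S : Subgroup N).map N.subtype ≤ stabilizer G e ↔ (e = p ∨ e = q)) := by
    intro p q hp hq hpq
    obtain ⟨R, hXR, hRp, -, hRpq, hS⟩ := exists_bigger h hr hX hpq hp hq (hthird p q)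
    have hfix : ∀ e, R ≤ stabilizer G e → e = p ∨ e = q :=
      (hpair p q hpq R hXR hRp hRpq).1
        (hodd.of_dvd_nat (Subgroup.card_dvd_of_le (centralizer_le_of_le hXR.le)))
    obtain ⟨S, hS⟩ := hS hfix
    refine ⟨S, fun e => hS ▸ ⟨hfix e, ?_⟩⟩
    rintro (rfl | rfl)
    · exact hRpq.trans inf_le_left
    · exact hRpq.trans inf_le_right
  have htr : ∀ p q p' q', F p → F q → p ≠ q → F p' → F q' → p' ≠ q' →
      ∃ n ∈ N, (n • p = p' ∧ n • q = q') ∨ (n • p = q' ∧ n • q = p') := by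
    intro p q p' q' hp hq hpq hp' hq' hpq'
    obtain ⟨S, hS⟩ := hR p q hp hq hpq
    obtain ⟨S', hS'⟩ := hR p' q' hp' hq' hpq'
    obtain ⟨n, hn⟩ := MulAction.exists_smul_eq N S S'
    have hmap : ∀ e : G ⧸ H, (S : Subgroup N).map N.subtype ≤ stabilizer G e →
        (S' : Subgroup N).map N.subtype ≤ stabilizer G ((n : G) • e) := by
      intro e he
      rw [← hn, Coprime.map_smul_sylow]
      exact map_conj_le_stabilizer.2 he
    refine ⟨n, n.2, ?_⟩
    have hne : (n : G) • p ≠ (n : G) • q := fun e => hpq (smul_left_cancel _ e)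
    rcases (hS' _).1 (hmap p ((hS p).2 (Or.inl rfl))) with e1 | e1 <;>
      rcases (hS' _).1 (hmap q ((hS q).2 (Or.inr rfl))) with e2 | e2
    · exact absurd (e1.trans e2.symm) hne
    · exact Or.inl ⟨e1, e2⟩
    · exact Or.inr ⟨e1, e2⟩
    · exact absurd (e1.trans e2.symm) hne
  have hfpf : ∀ v ∈ N, orderOf v = 2 → ∀ f, F f → v • f ≠ f := by
    intro v hvN hv f hf hvf
    obtain ⟨f', hf', hf'f, -⟩ := hthird f f
    refine Nat.not_even_iff_odd.2 hodd ?_
    rw [even_iff_two_dvd, ← hv]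
    exact Subgroup.orderOf_dvd_natCard _ (mem_centralizer_iff.2 fun x hx =>
      (h.min.rigid.commute hf'f hv hvf (P := X) (le_inf hf hf') hvN hx).eq)
  by_cases hNodd : Odd (Nat.card N)
  · -- odd normaliser: an abelian transitive section
    obtain ⟨K, hK0, hKs⟩ : ∃ K : ℕ → Subgroup G, K 0 = N ∧ ∀ n, K (n + 1) = ⁅K n, K n⁆ :=
      ⟨fun n => Nat.rec N (fun _ B => (⁅B, B⁆ : Subgroup G)) n, rfl, fun _ => rfl⟩
    have hKle : ∀ n, K n ≤ N := by
      intro n; induction n with
      | zero => exact hK0.le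
      | succ n ih =>
        rw [hKs]
        exact (Subgroup.commutator_mono ih ih).trans N.commutator_le_self
    have hKN : ∀ n, N ≤ normalizer (K n : Set G) := by
      intro n; induction n with
      | zero => rw [hK0]; exact le_normalizer
      | succ n ih =>
        intro γ hγ
        rw [hKs]
        refine mem_normalizer_iff_map_conj_eq.2 ?_
        rw [Subgroup.map_commutator, mem_normalizer_iff_map_conj_eq.1 (ih hγ)]
    have h0 : ∃ g ∈ K 0, ∃ f, F f ∧ g • f ≠ f := by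
      obtain ⟨n, hn, hnab⟩ := htr a b a c ha hb hab ha hc (Ne.symm hca)
      rw [hK0]
      refine ⟨n, hn, ?_⟩
      rcases hnab with ⟨-, e⟩ | ⟨e, -⟩
      · exact ⟨b, hb, by rw [e]; exact hcb⟩
      · exact ⟨a, ha, by rw [e]; exact hca⟩
    obtain ⟨n, hn, hn'⟩ : ∃ n, (∃ g ∈ K n, ∃ f, F f ∧ g • f ≠ f) ∧
        ∀ g ∈ K (n + 1), ∀ f, F f → g • f = f := by
      obtain ⟨n, hn⟩ := (Group.isSolvable_def N).1 (CfsgLib.OddOrder.Final.oddSolvable N hNodd)
      have hKn : K n = ⊥ := by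
        have : ∀ m, K m = (derivedSeries N m).map N.subtype := by
          intro m; induction m with
          | zero => rw [derivedSeries_zero, ← MonoidHom.range_eq_map, range_subtype, hK0]
          | succ m ih => rw [derivedSeries_succ, Subgroup.map_commutator, ← ih, hKs]
        rw [this, hn, Subgroup.map_bot]
      by_contra hcon
      push Not at hcon
      obtain ⟨g, hg, f, -, hne⟩ := (Nat.rec (motive := fun n => ∃ g ∈ K n, ∃ f, F f ∧ g • f ≠ f)
        h0 (fun m hm => hcon m hm) n)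
      rw [hKn, mem_bot] at hg
      exact hne (by rw [hg, one_smul])
    obtain ⟨g, hg, f₀, hf₀, hgf₀⟩ := hn
    have hcomm : ∀ {p q : G}, p ∈ K n → q ∈ K n → ∀ f, F f → p • q • f = q • p • f := by
      intro p q hp hq f hf
      have h1 : ⁅p, q⁆ ∈ K (n + 1) := hKs n ▸ commutator_mem_commutator hp hq
      have h2 := hn' _ h1 _ (hmove _ (mul_mem (hKle n hq) (hKle n hp)) f hf)
      rw [← mul_smul, commutatorElement_def] at h2
      rw [← mul_smul, ← mul_smul q p]
      calc (p * q) • f = (p * q * p⁻¹ * q⁻¹ * (q * p)) • f := by group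
        _ = (q * p) • f := h2
    obtain ⟨α, hα, hαa⟩ : ∃ α ∈ K n, α • a = b := by
      obtain ⟨m, hm, hm'⟩ := htr f₀ (g • f₀) a b hf₀ (hmove _ (hKle n hg) _ hf₀) (Ne.symm hgf₀)
        ha hb hab
      rcases hm' with ⟨e1, e2⟩ | ⟨e1, e2⟩
      · refine ⟨m * g * m⁻¹, BenderTransitive.conj_mem_of_mem_normalizer (hKN n hm) hg, ?_⟩
        rw [← e1, mul_smul, mul_smul, inv_smul_smul, e2]
      · refine ⟨(m * g * m⁻¹)⁻¹,
          inv_mem (BenderTransitive.conj_mem_of_mem_normalizer (hKN n hm) hg), ?_⟩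
        rw [inv_smul_eq_iff, ← e1, mul_smul, mul_smul, inv_smul_smul, e2]
    obtain ⟨S, hS⟩ := hR a b ha hb hab
    have hb2 : α • b = a ∨ α • b = b := by
      refine (hS _).1 fun ρ hρ => mem_stabilizer_iff.2 ?_
      have hρa : ρ • a = a := (hS a).2 (Or.inl rfl) hρ
      have hρb : ρ • b = b := (hS b).2 (Or.inr rfl) hρ
      have hρK : ρ * α * ρ⁻¹ ∈ K n :=
        BenderTransitive.conj_mem_of_mem_normalizer (hKN n (map_subtype_le _ hρ)) hα
      have e1 : (ρ * α * ρ⁻¹) • a = α • a := by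
        rw [mul_smul, mul_smul, inv_smul_eq_iff.2 hρa.symm, hαa, hρb]
      calc ρ • α • b = (ρ * α * ρ⁻¹) • b := by
            rw [mul_smul, mul_smul, inv_smul_eq_iff.2 hρb.symm]
        _ = α • b := by rw [← hαa, hcomm hρK hα a ha, e1]
    rcases hb2 with e | e
    · obtain ⟨k, hk⟩ : Odd (orderOf α) :=
        hNodd.of_dvd_nat (Subgroup.orderOf_dvd_natCard _ (hKle n hα))
      have h2 : (α * α) • a = a := by rw [mul_smul, hαa, e]
      have h1 : (α ^ (2 * k + 1)) • a = b := by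
        rw [pow_succ', pow_mul, pow_two, mul_smul,
          mem_stabilizer_iff.1 ((stabilizer G a).pow_mem (mem_stabilizer_iff.2 h2) k), hαa]
      rw [← hk, pow_orderOf_eq_one, one_smul] at h1
      exact hab h1
    · exact hab (smul_left_cancel α (hαa.trans e.symm))
  rw [Nat.not_odd_iff_even] at hNodd
  by_cases hY : ∃ v ∈ N, orderOf v = 2 ∧
      X ⊓ centralizer (X : Set G) ⊓ centralizer ({v} : Set G) ≠ ⊥
  · -- an involution centralising central elements of `X`
    obtain ⟨v, hvN, hv, hY1⟩ := hY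
    set Y := X ⊓ centralizer (X : Set G) ⊓ centralizer ({v} : Set G) with hYdef
    have hYX : Y ≤ X := inf_le_left.trans inf_le_left
    have hYp : IsPGroup r Y := hX.to_le hYX
    have hXC : X ≤ centralizer (Y : Set G) := fun x hx => mem_centralizer_iff.2 fun y hy =>
      (mem_centralizer_iff.1 (mem_inf.1 (mem_inf.1 hy).1).2 x hx).symm
    have hvC : v ∈ centralizer (Y : Set G) := mem_centralizer_iff.2 fun y hy =>
      mem_centralizer_singleton_iff.1 (mem_inf.1 hy).2
    obtain ⟨p, hvp⟩ := SE.exists_fixed hH hv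
    have hYp' : Y ≤ stabilizer G p := fun y hy =>
      SE.commute_fixes hH hv hvp (mem_centralizer_iff.1 hvC y hy)
    have hpF : ¬ F p := fun hF => hfpf v hvN hv p hF hvp
    obtain ⟨x₀, hx₀, hx₀p⟩ := SetLike.not_le_iff_exists.1 hpF
    rw [mem_stabilizer_iff] at hx₀p
    obtain ⟨t', ht', ht'p, ht'C, ht'ne⟩ := exists_other_centralized hH hr hYp hYp' hv hvp hvC
    have hP : PairAt (centralizer (Y : Set G)) p :=
      pairAt_of_two hH h.min.rigid hv hvp hvC ht' ht'p ht'C ht'ne.symm (hXC hx₀) hx₀p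
    obtain ⟨v₁, w₁, hv₁, hv₁p, hv₁C, hw₁, -, hw₁C, hvw₁, hne₁⟩ := id hP
    have hΓ : centralizer (Y : Set G) ≠ ⊤ := by
      obtain ⟨⟨y, hy⟩, hy1⟩ := Subgroup.ne_bot_iff_exists_ne_one.1 hY1
      refine fun e => Setting.centralizer_ne_top h.min (mem_stabilizer_iff.1 (ha (hYX hy)))
        (fun e' => hy1 (Subtype.ext e')) (top_le_iff.1 (e.ge.trans fun g hg => ?_))
      exact mem_centralizer_singleton_iff.2 (mem_centralizer_iff.1 hg y hy).symm
    let S : G ⧸ H → Prop := fun f => F f ∧ ∃ γ ∈ centralizer (Y : Set G), γ • p = f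
    have hSv : ∀ f, S f → S (v • f) := fun f ⟨hf, γ, hγ, e⟩ =>
      ⟨hmove v hvN f hf, v * γ, mul_mem hvC hγ, by rw [mul_smul, e]⟩
    obtain ⟨e, hSe⟩ : ∃ e, S e := by
      obtain ⟨x, hx, _, _, -, hxf, -⟩ := exists_two_fixed hH h.min.rigid hv₁ hv₁C hv₁p hw₁ hw₁C
        hvw₁ hne₁ (dvd_card_centralized hH hr hYp hYp') (dvd_mult_ne_two h.min hr) (hXC hx₀) hx₀p
        hX hXC
      exact ⟨_, hxf, x, hx, rfl⟩
    have hve : v • e ≠ e := hfpf v hvN hv e hSe.1
    have htwo : ∀ f, S f → f = e ∨ f = v • e := by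
      intro f hSf
      by_contra hf
      push Not at hf
      obtain ⟨hef, γ, hγ, hγe⟩ := id hSe
      obtain ⟨v₂, w₂, hv₂, hv₂e, hv₂C, hw₂, -, hw₂C, hvw₂, hne₂⟩ :=
        hP.conj (le_normalizer hγ)
      rw [hγe] at hv₂e
      obtain ⟨T, hT⟩ := exists_localSplit h hΓ hv₂ hv₂e hw₂ hvw₂ hne₂ hv₂C hw₂C hvC hve
      obtain ⟨δ, hδ, hδf⟩ := hSf.2
      obtain ⟨τ, hτT, hτ⟩ := hT.transitive v hvC (δ * γ⁻¹) (mul_mem hδ (inv_mem hγ)) hve
        (by rw [mul_smul, inv_smul_eq_iff.2 hγe.symm, hδf]; exact hf.1)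
      rw [mul_smul δ, inv_smul_eq_iff.2 hγe.symm, hδf] at hτ
      have hτX : τ ∈ centralizer (X : Set G) := by
        refine mem_centralizer_iff.2 fun x hx => ?_
        have hxT : x ∈ normalizer (T : Set G) := hT.normal ⟨hXC hx, hef hx⟩
        have hmem : τ⁻¹ * (x * τ * x⁻¹) ∈ T :=
          mul_mem (inv_mem hτT) (BenderTransitive.conj_mem_of_mem_normalizer hxT hτT)
        have h1 := eq_one_of_pgroup_fixed hH hT.two hmem (a := e) (b := v • e) (Ne.symm hve)
          (mem_stabilizer_iff.1 (hT.le (hmem)).2) (by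
            have hxv : x • v • e = v • e := hmove v hvN e hef hx
            have hxf : x • f = f := hSf.1 hx
            rw [mul_smul, mul_smul, mul_smul, inv_smul_eq_iff.2 hxv.symm, hτ, hxf, ← hτ,
              inv_smul_smul])
        exact (mul_inv_eq_iff_eq_mul.1 (inv_mul_eq_one.1 h1).symm)
      obtain ⟨i, hi⟩ := hT.two ⟨τ, hτT⟩
      have hτ1 : τ = 1 := by
        have hco : (orderOf τ).Coprime (2 ^ i) :=
          ((Nat.coprime_two_right.2 (hodd.of_dvd_nat
            (Subgroup.orderOf_dvd_natCard _ hτX)))).pow_right i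
        exact orderOf_eq_one_iff.1 (Nat.eq_one_of_dvd_coprimes hco dvd_rfl
          (orderOf_dvd_of_pow_eq_one (congrArg Subtype.val hi)))
      rw [hτ1, one_smul] at hτ
      exact hf.2 hτ.symm
    obtain ⟨f, hf, hfe, hfve⟩ := hthird e (v • e)
    have hfS : ¬ S f := fun hS => (htwo f hS).elim hfe hfve
    have hvf : v • f ≠ f := hfpf v hvN hv f hf
    obtain ⟨n, hn, hnp⟩ := htr e (v • e) f (v • f) hSe.1 (hmove v hvN e hSe.1) (Ne.symm hve) hf
      (hmove v hvN f hf) (Ne.symm hvf)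
    have hvv : ∀ q : G ⧸ H, v • v • q = q := fun q => by rw [smul_smul, mul_self hv, one_smul]
    set v' := n * v * n⁻¹ with hv'
    have hv'N : v' ∈ N := mul_mem (mul_mem hn hvN) (inv_mem hn)
    have hv'2 : orderOf v' = 2 := (orderOf_conj n v).trans hv
    have hv'f : v' • f = v • f ∧ v' • v • f = f := by
      rcases hnp with ⟨e1, e2⟩ | ⟨e1, e2⟩
      · constructor
        · rw [← e1, hv', smul_smul, inv_mul_cancel_right, mul_smul, e2, e1]
        · rw [← e2, hv', smul_smul, inv_mul_cancel_right, mul_smul, hvv, e1]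
      · constructor
        · rw [← e2, hv', smul_smul, inv_mul_cancel_right, mul_smul, hvv, e1, e2]
        · rw [← e1, hv', smul_smul, inv_mul_cancel_right, mul_smul, e2]
    have hprod : v' * v ∈ stab2 f (v • f) :=
      mem_stab2.2 ⟨by rw [mul_smul, hv'f.2], by rw [mul_smul, hvv, hv'f.1]⟩
    obtain ⟨d, hd, hdv⟩ := exists_conj_of_odd hv'2 hv
      ((odd_stab2 hH (Ne.symm hvf)).of_dvd_nat (Subgroup.orderOf_dvd_natCard _ hprod))
    have hdf := mem_stab2.1 (zpowers_le.2 hprod hd)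
    set m := d * n with hm
    have hmN : m ∈ N := mul_mem (zpowers_le.2 (mul_mem hv'N hvN) hd) hn
    have hmv : m * v * m⁻¹ = v := by
      rw [hm, mul_inv_rev, show d * n * v * (n⁻¹ * d⁻¹) = d * (n * v * n⁻¹) * d⁻¹ by group, ← hv',
        hdv]
    have hmY : m ∈ normalizer (Y : Set G) := by
      refine Coprime.mem_normalizer_of_conj_map_le fun y hy => ?_
      refine mem_inf.2 ⟨mem_inf.2 ⟨?_, ?_⟩, ?_⟩
      · exact BenderTransitive.conj_mem_of_mem_normalizer hmN (mem_inf.1 (mem_inf.1 hy).1).1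
      · exact conj_mem_centralizer_of_normalizer hmN (mem_inf.1 (mem_inf.1 hy).1).2
      · refine mem_centralizer_singleton_iff.2 ?_
        have h1 : Commute y v := mem_centralizer_singleton_iff.1 (mem_inf.1 hy).2
        have h2 := h1.map (MulAut.conj m).toMonoidHom
        simp only [MulEquiv.coe_toMonoidHom, MulAut.conj_apply, hmv] at h2
        exact h2.eq
    have hmp : m • p = p := SE.commute_fixes hH hv hvp (mul_inv_eq_iff_eq_mul.1 hmv)
    obtain ⟨hef, γ, hγ, hγe⟩ := hSe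
    have hme : S (m • e) := ⟨hmove m hmN e hef, m * γ * m⁻¹,
      conj_mem_centralizer_of_normalizer hmY hγ, by
        rw [mul_smul, inv_smul_eq_iff.2 hmp.symm, mul_smul, hγe]⟩
    rw [hm, mul_smul] at hme
    rcases hnp with ⟨e1, -⟩ | ⟨e1, -⟩
    · rw [e1, hdf.1] at hme
      exact hfS hme
    · rw [e1, hdf.2] at hme
      exact hfS (hvv f ▸ hSv _ hme)
  · -- all involutions invert the centre of `X`
    push Not at hY
    set Z := X ⊓ centralizer (X : Set G) with hZ
    have hZN : N ≤ normalizer (Z : Set G) := fun n hn =>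
      mem_normalizer_inf' hn (le_normalizer_centralizer X hn)
    have hZ1 : Z ≠ ⊥ := by
      haveI := (nontrivial_iff_ne_bot X).2 hX1
      haveI := hX.center_nontrivial
      obtain ⟨z, hz⟩ := exists_ne (1 : center X)
      refine fun e => hz (Subtype.ext (Subtype.ext (mem_bot.1 (e ▸ mem_inf.2 ⟨z.1.2, ?_⟩))))
      exact mem_centralizer_iff.2 fun x hx =>
        congrArg Subtype.val (Subgroup.mem_center_iff.1 z.2 ⟨x, hx⟩)
    have hinv : ∀ v ∈ N, orderOf v = 2 → ∀ z ∈ Z, v * z * v⁻¹ = z⁻¹ := by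
      intro v hvN hv z hz
      have hvz : v * z * v⁻¹ ∈ Z := BenderTransitive.conj_mem_of_mem_normalizer (hZN hvN) hz
      have hc : z * (v * z * v⁻¹) = v * z * v⁻¹ * z :=
        mem_centralizer_iff.1 (mem_inf.1 hvz).2 z (mem_inf.1 hz).1
      have h1 : z * (v * z * v⁻¹) ∈ X ⊓ centralizer (X : Set G) ⊓ centralizer ({v} : Set G) := by
        refine mem_inf.2 ⟨mul_mem hz hvz, mem_centralizer_singleton_iff.2 ?_⟩
        calc z * (v * z * v⁻¹) * v = z * v * z := by group
          _ = v * (v * z * v⁻¹) * z := by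
            rw [inv_eq hv]; simp [← mul_assoc, mul_self hv]
          _ = v * (z * (v * z * v⁻¹)) := by rw [hc]; group
      rw [hY v hvN hv, mem_bot] at h1
      exact eq_inv_of_mul_eq_one_right h1
    set O := N ⊓ centralizer (Z : Set G) with hO
    have hOodd : Odd (Nat.card O) := by
      rw [← Nat.not_even_iff_odd]
      intro he
      obtain ⟨v, hvO, hv⟩ := Basic.exists_involution_of_even _ he
      refine hZ1 (eq_bot_iff.2 (le_trans ?_ (hY v (mem_inf.1 hvO).1 hv).le))
      exact fun z hz => mem_inf.2 ⟨hz, mem_centralizer_singleton_iff.2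
        (mem_centralizer_iff.1 (mem_inf.1 hvO).2 z hz)⟩
    obtain ⟨v₀, hv₀N, hv₀⟩ := Basic.exists_involution_of_even _ hNodd
    have hne₀ := Ne.symm (hfpf v₀ hv₀N hv₀ a ha)
    have horb : ∀ p q q', F p → F q → F q' → q ≠ p → q' ≠ p → ∃ o ∈ O, o • q = q' := by
      intro p q q' hp hq hq' hqp hq'p
      have hsw : ∀ q, F q → q ≠ p → ∃ v ∈ N, orderOf v = 2 ∧ v • p = q := by
        intro q hq hqp
        obtain ⟨n, hn, hn'⟩ := htr a (v₀ • a) p q ha (hmove v₀ hv₀N a ha) hne₀ hp hq (Ne.symm hqp)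
        refine ⟨n * v₀ * n⁻¹, mul_mem (mul_mem hn hv₀N) (inv_mem hn),
          (orderOf_conj n v₀).trans hv₀, ?_⟩
        rcases hn' with ⟨e1, e2⟩ | ⟨e1, e2⟩
        · rw [← e1, smul_smul, inv_mul_cancel_right, mul_smul, e2]
        · rw [← e2, smul_smul, inv_mul_cancel_right, mul_smul, smul_smul v₀ v₀, mul_self hv₀,
            one_smul, e1]
      obtain ⟨v, hvN, hv, hvp⟩ := hsw q hq hqp
      obtain ⟨v', hv'N, hv', hv'p⟩ := hsw q' hq' hq'p
      refine ⟨v' * v, mem_inf.2 ⟨mul_mem hv'N hvN, mem_centralizer_iff.2 fun z hz => ?_⟩,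
        by rw [mul_smul, swap_smul hv hvp, hv'p]⟩
      have e1 := mul_inv_eq_iff_eq_mul.1 (hinv v hvN hv z hz)
      have e2 := mul_inv_eq_iff_eq_mul.1 (hinv v' hv'N hv' z⁻¹ (inv_mem hz))
      rw [inv_inv] at e2
      rw [mul_assoc, e1, ← mul_assoc v' z⁻¹, e2, mul_assoc]
    have hall : ∀ q, F q → ∃ o ∈ O, o • a = q := by
      intro q hq
      have hac := horb b a c hb ha hc hab hcb
      by_cases hqb : q = b
      · obtain ⟨o₁, ho₁, e₁⟩ := hac
        obtain ⟨o₂, ho₂, e₂⟩ := horb a c b ha hc hb hca (Ne.symm hab)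
        exact ⟨o₂ * o₁, mul_mem ho₂ ho₁, by rw [mul_smul, e₁, e₂, hqb]⟩
      · exact horb b a q hb ha hq hab hqb
    have hoddF : Odd (Nat.card {f // F f}) := by
      have e : Nat.card {f // F f} = (stabilizer O a).index := by
        rw [Subgroup.index, ← Nat.card_congr (MulAction.orbitEquivQuotientStabilizer O a)]
        refine Nat.card_congr (Equiv.subtypeEquivRight fun f => ⟨fun hf => ?_, ?_⟩)
        · obtain ⟨o, ho, e⟩ := hall f hf
          exact ⟨⟨o, ho⟩, e⟩
        · rintro ⟨o, rfl⟩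
          exact hmove o (mem_inf.1 o.2).1 a ha
      rw [e]
      exact hOodd.of_dvd_nat (Subgroup.index_dvd_card _)
    obtain ⟨f, hf, hvf⟩ := exists_fixed_of_odd hv₀ (hmove v₀ hv₀N) hoddF
    exact hfpf v₀ hv₀N hv₀ f hf hvf

private theorem spec_even {X : Subgroup G} (hX : IsPGroup r X) {a b : G ⧸ H}
    (hab : a ≠ b) (ha : X ≤ stabilizer G a) (hb : X ≤ stabilizer G b)
    (hpair : ∀ c d : G ⧸ H, c ≠ d → ∀ R : Subgroup G, X < R → IsPGroup r R → R ≤ stab2 c d →
      FixedSpec R c d)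
    (heven : Even (Nat.card (centralizer (X : Set G)))) {c : G ⧸ H} (hc : X ≤ stabilizer G c) :
    PairAt (centralizer (X : Set G)) c ∧ ∃ g ∈ centralizer (X : Set G), g • a = c := by
  classical
  have hH := h.min.se
  set C := centralizer (X : Set G) with hC
  set N := normalizer (X : Set G) with hN
  obtain ⟨s, hsC, hs⟩ := Basic.exists_involution_of_even _ heven
  obtain ⟨p, hsp⟩ := SE.exists_fixed hH hs
  have hXp : X ≤ stabilizer G p := fun x hx =>
    SE.commute_fixes hH hs hsp (mem_centralizer_iff.1 hsC x hx)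
  have hfixΓ : ∀ i ∈ C, orderOf i = 2 → ∀ e, i • e = e → ∃ γ ∈ C, γ • p = e := by
    intro i hiC hi e hie
    by_cases hk : ∃ k ∈ C, k • p ≠ p
    · obtain ⟨k, hk, hkp⟩ := hk
      exact fixed_mem_orbit hH hs hsC hsp hk hkp hi hiC hie
    · push Not at hk
      exact ⟨1, one_mem _, by rw [one_smul]; exact SE.fixed_unique hH hi (hk i hiC) hie⟩
  have hFΓ : ∀ d, X ≤ stabilizer G d → ∃ γ ∈ C, γ • p = d := by
    intro d hd
    by_contra hdΓ
    have hsN : s ∈ N := centralizer_le_normalizer _ hsC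
    have hdp : d ≠ p := fun e => hdΓ ⟨1, one_mem _, by rw [one_smul, e]⟩
    have hsd : s • d ≠ d := fun e => hdp (SE.fixed_unique hH hs e hsp)
    have hsdF : X ≤ stabilizer G (s • d) := smul_of_normalizes hsN hd
    have hss : s • s • d = d := by rw [smul_smul, mul_self hs, one_smul]
    have hsdΓ : ¬ ∃ γ ∈ C, γ • p = s • d := by
      rintro ⟨γ, hγ, e⟩
      exact hdΓ ⟨s * γ, mul_mem hsC hγ, by rw [mul_smul, e, hss]⟩
    have hsdp : s • d ≠ p := fun e => hsdΓ ⟨1, one_mem _, by rw [one_smul, e]⟩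
    have hkey : ∀ q, q ≠ d → X ≤ stabilizer G q → (∃ e, X ≤ stabilizer G e ∧ e ≠ q ∧ e ≠ d) →
        ∃ S : Sylow r N, ∀ e, ((S : Subgroup N).map N.subtype ≤ stabilizer G e ↔ (e = q ∨ e = d)) := by
      intro q hqd hq he
      obtain ⟨R, hXR, hRp, -, hRqd, hS⟩ := exists_bigger h hr hX hqd hq hd he
      have hle : centralizer (R : Set G) ≤ C := centralizer_le_of_le hXR.le
      have hodd : Odd (Nat.card (centralizer (R : Set G))) := by
        rw [← Nat.not_even_iff_odd]
        intro hev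
        obtain ⟨⟨v, w, hv, hvd, hvC, -⟩, -⟩ :=
          (hpair q d hqd R hXR hRp hRqd).2 hev d (hRqd.trans inf_le_right)
        exact hdΓ (hfixΓ v (hle hvC) hv d hvd)
      have hfix := (hpair q d hqd R hXR hRp hRqd).1 hodd
      obtain ⟨S, hS⟩ := hS hfix
      refine ⟨S, fun e => hS ▸ ⟨hfix e, ?_⟩⟩
      rintro (rfl | rfl)
      · exact hRqd.trans inf_le_left
      · exact hRqd.trans inf_le_right
    obtain ⟨S, hS⟩ := hkey p (Ne.symm hdp) hXp ⟨s • d, hsdF, hsdp, hsd⟩
    obtain ⟨S', hS'⟩ := hkey (s • d) hsd hsdF ⟨p, hXp, Ne.symm hsdp, Ne.symm hdp⟩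
    obtain ⟨n, hn⟩ := MulAction.exists_smul_eq N S S'
    have hnp : (S' : Subgroup N).map N.subtype ≤ stabilizer G ((n : G) • p) := by
      rw [← hn, Coprime.map_smul_sylow]
      exact map_conj_le_stabilizer.2 ((hS p).2 (Or.inl rfl))
    have hΓn : ∃ γ ∈ C, γ • p = (n : G) • p := by
      refine hfixΓ ((n : G) * s * (n : G)⁻¹) (conj_mem_centralizer_of_normalizer n.2 hsC)
        ((orderOf_conj _ _).trans hs) _ ?_
      rw [smul_smul, inv_mul_cancel_right, mul_smul, hsp]
    rcases (hS' _).1 hnp with e | e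
    · exact hsdΓ (e ▸ hΓn)
    · exact hdΓ (e ▸ hΓn)
  obtain ⟨γ, hγ, hγp⟩ : ∃ γ ∈ C, γ • p ≠ p := by
    by_cases hap : a = p
    · obtain ⟨γ, hγ, e⟩ := hFΓ b hb
      exact ⟨γ, hγ, by rw [e, ← hap]; exact hab.symm⟩
    · obtain ⟨γ, hγ, e⟩ := hFΓ a ha
      exact ⟨γ, hγ, by rw [e]; exact hap⟩
  obtain ⟨s', hs', hs'p, hs'C, hne⟩ := exists_other_centralized hH hr hX hXp hs hsp hsC
  have hP : PairAt C p := pairAt_of_two hH h.min.rigid hs hsp hsC hs' hs'p hs'C hne.symm hγ hγp
  obtain ⟨γ₁, hγ₁, e₁⟩ := hFΓ c hc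
  obtain ⟨γ₂, hγ₂, e₂⟩ := hFΓ a ha
  exact ⟨e₁ ▸ hP.conj (le_normalizer hγ₁), γ₁ * γ₂⁻¹, mul_mem hγ₁ (inv_mem hγ₂),
    by rw [mul_smul, inv_smul_eq_iff.2 e₂.symm, e₁]⟩

/-- The fixed points of an `r`-subgroup of a two-point stabiliser. -/
theorem fixedSpec {X : Subgroup G} (hX : IsPGroup r X) (hX1 : X ≠ ⊥) {a b : G ⧸ H} (hab : a ≠ b)
    (hXab : X ≤ stab2 a b) : FixedSpec X a b := by
  classical
  suffices ∀ k, ∀ X : Subgroup G, Nat.card G - Nat.card X = k → IsPGroup r X → X ≠ ⊥ →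
      ∀ a b : G ⧸ H, a ≠ b → X ≤ stab2 a b → FixedSpec X a b from
    this _ X rfl hX hX1 a b hab hXab
  intro k
  induction k using Nat.strong_induction_on with
  | h k ih =>
    intro X hk hX hX1 a b hab hXab
    have hpair : ∀ c d : G ⧸ H, c ≠ d → ∀ R : Subgroup G, X < R → IsPGroup r R → R ≤ stab2 c d →
        FixedSpec R c d := by
      intro c d hcd R hXR hR hRcd
      have h1 : Nat.card X < Nat.card R := by
        refine lt_of_le_of_ne (Subgroup.card_le_of_le hXR.le) fun e => hXR.ne ?_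
        exact Subgroup.eq_of_le_of_card_ge hXR.le e.ge
      exact ih _ (by have := R.card_le_card_group; omega) R rfl hR (ne_bot_of_gt hXR) c d hcd hRcd
    obtain ⟨ha, hb⟩ := le_inf_iff.1 hXab
    refine ⟨fun hodd c hc => ?_, fun heven c hc => spec_even h hr hX hab ha hb hpair heven hc⟩
    by_contra hne
    push Not at hne
    exact spec_odd h hr hX hX1 hab ha hb hpair hodd hc hne.1 hne.2

end PZero

end CfsgLib.LocalEven.BenderSplit
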