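import Cfsg.Agent.Lib.LocalEven.BenderSplit.GlueIso

/-!
# The glue lemma

Either the action is doubly transitive, or (`C = 1`) the orbits of the point stabiliser are orbits of
the odd order group `D ⊓ stabilizer`, and (`C ≠ 1`, with a fixed-point-free action on a subgroup `E`)
only the first possibility occurs.
-/

set_option autoImplicit false
set_option linter.unusedSectionVars false
set_option linter.style.haveILetI false

open scoped ComplexConjugate
open MulAction CfsgLib.Char

namespace CfsgLib.BenderSplit.Glue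

universe u v

variable {X : Type u} {I : Type v} [Group X] [MulAction X I] [Fintype X] [Fintype I]
  {D N C : Subgroup X} {t : I}

/-- The trivial irreducible character. -/
def triv (X : Type u) [Group X] : Cfsg.IrrCharacter X := ⟨fun _ => 1, isIrrCharacter_one⟩

/-- Decomposition of the permutation character seen from the linear characters of `N/C`. -/
structure Decomp (S : Base D N C t) [Fintype N] [Fintype C] where
  m : Cfsg.IrrCharacter X → ℕ
  k : Cfsg.IrrCharacter X → Lam N C → ℕ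
  Ψ : Lam N C → Cfsg.IrrCharacter X
  m_spec : ∀ χ : Cfsg.IrrCharacter X, Cfsg.classInner (fixChar X I) (χ : X → ℂ) = m χ
  expand : ∀ g, fixChar X I g = ∑ χ : Cfsg.IrrCharacter X, (m χ : ℂ) * (χ : X → ℂ) g
  k_spec : ∀ (χ : Cfsg.IrrCharacter X) (f : Lam N C), mult N (χ : X → ℂ) f.val' = k χ f
  mk_one : ∀ f, m (Ψ f) = 1 ∧ k (Ψ f) f = 1
  mk_zero : ∀ f χ, χ ≠ Ψ f → m χ * k χ f = 0

namespace Decomp

variable [Fintype N] [Fintype C] {S : Base D N C t} (P : Decomp S)
include P

theorem k_eq [DecidableEq (Cfsg.IrrCharacter X)] {χ : Cfsg.IrrCharacter X} (hχ : P.m χ ≠ 0) (f : Lam N C) :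
    P.k χ f = if P.Ψ f = χ then 1 else 0 := by
  by_cases h : P.Ψ f = χ
  · rw [if_pos h, ← h]
    exact (P.mk_one f).2
  · rw [if_neg h]
    exact (Nat.mul_eq_zero.1 (P.mk_zero f χ fun e => h e.symm)).resolve_left hχ

/-- The average over `C` of a constituent counts the characters over it. -/
theorem avg_C [DecidableEq (Cfsg.IrrCharacter X)] {χ : Cfsg.IrrCharacter X} (hχ : P.m χ ≠ 0) :
    avg C (χ : X → ℂ) = ((Finset.univ.filter fun f : Lam N C => P.Ψ f = χ).card : ℂ) := by
  rw [← S.sum_mult, ← Finset.sum_boole]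
  exact Finset.sum_congr rfl fun f _ => by rw [P.k_spec, P.k_eq hχ]; split_ifs <;> simp

theorem m_triv : P.m (triv X) = 1 ∧ P.Ψ (Lam.one N C) = triv X := by
  classical
  haveI := S.isPretransitive
  have hone : P.k (triv X) (Lam.one N C) = 1 := by
    have h := P.k_spec (triv X) (Lam.one N C)
    rw [Lam.one_val, mult, show (fun n : N => ((triv X : Cfsg.IrrCharacter X) : X → ℂ) n) = fun _ => 1 from rfl,
      classInner_irr_self isIrrCharacter_one] at h
    exact_mod_cast h.symm
  have hm : P.m (triv X) = 1 := by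
    have h := P.m_spec (triv X)
    have h1 : Cfsg.classInner (fixChar X I) ((triv X : Cfsg.IrrCharacter X) : X → ℂ) = 1 := by
      rw [← avg_fixChar_of_transitive (X := X) (I := I) ⊤ (t := t) fun i => by
        obtain ⟨n, -, hn⟩ := S.trans i
        exact ⟨n, trivial, hn⟩]
      unfold avg Cfsg.classInner
      rw [Subgroup.card_top]
      congr 1
      exact (Fintype.sum_equiv Subgroup.topEquiv.toEquiv _ _ fun x => by simp [triv]).symm
    rw [h1] at h
    exact_mod_cast h.symm
  refine ⟨hm, ?_⟩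
  by_contra h
  have := P.mk_zero (Lam.one N C) (triv X) (Ne.symm h)
  simp [hm, hone] at this

theorem Ψ_ne_triv {f : Lam N C} (hf : f ≠ Lam.one N C) : P.Ψ f ≠ triv X := by
  classical
  intro h
  have h1 := (P.mk_one f).2
  have h2 := P.k_spec (P.Ψ f) f
  rw [h1, h, mult, show (fun n : N => ((triv X : Cfsg.IrrCharacter X) : X → ℂ) n) = (Lam.one N C).val' from rfl,
    classInner_irr_ne (Lam.isIrr _) f.isIrr fun e => hf (Lam.val'_injective e).symm] at h2
  simp at h2

theorem Ψ_tw {x : X} (hx : x ∈ D) (f : Lam N C) : P.Ψ (S.tw hx f) = P.Ψ f := by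
  classical
  have h := P.k_spec (P.Ψ f) (S.tw hx f)
  rw [S.mult_tw (IsIrrCharacter.isClassFunction (P.Ψ f).2), P.k_spec, (P.mk_one f).2] at h
  have hk : P.k (P.Ψ f) (S.tw hx f) = 1 := by exact_mod_cast h.symm
  by_contra hne
  have := P.mk_zero (S.tw hx f) (P.Ψ f) (Ne.symm hne)
  rw [(P.mk_one f).1, hk] at this
  exact one_ne_zero this

open Classical in
/-- Coefficients of an induced difference. -/
theorem ind_coeff (f f' : Lam N C) (χ : Cfsg.IrrCharacter X) :
    Cfsg.classInner (Cfsg.indFun N (f.val' - f'.val')) (χ : X → ℂ) = (P.k χ f : ℂ) - P.k χ f' := by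
  rw [classInner_indFun N _ (IsIrrCharacter.isClassFunction χ.2), classInner_sub_left,
    ← classInner_conj_symm, ← classInner_conj_symm (fun n : N => (χ : X → ℂ) n) f'.val']
  have h1 := P.k_spec χ f
  have h2 := P.k_spec χ f'
  unfold mult at h1 h2
  rw [h1, h2, Complex.conj_natCast, Complex.conj_natCast]

open Classical in
/-- Unrelated characters over different constituents. -/
theorem ind_eq {f f' : Lam N C} (hne : ¬ S.Conj f f') (hf : S.StabN f) (hf' : S.StabN f')
    (hΨ : P.Ψ f ≠ P.Ψ f') :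
    Cfsg.indFun N (f.val' - f'.val') = ((P.Ψ f : X → ℂ) - (P.Ψ f' : X → ℂ)) := by
  set θ := Cfsg.indFun N (f.val' - f'.val')
  set c : Cfsg.IrrCharacter X → ℤ := fun χ => (P.k χ f : ℤ) - P.k χ f'
  have hc : ∀ χ : Cfsg.IrrCharacter X, Cfsg.classInner θ (χ : X → ℂ) = (c χ : ℂ) := fun χ => by
    rw [P.ind_coeff]; simp [c]
  have hnorm : ∑ χ : Cfsg.IrrCharacter X, c χ * c χ = 2 := by
    have h := S.norm_ind f f' hne hf hf'
    rw [classInner_eq_sum_irr (indFun_isClassFunction N _)] at h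
    have h' : ((∑ χ : Cfsg.IrrCharacter X, c χ * c χ : ℤ) : ℂ) = ((2 : ℤ) : ℂ) := by
      push_cast
      rw [← h]
      refine Finset.sum_congr rfl fun χ _ => ?_
      rw [← classInner_conj_symm θ, hc, map_intCast]
    exact_mod_cast h'
  have hA : c (P.Ψ f) = 1 := by
    have h0 := P.mk_zero f' (P.Ψ f) hΨ
    rw [(P.mk_one f).1, one_mul] at h0
    simp [c, h0, (P.mk_one f).2]
  have hB : c (P.Ψ f') = -1 := by
    have h0 := P.mk_zero f (P.Ψ f') (Ne.symm hΨ)
    rw [(P.mk_one f').1, one_mul] at h0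
    simp [c, h0, (P.mk_one f').2]
  have hother : ∀ χ, χ ≠ P.Ψ f → χ ≠ P.Ψ f' → c χ = 0 := by
    intro χ h1 h2
    have hle : ∑ ψ ∈ ({P.Ψ f, P.Ψ f', χ} : Finset (Cfsg.IrrCharacter X)), c ψ * c ψ ≤ 2 :=
      hnorm ▸ Finset.sum_le_sum_of_subset_of_nonneg (Finset.subset_univ _) fun i _ _ => mul_self_nonneg _
    rw [Finset.sum_insert (by simp [hΨ, Ne.symm h1]), Finset.sum_insert (by simp [Ne.symm h2]),
      Finset.sum_singleton, hA, hB] at hle
    have h3 : c χ * c χ = 0 := le_antisymm (by linarith) (mul_self_nonneg _)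
    exact mul_self_eq_zero.1 h3
  conv_lhs => rw [IsClassFunction.eq_sum_irr (show Cfsg.IsClassFunction X θ from indFun_isClassFunction N _)]
  rw [← Finset.sum_subset (Finset.subset_univ ({P.Ψ f, P.Ψ f'} : Finset (Cfsg.IrrCharacter X)))]
  · rw [Finset.sum_pair hΨ, hc, hc, hA, hB]
    simp [sub_eq_add_neg]
  · intro χ _ hχ
    simp only [Finset.mem_insert, Finset.mem_singleton, not_or] at hχ
    rw [hc, hother χ hχ.1 hχ.2, Int.cast_zero, zero_smul]

/-- Either all non-trivial characters lie below one constituent, or distinct orbits below distinct ones. -/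
theorem dichotomy (Fr : Lam N C → Prop) (hFr : ∀ f, Fr f → S.StabN f) :
    (∀ f f' : Lam N C, Fr f → Fr f' → P.Ψ f = P.Ψ f') ∨
    (∀ f f' : Lam N C, Fr f → Fr f' → P.Ψ f = P.Ψ f' → S.Conj f f') := by
  classical
  by_cases h : ∀ f f' : Lam N C, Fr f → Fr f' → P.Ψ f = P.Ψ f' → S.Conj f f'
  · exact Or.inr h
  left
  push Not at h
  obtain ⟨a, b, ha, hb, hab, hne⟩ := h
  suffices key : ∀ f, Fr f → P.Ψ f = P.Ψ a from
    fun f f' hf hf' => (key f hf).trans (key f' hf').symm
  intro f hf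
  by_contra hfa
  have h1 : ¬ S.Conj a f := by
    rintro ⟨x, hx, rfl⟩
    exact hfa (P.Ψ_tw hx a)
  have h2 : ¬ S.Conj b f := by
    rintro ⟨x, hx, rfl⟩
    exact hfa ((P.Ψ_tw hx b).trans hab.symm)
  have e1 := P.ind_eq h1 (hFr _ ha) (hFr _ hf) (Ne.symm hfa)
  have e2 := P.ind_eq h2 (hFr _ hb) (hFr _ hf) (fun e => hfa (e.symm.trans hab.symm))
  have hzero : Cfsg.indFun N (a.val' - b.val') = 0 := by
    rw [show a.val' - b.val' = (a.val' - f.val') - (b.val' - f.val') by abel, indFun_sub N, e1, e2, hab,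
      sub_self]
  have hn := S.norm_ind a b hne (hFr _ ha) (hFr _ hb)
  rw [hzero, classInner_zero_left] at hn
  norm_num at hn

theorem classInner_self_eq : Cfsg.classInner (fixChar X I) (fixChar X I) =
    ((∑ χ : Cfsg.IrrCharacter X, P.m χ * P.m χ : ℕ) : ℂ) := by
  rw [classInner_eq_sum_irr (IsCharacter.isClassFunction isCharacter_fixChar)]
  push_cast
  refine Finset.sum_congr rfl fun χ _ => ?_
  rw [← classInner_conj_symm (fixChar X I) (χ : X → ℂ), P.m_spec, Complex.conj_natCast]

/-- If every constituent lies over some linear character, the rank is the number of constituents. -/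
theorem rank_eq [DecidableEq (Cfsg.IrrCharacter X)] (hall : ∀ χ, P.m χ ≠ 0 → ∃ f, P.Ψ f = χ) :
    Nat.card (orbitRel.Quotient (stabilizer X t) I) = (Finset.univ.image P.Ψ).card := by
  haveI := S.isPretransitive
  have h := classInner_fixChar_self (X := X) t
  rw [P.classInner_self_eq, Nat.cast_inj] at h
  rw [← h, ← Finset.sum_subset (Finset.subset_univ (Finset.univ.image P.Ψ))]
  · rw [Finset.card_eq_sum_ones]
    refine Finset.sum_congr rfl fun χ hχ => ?_
    obtain ⟨f, -, rfl⟩ := Finset.mem_image.1 hχ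
    rw [(P.mk_one f).1]
  · intro χ _ hχ
    by_contra hm
    obtain ⟨f, rfl⟩ := hall χ fun e => hm (by simp [e])
    exact hχ (Finset.mem_image_of_mem _ (Finset.mem_univ f))

/-- One constituent over all non-trivial characters means double transitivity. -/
theorem two_transitive [DecidableEq (Cfsg.IrrCharacter X)] (hall : ∀ χ, P.m χ ≠ 0 → ∃ f, P.Ψ f = χ)
    (heq : ∀ f f' : Lam N C, f ≠ Lam.one N C → f' ≠ Lam.one N C → P.Ψ f = P.Ψ f') :
    IsMultiplyPretransitive X I 2 := by
  classical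
  haveI := S.isPretransitive
  obtain ⟨f, hf⟩ := Fintype.exists_ne_of_one_lt_card (by rw [S.card_Lam]; exact S.one_lt_relIndex) (Lam.one N C)
  refine two_transitive_of_rank t ?_
  rw [P.rank_eq hall, show Finset.univ.image P.Ψ = {triv X, P.Ψ f} from ?_,
    Finset.card_pair (P.Ψ_ne_triv hf).symm]
  ext χ
  simp only [Finset.mem_image, Finset.mem_univ, true_and, Finset.mem_insert, Finset.mem_singleton]
  constructor
  · rintro ⟨g, rfl⟩
    by_cases hg : g = Lam.one N C
    · exact Or.inl (hg ▸ P.m_triv.2)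
    · exact Or.inr (heq g f hg hf)
  · rintro (rfl | rfl)
    · exact ⟨_, P.m_triv.2⟩
    · exact ⟨_, rfl⟩

end Decomp

theorem Base.decomp (S : Base D N C t) [Fintype N] [Fintype C] : Nonempty (Decomp S) := by
  classical
  obtain ⟨m, hm, hexp⟩ := IsCharacter.exists_multiplicity (isCharacter_fixChar (X := X) (I := I))
  choose k hk using fun (χ : Cfsg.IrrCharacter X) (f : Lam N C) => exists_mult_nat (isCharacter_irr χ) f
  have hsum : ∀ f, ∑ χ : Cfsg.IrrCharacter X, m χ * k χ f = 1 := by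
    intro f
    have h := S.mult_fixChar f
    rw [show fixChar X I = fun x => ∑ χ : Cfsg.IrrCharacter X, (m χ : ℂ) * (χ : X → ℂ) x from funext hexp,
      mult_sum] at h
    simp only [hk] at h
    exact_mod_cast h
  have hex : ∀ f, ∃ χ, m χ * k χ f = 1 ∧ ∀ ψ, ψ ≠ χ → m ψ * k ψ f = 0 := by
    intro f
    obtain ⟨χ, -, hχ⟩ := Finset.exists_ne_zero_of_sum_ne_zero (s := Finset.univ)
      (f := fun χ => m χ * k χ f) (by rw [hsum]; exact one_ne_zero)
    have h := hsum f
    rw [← Finset.add_sum_erase _ _ (Finset.mem_univ χ)] at h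
    have h1 : m χ * k χ f = 1 := by
      have := Nat.pos_of_ne_zero hχ
      omega
    refine ⟨χ, h1, fun ψ hψ => ?_⟩
    have h0 : ∑ ψ ∈ Finset.univ.erase χ, m ψ * k ψ f = 0 := by omega
    exact Finset.sum_eq_zero_iff.1 h0 ψ (Finset.mem_erase.2 ⟨hψ, Finset.mem_univ _⟩)
  choose Ψ hΨ using hex
  exact ⟨⟨m, k, Ψ, hm, hexp, hk, fun f => ⟨(mul_eq_one.1 (hΨ f).1).1, (mul_eq_one.1 (hΨ f).1).2⟩,
    fun f χ h => (hΨ f).2 χ h⟩⟩

theorem Base.tw_congr (S : Base D N C t) {a b : X} (ha : a ∈ D) (hb : b ∈ D) (e : a = b) (f : Lam N C) :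
    S.tw ha f = S.tw hb f := by
  subst e
  rfl

/-- Case `C = 1`: double transitivity, or stabiliser orbits are orbits of `D ⊓ stabilizer`, of odd size. -/
theorem glue_bot {X : Type u} {I : Type v} [Group X] [Finite X] [MulAction X I] [Finite I]
    {D N C : Subgroup X} {t : I} (S : Setup D N C t) (hC : C = ⊥) :
    IsMultiplyPretransitive X I 2 ∨
      ∀ i : I, (∀ g ∈ stabilizer X t, ∃ d ∈ D ⊓ stabilizer X t, d • i = g • i) ∧
        Odd (Nat.card (orbit (stabilizer X t) i)) := by
  classical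
  cases nonempty_fintype X
  cases nonempty_fintype I
  letI : Fintype N := Fintype.ofFinite _
  letI : Fintype C := Fintype.ofFinite _
  haveI := S.isPretransitive
  obtain ⟨P⟩ := S.toBase.decomp
  have hall : ∀ χ : Cfsg.IrrCharacter X, P.m χ ≠ 0 → ∃ f, P.Ψ f = χ := by
    intro χ hm
    by_contra h
    push Not at h
    have h0 := P.avg_C hm
    rw [Finset.filter_false_of_mem fun f _ => h f] at h0
    apply IsIrrCharacter.apply_one_ne_zero χ.2
    have hu : ∀ c : C, (c : X) = 1 := fun c => Subgroup.mem_bot.1 (le_of_eq hC c.2)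
    simpa [avg, hu, Finset.card_univ, Nat.card_eq_fintype_card] using h0
  rcases P.dichotomy (fun f => f ≠ Lam.one N C) (fun _ hf => S.stabN hf) with heq | hdist
  · exact Or.inl (P.two_transitive hall heq)
  right
  -- `D ⊓ stabilizer` acts semiregularly away from `t`
  set Dt : Subgroup X := D ⊓ stabilizer X t with hDt
  have hNt : ∀ n ∈ N, n • t = t → n = 1 := fun n hn h => by
    have := S.stab n hn h
    rwa [hC, Subgroup.mem_bot] at this
  have hsemi : ∀ d ∈ Dt, ∀ i : I, i ≠ t → d • i = i → d = 1 := by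
    intro d hd i hi hdi
    obtain ⟨n, hn, rfl⟩ := S.trans i
    have hfix : (n⁻¹ * d * n) • t = t := by rw [mul_smul, mul_smul, hdi, inv_smul_smul]
    have hn0 : (n⁻¹ * (d * n * d⁻¹)) • t = t := by
      rw [show n⁻¹ * (d * n * d⁻¹) = (n⁻¹ * d * n) * d⁻¹ by group, mul_smul,
        show d⁻¹ • t = t from inv_smul_eq_iff.2 (mem_stabilizer_iff.1 hd.2).symm, hfix]
    have h1 := hNt _ (mul_mem (inv_mem hn) (S.N_conj d hd.1 n hn)) hn0
    rcases S.frob d hd.1 n hn (by
      rw [inv_mul_eq_one] at h1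
      rw [← h1, mul_inv_cancel]
      exact one_mem C) with h | h
    · exact hNt d h (mem_stabilizer_iff.1 hd.2)
    · rw [hC, Subgroup.mem_bot] at h
      exact absurd (by rw [h, one_smul]) hi
  have hfact : Nat.card D = Nat.card N * Nat.card Dt := by
    rw [← Nat.card_prod]
    refine (Nat.card_congr (Equiv.ofBijective
      (fun p : N × Dt => (⟨(p.1 : X) * p.2, mul_mem (S.N_le p.1.2) p.2.2.1⟩ : D)) ⟨?_, ?_⟩)).symm
    · rintro ⟨a, b⟩ ⟨a', b'⟩ e
      have e' : (a : X) * b = a' * b' := congrArg Subtype.val e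
      have h1 : (a' : X)⁻¹ * a = b' * (b : X)⁻¹ := by
        rw [eq_mul_inv_iff_mul_eq, mul_assoc, e', inv_mul_cancel_left]
      have h2 : ((a' : X)⁻¹ * a) = 1 := hNt _ (mul_mem (inv_mem a'.2) a.2) (by
        rw [h1]; exact mem_stabilizer_iff.1 (mul_mem b'.2.2 (inv_mem b.2.2)))
      have ha : (a : X) = a' := (inv_mul_eq_one.1 h2).symm
      rw [ha] at e'
      exact Prod.ext (Subtype.ext ha) (Subtype.ext (mul_left_cancel e'))
    · intro d
      obtain ⟨n, hn, hnd⟩ := S.trans ((d : X) • t)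
      refine ⟨(⟨n, hn⟩, ⟨n⁻¹ * d, Subgroup.mem_inf.2 ⟨mul_mem (inv_mem (S.N_le hn)) d.2, ?_⟩⟩), Subtype.ext (mul_inv_cancel_left n _)⟩
      rw [mem_stabilizer_iff, mul_smul, inv_smul_eq_iff, hnd]
  -- fibres of `Ψ`
  have hfib : ∀ f : Lam N C, f ≠ Lam.one N C →
      Fintype.card {g : Lam N C // P.Ψ g = P.Ψ f} = Nat.card Dt := by
    intro f hf
    rw [← Nat.card_eq_fintype_card]
    symm
    refine Nat.card_congr (Equiv.ofBijective (fun d : Dt => (⟨S.tw d.2.1 f, P.Ψ_tw d.2.1 f⟩ :
      {g : Lam N C // P.Ψ g = P.Ψ f})) ⟨?_, ?_⟩)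
    · intro a b e
      have e' : S.tw a.2.1 f = S.tw b.2.1 f := congrArg Subtype.val e
      have h1 := congrArg (S.tw (inv_mem b.2.1)) e'
      rw [S.tw_tw, S.tw_tw] at h1
      have h2 : S.tw (mul_mem b.2.1 (inv_mem b.2.1)) f = f := by
        conv_rhs => rw [← S.tw_of_mem (one_mem N) f]
        congr 1
        exact mul_inv_cancel _
      rw [h2] at h1
      have h3 := hNt _ (S.mem_of_tw_eq _ hf h1) (mem_stabilizer_iff.1 (mul_mem a.2.2 (inv_mem b.2.2)))
      exact Subtype.ext (mul_inv_eq_one.1 h3)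
    · rintro ⟨g, hg⟩
      have hg1 : g ≠ Lam.one N C := fun e => P.Ψ_ne_triv hf (by rw [← hg, e, P.m_triv.2])
      obtain ⟨x, hx, rfl⟩ := hdist f g hf hg1 hg.symm
      obtain ⟨n, hn, hnx⟩ := S.trans (x • t)
      have hd : n⁻¹ * x ∈ Dt := Subgroup.mem_inf.2
        ⟨mul_mem (inv_mem (S.N_le hn)) hx, by rw [mem_stabilizer_iff, mul_smul, inv_smul_eq_iff, hnx]⟩
      refine ⟨⟨_, hd⟩, Subtype.ext ?_⟩
      conv_lhs => rw [← S.tw_of_mem hn f]
      show S.tw hd.1 (S.tw (S.N_le hn) f) = _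
      rw [S.tw_tw]
      exact S.tw_congr _ hx (mul_inv_cancel_left n x) f
  -- orbit counts
  set r := Nat.card (orbitRel.Quotient (stabilizer X t) I)
  set r' := Nat.card (orbitRel.Quotient Dt I)
  have hI : Nat.card I = Nat.card N := (Nat.card_congr (Equiv.ofBijective (fun n : N => (n : X) • t)
    ⟨fun a b e => Subtype.ext (inv_mul_eq_one.1 (hNt _ (mul_mem (inv_mem a.2) b.2) (by
      rw [mul_smul, ← (show (a : X) • t = (b : X) • t from e), inv_smul_smul]))),
    fun i => by obtain ⟨n, hn, h⟩ := S.trans i; exact ⟨⟨n, hn⟩, h⟩⟩)).symm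
  have hL : Nat.card (Lam N C) = Nat.card N := by
    rw [Nat.card_eq_fintype_card, S.card_Lam, hC, Subgroup.relIndex_bot_left]
  have e1 : Fintype.card (Lam N C) = (r - 1) * Nat.card Dt + 1 := by
    rw [show r = (Finset.univ.image P.Ψ).card from P.rank_eq hall, ← Finset.card_univ,
      Finset.card_eq_sum_card_image P.Ψ Finset.univ,
      ← Finset.add_sum_erase _ _ (show triv X ∈ Finset.univ.image P.Ψ from
        Finset.mem_image.2 ⟨_, Finset.mem_univ _, P.m_triv.2⟩),
      Finset.sum_congr rfl (g := fun _ => Nat.card Dt) fun χ hχ => ?_, Finset.sum_const,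
      Finset.card_erase_of_mem (Finset.mem_image.2 ⟨_, Finset.mem_univ _, P.m_triv.2⟩), smul_eq_mul, add_comm]
    · congr 1
      rw [Finset.card_eq_one]
      refine ⟨Lam.one N C, Finset.ext fun f => ?_⟩
      simp only [Finset.mem_filter, Finset.mem_univ, true_and, Finset.mem_singleton]
      exact ⟨fun h => by_contra fun hf => P.Ψ_ne_triv hf h, fun h => h ▸ P.m_triv.2⟩
    · obtain ⟨hne, hmem⟩ := Finset.mem_erase.1 hχ
      obtain ⟨f, -, rfl⟩ := Finset.mem_image.1 hmem
      rw [← Fintype.card_subtype]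
      exact hfib f fun e => hne (e ▸ P.m_triv.2)
  have e2 : Nat.card Dt * r' = Nat.card I + (Nat.card Dt - 1) := by
    have h := avg_fixChar (X := X) (I := I) Dt
    have hsum : ∑ d : Dt, fixChar X I (d : X) = (Nat.card I : ℂ) + ((Nat.card Dt - 1 : ℕ) : ℂ) := by
      rw [← Finset.add_sum_erase _ _ (Finset.mem_univ (1 : Dt))]
      congr 1
      · simp [fixChar]
      · rw [Finset.sum_congr rfl (g := fun _ => (1 : ℂ)) fun d hd => ?_, Finset.sum_const,
          Finset.card_erase_of_mem (Finset.mem_univ _), Finset.card_univ, Nat.card_eq_fintype_card, nsmul_eq_mul,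
          mul_one]
        have hd1 : (d : X) ≠ 1 := fun e => (Finset.mem_erase.1 hd).1 (Subtype.ext e)
        show (Nat.card (fixedBy I (d : X)) : ℂ) = 1
        rw [Nat.cast_eq_one, Nat.card_eq_one_iff_unique]
        have hu : ∀ a : fixedBy I (d : X), (a : I) = t := fun a =>
          by_contra fun h => hd1 (hsemi d d.2 a h a.2)
        exact ⟨⟨fun a b => Subtype.ext ((hu a).trans (hu b).symm)⟩, ⟨⟨t, mem_stabilizer_iff.1 d.2.2⟩⟩⟩
    rw [avg, hsum, inv_mul_eq_iff_eq_mul₀ (Nat.cast_ne_zero.2 Nat.card_pos.ne')] at h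
    exact_mod_cast h.symm
  have hrr : r' = r := by
    have hd0 : 0 < Nat.card Dt := Nat.card_pos
    have hr0 : 0 < r := by
      haveI : Nonempty (orbitRel.Quotient (stabilizer X t) I) := ⟨Quotient.mk'' t⟩
      exact Nat.card_pos
    have he : Nat.card I = (r - 1) * Nat.card Dt + 1 := by
      rw [hI, ← hL, Nat.card_eq_fintype_card, e1]
    refine Nat.eq_of_mul_eq_mul_left hd0 ?_
    obtain ⟨s, hs⟩ : ∃ s, r = s + 1 := ⟨r - 1, by omega⟩
    rw [e2, he, hs, Nat.add_sub_cancel]
    rw [Nat.mul_succ, mul_comm (Nat.card Dt) s]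
    omega
  let π : orbitRel.Quotient Dt I → orbitRel.Quotient (stabilizer X t) I :=
    Quotient.map' id fun a b hab => by
      obtain ⟨d, hd⟩ := hab
      exact ⟨⟨(d : X), d.2.2⟩, hd⟩
  have hπ : Function.Bijective π := (Nat.bijective_iff_surjective_and_card π).2
    ⟨fun q => Quotient.inductionOn' q fun i => ⟨Quotient.mk'' i, rfl⟩, hrr⟩
  intro i
  have hmove : ∀ g ∈ stabilizer X t, ∃ d ∈ Dt, d • i = g • i := by
    intro g hg
    have : π (Quotient.mk'' (g • i)) = π (Quotient.mk'' i) := Quotient.sound' ⟨⟨g, hg⟩, rfl⟩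
    obtain ⟨d, hd⟩ := Quotient.eq''.1 (hπ.1 this)
    exact ⟨d, d.2, hd⟩
  refine ⟨hmove, ?_⟩
  have horb : orbit (stabilizer X t) i = orbit Dt i := by
    ext j
    constructor
    · rintro ⟨⟨g, hg⟩, rfl⟩
      obtain ⟨d, hd, e⟩ := hmove g hg
      exact ⟨⟨d, hd⟩, e⟩
    · rintro ⟨d, rfl⟩
      exact ⟨⟨(d : X), d.2.2⟩, rfl⟩
  have hdvd : Nat.card (orbit Dt i) ∣ Nat.card D :=
    (Dvd.intro _ (by rw [← Nat.card_prod]; exact Nat.card_congr (orbitProdStabilizerEquivGroup Dt i))).trans
      (Subgroup.card_dvd_of_le inf_le_left)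
  rw [horb]
  exact Odd.of_dvd_nat S.D_odd hdvd

/-- Case `C ≠ 1` with a fixed-point-free action of `⟨g⟩` on `E`: double transitivity. -/
theorem glue_cyclic {X : Type u} {I : Type v} [Group X] [Finite X] [MulAction X I] [Finite I]
    {D N C : Subgroup X} {t : I} (S : Setup D N C t) {g : X} (hg : g ∈ C) (hg1 : g ≠ 1)
    (hsemi : ∀ k ∈ Subgroup.zpowers g, ∀ i : I, k • i = i → k = 1)
    (hsame : ∀ c ∈ C, ∀ i : I, ∃ k ∈ Subgroup.zpowers g, k • i = c • i)
    (E : Subgroup X) (hgE : ∀ e ∈ E, g * e * g⁻¹ ∈ E)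
    (hfpf : ∀ k ∈ Subgroup.zpowers g, k ≠ 1 → ∀ e ∈ E, k * e = e * k → e = 1)
    (hEtr : ∀ i : I, ∃ x ∈ Subgroup.normalClosure (E : Set X), x • t = i) :
    IsMultiplyPretransitive X I 2 := by
  classical
  cases nonempty_fintype X
  cases nonempty_fintype I
  letI : Fintype N := Fintype.ofFinite _
  letI : Fintype C := Fintype.ofFinite _
  haveI := S.isPretransitive
  obtain ⟨P⟩ := S.toBase.decomp
  set Z := Subgroup.zpowers g with hZ
  letI : Fintype Z := Fintype.ofFinite _
  letI : Fintype E := Fintype.ofFinite _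
  choose a ha using fun χ : Cfsg.IrrCharacter X => exists_avg_nat (isCharacter_irr χ) Z
  choose b hb using fun χ : Cfsg.IrrCharacter X => exists_avg_nat (isCharacter_irr χ) C
  have hle : Z ≤ C := Subgroup.zpowers_le.2 hg
  -- `⟨g⟩` and `C` have the same orbits
  have horb : avg Z (fixChar X I) = avg C (fixChar X I) := by
    rw [avg_fixChar, avg_fixChar]
    have hs : orbitRel Z I = orbitRel C I := by
      ext i j
      constructor
      · rintro ⟨z, hz⟩
        exact ⟨⟨(z : X), hle z.2⟩, hz⟩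
      · rintro ⟨c, hc⟩
        obtain ⟨k, hk, hkc⟩ := hsame c c.2 j
        exact ⟨⟨k, hk⟩, hkc.trans hc⟩
    rw [show orbitRel.Quotient Z I = orbitRel.Quotient C I from congrArg Quotient hs]
  have hab : ∀ χ : Cfsg.IrrCharacter X, P.m χ ≠ 0 → a χ = b χ := by
    have hsum : ∀ (H : Subgroup X) [Fintype H], avg H (fixChar X I) =
        ∑ χ : Cfsg.IrrCharacter X, (P.m χ : ℂ) * avg H (χ : X → ℂ) := fun H _ => by
      rw [← avg_sum]
      congr 1
      exact funext P.expand
    have h := horb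
    rw [hsum, hsum] at h
    simp only [ha, hb] at h
    have h' : ∑ χ : Cfsg.IrrCharacter X, P.m χ * b χ = ∑ χ : Cfsg.IrrCharacter X, P.m χ * a χ := by
      exact_mod_cast h.symm
    intro χ hm
    have := (Finset.sum_eq_sum_iff_of_le fun χ _ =>
      Nat.mul_le_mul_left (P.m χ) (avg_antitone (isCharacter_irr χ) hle (ha χ) (hb χ))).1 h' χ (Finset.mem_univ _)
    exact (Nat.eq_of_mul_eq_mul_left (Nat.pos_of_ne_zero hm) this).symm
  -- every non-trivial constituent has a fixed vector of `g`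
  have hpos : ∀ χ : Cfsg.IrrCharacter X, P.m χ ≠ 0 → χ ≠ triv X → a χ ≠ 0 := by
    intro χ hm hχ h0
    obtain ⟨n, ρ, hirr, hρ⟩ := χ.2
    have haZ : avg Z ρ.character = 0 := by rw [hρ, ha, h0, Nat.cast_zero]
    rw [avg_eq_finrank, Nat.cast_eq_zero, Submodule.finrank_eq_zero] at haZ
    have hA : ∑ z : Z, ρ (z : X) = 0 := by
      refine LinearMap.ext fun v => ?_
      have hv : (∑ z : Z, ρ (z : X)) v ∈ Representation.invariants (ρ.comp Z.subtype) := by
        intro w
        simp only [MonoidHom.comp_apply, Subgroup.coe_subtype, LinearMap.sum_apply, map_sum]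
        refine Fintype.sum_equiv (Equiv.mulLeft w) _ _ fun z => ?_
        show ρ (w : X) (ρ (z : X) v) = ρ ((w * z : Z) : X) v
        rw [Subgroup.coe_mul, map_mul]
        rfl
      rw [haZ, Submodule.mem_bot] at hv
      simpa using hv
    have hT : ∀ e : E, ∑ z : Z, ρ.character ((e : X) * z) = 0 := by
      intro e
      have : ∑ z : Z, ρ.character ((e : X) * z) = LinearMap.trace ℂ _ (ρ (e : X) * ∑ z : Z, ρ (z : X)) := by
        simp [Finset.mul_sum, map_sum, Representation.character]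
      rw [this, hA, mul_zero, map_zero]
    -- elements `e z`, `z ≠ 1`, are conjugate to `z`
    have hnorm : ∀ z : Z, ∀ e : E, (z : X) * e * (z : X)⁻¹ ∈ E := by
      have hgN : g ∈ Subgroup.normalizer (E : Set X) := by
        rw [Subgroup.mem_normalizer_iff]
        have hfix : E.map (MulAut.conj g).toMonoidHom = E := Subgroup.eq_of_le_of_card_ge
          (by rintro _ ⟨e, he, rfl⟩; exact hgE e he)
          (by rw [Subgroup.card_map_of_injective (MulAut.conj g).injective])
        intro x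
        refine ⟨hgE x, fun hx => ?_⟩
        obtain ⟨e, he, hex⟩ : g * x * g⁻¹ ∈ E.map (MulAut.conj g).toMonoidHom := by rw [hfix]; exact hx
        have : e = x := (MulAut.conj g).injective hex
        exact this ▸ he
      intro z e
      exact (Subgroup.mem_normalizer_iff.1 (Subgroup.zpowers_le.2 hgN z.2) e).1 e.2
    have hrow : ∀ z : Z, z ≠ 1 → ∑ e : E, ρ.character ((e : X) * z) = (Nat.card E : ℂ) * ρ.character z := by
      intro z hz
      let c : E → E := fun e => ⟨(e : X) * ((z : X) * (e⁻¹ : E) * (z : X)⁻¹), mul_mem e.2 (hnorm z e⁻¹)⟩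
      have hc : Function.Injective c := by
        intro p q h
        have h' : (p : X) * (z * (p : X)⁻¹ * (z : X)⁻¹) = q * (z * (q : X)⁻¹ * (z : X)⁻¹) := congrArg Subtype.val h
        have hk : (z : X) * ((q : X)⁻¹ * p) = (q : X)⁻¹ * p * z := by
          calc (z : X) * ((q : X)⁻¹ * p) = (q : X)⁻¹ * (q * (z * (q : X)⁻¹ * (z : X)⁻¹)) * z * p := by group
            _ = (q : X)⁻¹ * (p * (z * (p : X)⁻¹ * (z : X)⁻¹)) * z * p := by rw [h']
            _ = _ := by group
        exact (Subtype.ext (inv_mul_eq_one.1 (hfpf z z.2 (fun e => hz (Subtype.ext e)) _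
          (mul_mem (inv_mem q.2) p.2) hk))).symm
      rw [← (Equiv.ofBijective c (Finite.injective_iff_bijective.1 hc)).sum_comp,
        Finset.sum_congr rfl (g := fun _ => ρ.character (z : X)) fun e _ => ?_, Finset.sum_const,
        Finset.card_univ, nsmul_eq_mul, Nat.card_eq_fintype_card]
      rw [← Representation.char_conj ρ (z : X) (e : X)]
      congr 1
      show (e : X) * ((z : X) * (e : X)⁻¹ * (z : X)⁻¹) * z = _
      group
    have hZsum : ∑ z : Z, ρ.character (z : X) = 0 := by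
      have := congrArg (LinearMap.trace ℂ _) hA
      simpa [map_sum, Representation.character] using this
    have hEavg : avg E ρ.character = ρ.character 1 := by
      have h1 : ∑ z : Z, ∑ e : E, ρ.character ((e : X) * z) = 0 := by
        rw [Finset.sum_comm]; exact Finset.sum_eq_zero fun e _ => hT e
      rw [← Finset.add_sum_erase _ _ (Finset.mem_univ (1 : Z)),
        Finset.sum_congr rfl fun z hz => hrow z (Finset.mem_erase.1 hz).1, ← Finset.mul_sum] at h1
      rw [← Finset.add_sum_erase _ _ (Finset.mem_univ (1 : Z))] at hZsum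
      simp only [Subgroup.coe_one, mul_one] at h1 hZsum
      rw [show ∑ z ∈ Finset.univ.erase (1 : Z), ρ.character (z : X) = -ρ.character 1 by linear_combination hZsum]
        at h1
      have h0 : (Nat.card E : ℂ) ≠ 0 := Nat.cast_ne_zero.2 Nat.card_pos.ne'
      unfold avg
      rw [show ∑ e : E, ρ.character (e : X) = (Nat.card E : ℂ) * ρ.character 1 by linear_combination h1,
        inv_mul_cancel_left₀ h0]
    -- so `E` is in the kernel, and so is its normal closure
    have hker : Subgroup.normalClosure (E : Set X) ≤ charKer (isCharacter_irr χ) := by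
      haveI := charKer_normal (isCharacter_irr χ)
      refine Subgroup.normalClosure_le_normal fun e he => ?_
      rw [SetLike.mem_coe, mem_charKer]
      show χ.1 e = χ.1 1
      rw [← hρ]
      exact apply_eq_of_avg ⟨n, ρ, rfl⟩ E hEavg he
    set K := Subgroup.normalClosure (E : Set X)
    letI : Fintype K := Fintype.ofFinite _
    have h1 := avg_fixChar_of_transitive (X := X) (I := I) K hEtr
    rw [show fixChar X I = fun x => ∑ ψ : Cfsg.IrrCharacter X, (P.m ψ : ℂ) * (ψ : X → ℂ) x from funext P.expand,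
      avg_sum] at h1
    choose c hc using fun ψ : Cfsg.IrrCharacter X => exists_avg_nat (isCharacter_irr ψ) K
    simp only [hc] at h1
    have h1' : ∑ ψ : Cfsg.IrrCharacter X, P.m ψ * c ψ = 1 := by exact_mod_cast h1
    have hcT : c (triv X) = 1 := by
      have := hc (triv X)
      simp [avg, triv, Finset.card_univ, Nat.card_eq_fintype_card] at this
      exact_mod_cast this.symm
    have hcχ : c χ ≠ 0 := by
      intro e
      have := hc χ
      rw [e, avg, Finset.sum_congr rfl fun (k : K) _ => (mem_charKer (isCharacter_irr χ)).1 (hker k.2)] at this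
      simp [Finset.card_univ, Nat.card_eq_fintype_card, IsIrrCharacter.apply_one_ne_zero χ.2] at this
    have h2 : ∑ ψ ∈ ({triv X, χ} : Finset (Cfsg.IrrCharacter X)), P.m ψ * c ψ ≤ 1 :=
      h1' ▸ Finset.sum_le_sum_of_subset (Finset.subset_univ _)
    rw [Finset.sum_pair (Ne.symm hχ), P.m_triv.1, hcT] at h2
    have : 0 < P.m χ * c χ := Nat.mul_pos (Nat.pos_of_ne_zero hm) (Nat.pos_of_ne_zero hcχ)
    omega
  have hall : ∀ χ : Cfsg.IrrCharacter X, P.m χ ≠ 0 → ∃ f, P.Ψ f = χ := by
    intro χ hm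
    by_cases hχ : χ = triv X
    · exact ⟨_, hχ ▸ P.m_triv.2⟩
    by_contra h
    push Not at h
    have h0 := P.avg_C hm
    rw [Finset.filter_false_of_mem fun f _ => h f, hb] at h0
    simp at h0
    exact hpos χ hm hχ ((hab χ hm).trans h0)
  rcases P.dichotomy (fun f => f ≠ Lam.one N C) (fun _ hf => S.stabN hf) with heq | hdist
  · exact P.two_transitive hall heq
  exfalso
  obtain ⟨f, hf⟩ := Fintype.exists_ne_of_one_lt_card (by rw [S.card_Lam]; exact S.one_lt_relIndex) (Lam.one N C)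
  have hodd : ∀ h : Lam N C, h ≠ Lam.one N C → ∃ h' : Lam N C, h' ≠ Lam.one N C ∧ ¬ S.Conj h h' := by
    intro h hh
    let h' : Lam N C := ⟨h.1⁻¹, fun c hc => by rw [MonoidHom.inv_apply, h.2 c hc, inv_one]⟩
    refine ⟨h', fun e => hh (Subtype.ext (MonoidHom.ext fun n => inv_eq_one.1 (DFunLike.congr_fun (congrArg Subtype.val e) n))), ?_⟩
    rintro ⟨x, hx, e⟩
    have e2 : S.tw (mul_mem hx hx) h = h := by
      rw [← S.tw_tw hx hx h, e]
      refine Subtype.ext (MonoidHom.ext fun n => ?_)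
      rw [S.tw_apply]
      show (h.1 _)⁻¹ = _
      have := DFunLike.congr_fun (congrArg Subtype.val e) n
      rw [S.tw_apply] at this
      rw [this]
      exact inv_inv _
    have hxx := S.mem_of_tw_eq _ hh e2
    obtain ⟨k, hk⟩ := S.D_odd
    have hxord : x ^ (2 * k + 1) = 1 := by
      have := congrArg Subtype.val (pow_card_eq_one' (x := (⟨x, hx⟩ : D)))
      rw [hk] at this
      simpa using this
    have hxN : x ∈ N := by
      have : x = (x * x) ^ (k + 1) := by
        rw [← pow_two, ← pow_mul, show 2 * (k + 1) = 2 * k + 1 + 1 by ring, pow_succ, hxord, one_mul]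
      rw [this]
      exact pow_mem hxx _
    have e3 : h = h' := (S.tw_of_mem hxN h).symm.trans e
    refine hh (Subtype.ext (MonoidHom.ext fun n => ?_))
    have hs : h.1 n ^ 2 = 1 := by
      have := DFunLike.congr_fun (congrArg Subtype.val e3) n
      rw [pow_two]
      nth_rewrite 2 [this]
      exact mul_inv_cancel _
    have ho : h.1 n ^ Nat.card N = 1 := by rw [← map_pow, pow_card_eq_one', map_one]
    obtain ⟨j, hj⟩ := Odd.of_dvd_nat S.D_odd (Subgroup.card_dvd_of_le S.N_le)
    rw [hj, pow_succ, pow_mul, hs, one_pow, one_mul] at ho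
    exact ho
  -- every non-trivial constituent takes the same value at `g`
  have hval : ∀ h : Lam N C, h ≠ Lam.one N C → (P.Ψ h : X → ℂ) g = (P.Ψ f : X → ℂ) g := by
    intro h hh
    by_cases e : P.Ψ h = P.Ψ f
    · rw [e]
    have hn : ¬ S.Conj h f := by
      rintro ⟨x, hx, rfl⟩
      exact e (P.Ψ_tw hx h).symm
    have h1 := congrFun (P.ind_eq hn (S.stabN hh) (S.stabN hf) e) g
    rw [S.ind_apply_C h f hg, Pi.sub_apply] at h1
    exact (sub_eq_zero.1 h1.symm)
  set T := (Finset.univ.image P.Ψ).erase (triv X) with hT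
  have hfix0 : fixChar X I g = 0 := by
    show (Nat.card (fixedBy I g) : ℂ) = 0
    haveI : IsEmpty (fixedBy I g) := ⟨fun i => hg1 (hsemi g (Subgroup.mem_zpowers g) i i.2)⟩
    simp
  have hg0 : (1 : ℂ) + (T.card : ℂ) * (P.Ψ f : X → ℂ) g = 0 := by
    rw [← hfix0, P.expand g, ← Finset.sum_subset (Finset.subset_univ (Finset.univ.image P.Ψ)),
      ← Finset.add_sum_erase _ _ (show triv X ∈ Finset.univ.image P.Ψ from
        Finset.mem_image.2 ⟨_, Finset.mem_univ _, P.m_triv.2⟩)]
    · congr 1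
      · rw [P.m_triv.1]; simp [triv]
      · rw [Finset.sum_congr rfl (g := fun _ => (P.Ψ f : X → ℂ) g) fun χ hχ => ?_, Finset.sum_const, nsmul_eq_mul]
        obtain ⟨hne, hmem⟩ := Finset.mem_erase.1 hχ
        obtain ⟨h, -, rfl⟩ := Finset.mem_image.1 hmem
        rw [(P.mk_one h).1, Nat.cast_one, one_mul, hval h fun e => hne (e ▸ P.m_triv.2)]
    · intro χ _ hχ
      by_contra hm
      obtain ⟨h, rfl⟩ := hall χ fun e => hm (by simp [e])
      exact hχ (Finset.mem_image_of_mem _ (Finset.mem_univ h))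
  have hs2 : 2 ≤ T.card := by
    obtain ⟨f', hf', hn⟩ := hodd f hf
    refine Finset.one_lt_card.2 ⟨P.Ψ f, ?_, P.Ψ f', ?_, fun e => hn (hdist f f' hf hf' e)⟩ <;>
    exact Finset.mem_erase.2 ⟨P.Ψ_ne_triv ‹_›, Finset.mem_image_of_mem _ (Finset.mem_univ _)⟩
  have hint : IsIntegral ℤ ((P.Ψ f : X → ℂ) g) := IsCharacter.isIntegral (isCharacter_irr _) g
  have hq : (P.Ψ f : X → ℂ) g = ((-1 / T.card : ℚ) : ℂ) := by
    have h0 : (T.card : ℂ) ≠ 0 := Nat.cast_ne_zero.2 (by omega)
    push_cast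
    field_simp
    linear_combination hg0
  rw [hq] at hint
  have hint' : IsIntegral ℤ (-1 / T.card : ℚ) :=
    (isIntegral_algHom_iff (Rat.castHom ℂ).toIntAlgHom Rat.cast_injective).1 hint
  obtain ⟨z, hz⟩ := IsIntegrallyClosed.algebraMap_eq_of_integral hint'
  rw [eq_intCast] at hz
  have h0 : (T.card : ℚ) ≠ 0 := Nat.cast_ne_zero.2 (by omega)
  have hz' : z * (T.card : ℤ) = -1 := by
    have : (z : ℚ) * (T.card : ℚ) = -1 := by rw [hz]; field_simp
    exact_mod_cast this
  rcases Int.eq_one_or_neg_one_of_mul_eq_neg_one' hz' with ⟨-, h⟩ | ⟨-, h⟩ <;> omega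

end CfsgLib.BenderSplit.Glue
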