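import Cfsg.Agent.Lib.Char.Induced
import Cfsg.Agent.Lib.Char.Constituent
import Cfsg.Agent.Lib.Char.Linear
import Cfsg.Agent.Lib.Perm.CentralizerRing
import Mathlib.GroupTheory.GroupAction.MultipleTransitivity
import Mathlib.RepresentationTheory.Invariants

/-!
# Permutation characters and averages over subgroups
-/

set_option autoImplicit false
set_option linter.unusedSectionVars false
set_option linter.style.haveILetI false

open scoped ComplexConjugate
open MulAction CfsgLib.Char

namespace CfsgLib.BenderSplit.Glue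

universe u v

variable (X : Type u) (I : Type v) [Group X] [MulAction X I]

/-- The permutation character. -/
noncomputable def fixChar : X → ℂ := fun g => (Nat.card (fixedBy I g) : ℂ)

variable {X I}

/-- Average of a function over a subgroup. -/
noncomputable def avg (H : Subgroup X) [Fintype H] (f : X → ℂ) : ℂ :=
  (Nat.card H : ℂ)⁻¹ * ∑ h : H, f h

theorem avg_sum {ι : Type*} (s : Finset ι) (c : ι → ℂ) (f : ι → X → ℂ) (H : Subgroup X) [Fintype H] :
    avg H (fun x => ∑ i ∈ s, c i * f i x) = ∑ i ∈ s, c i * avg H (f i) := by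
  simp only [avg, Finset.mul_sum]
  rw [Finset.sum_comm]
  exact Finset.sum_congr rfl fun i _ => Finset.sum_congr rfl fun h _ => by ring

section Rep

variable {H : Type u} [Group H] [Fintype H] {V : Type*} [AddCommGroup V] [Module ℂ V]
  [FiniteDimensional ℂ V]

theorem average_character (ρ : Representation ℂ H V) :
    (Nat.card H : ℂ)⁻¹ * ∑ h : H, ρ.character h = (Module.finrank ℂ ρ.invariants : ℂ) := by
  haveI : Invertible (Fintype.card H : ℂ) :=
    invertibleOfNonzero (Nat.cast_ne_zero.2 Fintype.card_ne_zero)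
  rw [← (ρ.isProj_averageMap).trace]
  simp [Representation.averageMap, GroupAlgebra.average, Representation.character,
    Nat.card_eq_fintype_card, Representation.asAlgebraHom_single, map_sum, Finset.mul_sum]

end Rep

variable [Fintype X] [Fintype I]

theorem isCharacter_fixChar : Cfsg.IsCharacter X (fixChar X I) := by
  classical
  show Cfsg.IsCharacter X fun g : X => (Nat.card (fixedBy I g) : ℂ)
  rw [← CfsgLib.Perm.CentralizerRing.character_fun_eq]
  exact isCharacter_of_rep _

theorem avg_eq_finrank {n : ℕ} (ρ : Representation ℂ X (Fin n → ℂ)) (H : Subgroup X) [Fintype H] :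
    avg H ρ.character = (Module.finrank ℂ (Representation.invariants (ρ.comp H.subtype)) : ℂ) := by
  rw [← average_character]
  rfl

theorem exists_avg_nat {χ : X → ℂ} (hχ : Cfsg.IsCharacter X χ) (H : Subgroup X) [Fintype H] :
    ∃ a : ℕ, avg H χ = a := by
  obtain ⟨n, ρ, rfl⟩ := hχ
  exact ⟨_, avg_eq_finrank ρ H⟩

/-- Averages over smaller subgroups are larger. -/
theorem avg_antitone {χ : X → ℂ} (hχ : Cfsg.IsCharacter X χ) {H K : Subgroup X} [Fintype H]
    [Fintype K] (hle : H ≤ K) {a b : ℕ} (ha : avg H χ = a) (hb : avg K χ = b) : b ≤ a := by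
  obtain ⟨n, ρ, rfl⟩ := hχ
  rw [avg_eq_finrank ρ H, Nat.cast_inj] at ha
  rw [avg_eq_finrank ρ K, Nat.cast_inj] at hb
  rw [← ha, ← hb]
  exact Submodule.finrank_mono fun v hv h => hv ⟨h, hle h.2⟩

/-- An average equal to the degree means trivial action. -/
theorem apply_eq_of_avg {χ : X → ℂ} (hχ : Cfsg.IsCharacter X χ) (H : Subgroup X) [Fintype H]
    (h : avg H χ = χ 1) {x : X} (hx : x ∈ H) : χ x = χ 1 := by
  obtain ⟨n, ρ, rfl⟩ := hχ
  rw [avg_eq_finrank, Representation.char_one, Nat.cast_inj] at h
  have htop := Submodule.eq_top_of_finrank_eq h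
  rw [Representation.char_one, char_eq_finrank_iff]
  refine LinearMap.ext fun v => ?_
  have hv : v ∈ Representation.invariants (ρ.comp H.subtype) := htop ▸ Submodule.mem_top
  exact hv ⟨x, hx⟩

/-- Burnside's count for a subgroup. -/
theorem avg_fixChar (H : Subgroup X) [Fintype H] :
    avg H (fixChar X I) = (Nat.card (orbitRel.Quotient H I) : ℂ) := by
  classical
  have hb := sum_card_fixedBy_eq_card_orbits_mul_card_group (↥H) I
  have hs : ∑ h : H, (Nat.card (fixedBy I (h : X)) : ℂ) =
      (Nat.card (orbitRel.Quotient H I) : ℂ) * (Nat.card H : ℂ) := by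
    rw [Nat.card_eq_fintype_card (α := H), Nat.card_eq_fintype_card, ← Nat.cast_mul, ← hb, Nat.cast_sum]
    exact Finset.sum_congr rfl fun h _ => by
      rw [Nat.card_eq_fintype_card]
      rfl
  unfold avg fixChar
  rw [hs]
  field_simp [Nat.cast_ne_zero.2 (Nat.card_pos (α := H)).ne']

theorem avg_fixChar_of_transitive (H : Subgroup X) [Fintype H] {t : I}
    (h : ∀ i : I, ∃ g ∈ H, g • t = i) : avg H (fixChar X I) = 1 := by
  have h1 : Nat.card (orbitRel.Quotient H I) = 1 := by
    rw [Nat.card_eq_one_iff_unique]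
    haveI : IsPretransitive H I := by
      rw [isPretransitive_iff_base t]
      intro i
      obtain ⟨g, hg, rfl⟩ := h i
      exact ⟨⟨g, hg⟩, rfl⟩
    exact ⟨(pretransitive_iff_subsingleton_quotient _ _).1 inferInstance, ⟨Quotient.mk _ t⟩⟩
  rw [avg_fixChar, h1, Nat.cast_one]

/-- The norm of the permutation character is the rank. -/
theorem classInner_fixChar_self [IsPretransitive X I] (t : I) :
    Cfsg.classInner (fixChar X I) (fixChar X I) =
      (Nat.card (orbitRel.Quotient (stabilizer X t) I) : ℂ) := by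
  classical
  let f : X → ℂ := fixChar X I
  have hf : ∀ g, conj (f g) = f g := fun g => Complex.conj_natCast _
  have hfg : ∀ g, f g = ∑ i : I, if g • i = i then 1 else 0 := fun g => by
    show (Nat.card (fixedBy I g) : ℂ) = _
    rw [Finset.sum_boole, Nat.card_eq_fintype_card, Fintype.card_subtype]
    rfl
  have hst : ∀ i : I, ∑ g : X, (if g • i = i then f g else 0) = ∑ g : X, if g • t = t then f g else 0 := by
    intro i
    obtain ⟨x, rfl⟩ := exists_smul_eq X t i
    refine Fintype.sum_equiv (MulAut.conj x⁻¹).toEquiv _ _ fun g => ?_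
    have hfc : f (x⁻¹ * g * x) = f g := by
      have := IsCharacter.isClassFunction (isCharacter_fixChar (X := X) (I := I)) g x⁻¹
      rw [inv_inv] at this
      exact this
    simp [mul_smul, smul_eq_iff_eq_inv_smul, hfc, inv_smul_eq_iff]
  have hsum : ∑ g : X, f g * conj (f g) =
      (Fintype.card I : ℂ) * ∑ g : X, (if g • t = t then f g else 0) := by
    simp only [hf]
    calc ∑ g : X, f g * f g = ∑ g : X, ∑ i : I, (if g • i = i then f g else 0) := by
          refine Finset.sum_congr rfl fun g _ => ?_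
          conv_lhs => arg 1; rw [hfg g]
          rw [Finset.sum_mul]
          exact Finset.sum_congr rfl fun i _ => by split_ifs <;> simp
      _ = _ := by rw [Finset.sum_comm, Finset.sum_congr rfl fun i _ => hst i, Finset.sum_const,
          Finset.card_univ, nsmul_eq_mul]
  have hstab : ∑ g : X, (if g • t = t then f g else 0) =
      (Nat.card (stabilizer X t) : ℂ) * (Nat.card (orbitRel.Quotient (stabilizer X t) I) : ℂ) := by
    rw [← avg_fixChar, avg, ← mul_assoc, mul_inv_cancel₀ (Nat.cast_ne_zero.2 Nat.card_pos.ne'),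
      one_mul, ← Finset.sum_filter]
    exact Finset.sum_subtype _ (fun g => by simp [mem_stabilizer_iff]) f
  have hcard : (Nat.card X : ℂ) = (Fintype.card I : ℂ) * (Nat.card (stabilizer X t) : ℂ) := by
    rw [← Nat.card_eq_fintype_card, ← Nat.cast_mul, ← index_stabilizer_of_transitive X t,
      Subgroup.index_mul_card]
  unfold Cfsg.classInner
  rw [show (∑ g : X, fixChar X I g * conj (fixChar X I g)) = _ from hsum, hstab, hcard]
  haveI : Nonempty I := ⟨t⟩
  have h1 : (Fintype.card I : ℂ) ≠ 0 := Nat.cast_ne_zero.2 Fintype.card_ne_zero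
  have h2 : (Nat.card (stabilizer X t) : ℂ) ≠ 0 := Nat.cast_ne_zero.2 Nat.card_pos.ne'
  field_simp

/-- Two orbits of a point stabiliser give double transitivity. -/
theorem two_transitive_of_rank [IsPretransitive X I] (t : I)
    (h : Nat.card (orbitRel.Quotient (stabilizer X t) I) = 2) : IsMultiplyPretransitive X I 2 := by
  classical
  have key : ∀ i j : I, i ≠ t → j ≠ t → ∃ g ∈ stabilizer X t, g • i = j := by
    intro i j hi hj
    have hne : ∀ k : I, k ≠ t → (Quotient.mk'' k : orbitRel.Quotient (stabilizer X t) I) ≠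
        Quotient.mk'' t := fun k hk e => by
      obtain ⟨g, hg⟩ := Quotient.eq''.1 e
      exact hk (hg.symm.trans g.2)
    obtain ⟨o, -, ho⟩ := (Nat.card_eq_two_iff' (Quotient.mk'' t : orbitRel.Quotient (stabilizer X t) I)).1 h
    obtain ⟨g, hg⟩ := Quotient.eq''.1 ((ho _ (hne j hj)).trans (ho _ (hne i hi)).symm)
    exact ⟨g, g.2, hg⟩
  rw [is_two_pretransitive_iff]
  intro a b c d hab hcd
  obtain ⟨x, hx⟩ := exists_smul_eq X a t
  obtain ⟨y, hy⟩ := exists_smul_eq X c t
  have hxb : x • b ≠ t := fun e => hab (smul_left_cancel x (hx.trans e.symm))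
  have hyd : y • d ≠ t := fun e => hcd (smul_left_cancel y (hy.trans e.symm))
  obtain ⟨g, hg, hgb⟩ := key _ _ hxb hyd
  refine ⟨y⁻¹ * g * x, ?_, ?_⟩
  · rw [mul_smul, mul_smul, hx, mem_stabilizer_iff.1 hg, inv_smul_eq_iff, hy]
  · rw [mul_smul, mul_smul, hgb, inv_smul_smul]

end CfsgLib.BenderSplit.Glue
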