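import Cfsg.Agent.Lib.LocalEven.BenderSplit.GlueLin

/-!
# The constituents over linear characters of `N/C`
-/

set_option autoImplicit false
set_option linter.unusedSectionVars false
set_option linter.style.haveILetI false

open scoped ComplexConjugate
open MulAction CfsgLib.Char

namespace CfsgLib.BenderSplit.Glue

universe u v

variable {X : Type u} {I : Type v} [Group X] [MulAction X I] [Fintype X] [Fintype I]
  {D N C : Subgroup X} {t : I}

/-- Multiplicity of a linear character of `N` in a restriction. -/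
noncomputable def mult (N : Subgroup X) [Fintype N] (χ : X → ℂ) (f : N → ℂ) : ℂ :=
  Cfsg.classInner (fun n : N => χ n) f

theorem exists_mult_nat [Fintype N] {χ : X → ℂ} (hχ : Cfsg.IsCharacter X χ) (f : Lam N C) :
    ∃ k : ℕ, mult N χ f.val' = k :=
  IsCharacter.classInner_nat (IsCharacter.restrict hχ N) (IsIrrCharacter.isCharacter f.isIrr)

theorem mult_sum [Fintype N] {ι : Type*} (s : Finset ι) (c : ι → ℂ) (F : ι → X → ℂ) (f : N → ℂ) :
    mult N (fun x => ∑ i ∈ s, c i * F i x) f = ∑ i ∈ s, c i * mult N (F i) f := by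
  unfold mult
  rw [show (fun n : N => ∑ i ∈ s, c i * F i n) = ∑ i ∈ s, c i • (fun n : N => F i n) from
    funext fun n => by simp [Finset.sum_apply]]
  rw [classInner_sum_left]
  simp [classInner_smul_left]

namespace Base

variable (S : Base D N C t)
include S

theorem mult_fixChar [Fintype N] (f : Lam N C) : mult N (fixChar X I) f.val' = 1 := by
  classical
  have h : ∀ n : N, fixChar X I n * conj (f.val' n) = fixChar X I n := by
    intro n
    by_cases hn : (n : X) ∈ C
    · rw [f.apply_C hn, map_one, mul_one]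
    · have h0 : fixChar X I (n : X) = 0 := by
        show (Nat.card (fixedBy I (n : X)) : ℂ) = 0
        haveI : IsEmpty (fixedBy I (n : X)) := ⟨fun i => hn (S.mem_C_of_fix n.2 i.2)⟩
        simp
      rw [h0, zero_mul]
  rw [← avg_fixChar_of_transitive N S.trans, mult, Cfsg.classInner, avg]
  simp only [h]

/-- Summing the multiplicities gives the average over `C`. -/
theorem sum_mult [Fintype N] [Fintype C] (χ : X → ℂ) :
    ∑ f : Lam N C, mult N χ f.val' = avg C χ := by
  classical
  simp only [mult, Cfsg.classInner, avg, ← Finset.mul_sum]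
  rw [Finset.sum_comm]
  have hr : ∀ n : N, ∑ f : Lam N C, χ n * conj (f.val' n) =
      if (n : X) ∈ C then (C.relIndex N : ℂ) * χ n else 0 := by
    intro n
    rw [← Finset.mul_sum, ← map_sum, S.sum_val n]
    split_ifs with h
    · rw [Complex.conj_natCast, mul_comm]
    · simp
  rw [Finset.sum_congr rfl fun n _ => hr n, ← Finset.sum_filter, ← Finset.mul_sum]
  have hs : ∑ n ∈ (Finset.univ.filter fun n : N => (n : X) ∈ C), χ n = ∑ c : C, χ c := by
    refine Finset.sum_bij (fun n hn => (⟨n, (Finset.mem_filter.1 hn).2⟩ : C)) (fun _ _ => Finset.mem_univ _)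
      (fun a _ b _ h => Subtype.ext (congrArg (fun z : C => (z : X)) h)) (fun c _ => ?_) (fun _ _ => rfl)
    exact ⟨⟨c, S.C_le c.2⟩, Finset.mem_filter.2 ⟨Finset.mem_univ _, c.2⟩, Subtype.ext rfl⟩
  rw [hs]
  have hcard : (Nat.card N : ℂ) = (Nat.card C : ℂ) * (C.relIndex N : ℂ) := by
    rw [← Nat.cast_mul, ← Nat.card_congr (Subgroup.subgroupOfEquivOfLe S.C_le).toEquiv,
      Subgroup.relIndex, Subgroup.card_mul_index]
  rw [hcard, mul_inv, ← mul_assoc, mul_assoc (_⁻¹ : ℂ), inv_mul_cancel₀, mul_one]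
  exact Nat.cast_ne_zero.2 (by have := S.one_lt_relIndex; omega)

/-- The relation "conjugate under `D`". -/
def Conj (f f' : Lam N C) : Prop := ∃ (x : X) (hx : x ∈ D), S.tw hx f = f'

theorem mult_tw [Fintype N] {χ : X → ℂ} (hχ : Cfsg.IsClassFunction X χ) {x : X} (hx : x ∈ D) (f : Lam N C) :
    mult N χ (S.tw hx f).val' = mult N χ f.val' := by
  simp only [mult, Cfsg.classInner]
  congr 1
  let e : N ≃ N :=
    { toFun := fun n => ⟨x * n * x⁻¹, S.N_conj x hx n n.2⟩
      invFun := fun n => ⟨x⁻¹ * n * x⁻¹⁻¹, S.N_conj x⁻¹ (inv_mem hx) n n.2⟩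
      left_inv := fun n => Subtype.ext (by group)
      right_inv := fun n => Subtype.ext (by group) }
  refine Fintype.sum_equiv e _ _ fun n => ?_
  show χ n * conj (((S.tw hx f).1 n : ℂ)) = χ (x * n * x⁻¹) * conj ((f.1 (e n) : ℂ))
  rw [hχ (n : X) x, tw_apply]
  rfl

open Classical in
/-- The norm of an induced difference. -/
theorem norm_ind [Fintype N] (f f' : Lam N C) (hne : ¬ S.Conj f f') (hf : S.StabN f)
    (hf' : S.StabN f') :
    Cfsg.classInner (Cfsg.indFun N (f.val' - f'.val')) (Cfsg.indFun N (f.val' - f'.val')) = 2 := by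
  set α : N → ℂ := f.val' - f'.val' with hα
  have hαC : ∀ n : N, (n : X) ∈ C → α n = 0 := fun n hn => by
    simp [hα, f.apply_C hn, f'.apply_C hn]
  rw [classInner_indFun N α (indFun_isClassFunction N α)]
  have hpt : ∀ n : N, α n * conj (Cfsg.indFun N α (n : X)) =
      α n * conj ((Nat.card N : ℂ)⁻¹ * ∑ x : D, α ⟨(x : X) * n * (x : X)⁻¹, S.N_conj x x.2 n n.2⟩) := by
    intro n
    by_cases hn : (n : X) ∈ C
    · rw [hαC n hn, zero_mul, zero_mul]
    congr 2
    rw [indFun_def]
    congr 1
    rw [← Finset.sum_filter_of_ne (s := (Finset.univ : Finset X)) (p := fun x : X => x⁻¹ ∈ D)]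
    · refine (Finset.sum_bij (fun (x : D) _ => (x : X)⁻¹) (fun x _ => by simp)
        (fun a _ b _ h => Subtype.ext (inv_injective h))
        (fun b hb => ⟨⟨b⁻¹, (Finset.mem_filter.1 hb).2⟩, Finset.mem_univ _, inv_inv b⟩) (fun x _ => ?_)).symm
      rw [inv_inv, extendByZero_apply_mem N α (S.N_conj x x.2 n n.2)]
    · intro x _ hx
      by_cases hm : x⁻¹ * (n : X) * x ∈ N
      · have hmC : x⁻¹ * (n : X) * x ∉ C := fun h =>
          hx (by rw [extendByZero_apply_mem N α hm]; exact hαC ⟨_, hm⟩ h)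
        exact S.ti x⁻¹ n n.2 hn (by rwa [inv_inv]) (by rwa [inv_inv])
      · exact absurd (extendByZero_apply_notMem N α hm) hx
  have hip : ∀ a b : Lam N C, Cfsg.classInner a.val' b.val' = if a = b then 1 else 0 := fun a b => by
    rw [classInner_irr a.isIrr b.isIrr]
    exact if_congr ⟨fun h => Lam.val'_injective h, fun h => h ▸ rfl⟩ rfl rfl
  have htwo : ∀ x : D, Cfsg.classInner α (fun n : N => α ⟨(x : X) * n * (x : X)⁻¹, S.N_conj x x.2 n n.2⟩)
      = if (x : X) ∈ N then 2 else 0 := by
    intro x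
    show Cfsg.classInner (f.val' - f'.val') ((S.tw x.2 f).val' - (S.tw x.2 f').val') = _
    rw [classInner_sub_left, classInner_sub_right, classInner_sub_right, hip, hip, hip, hip]
    have h1 : f ≠ S.tw x.2 f' := fun h => hne ⟨(x : X)⁻¹, inv_mem x.2, by
      rw [h, tw_tw]
      conv_rhs => rw [← S.tw_of_mem (one_mem N) f']
      congr 1
      exact mul_inv_cancel _⟩
    have h2 : f' ≠ S.tw x.2 f := fun h => hne ⟨x, x.2, h.symm⟩
    rw [if_neg h1, if_neg h2]
    by_cases hx : (x : X) ∈ N
    · rw [if_pos hx, if_pos (S.tw_of_mem hx f).symm, if_pos (S.tw_of_mem hx f').symm]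
      norm_num
    · rw [if_neg hx, if_neg fun h => hx (hf x x.2 h.symm),
        if_neg fun h => hx (hf' x x.2 h.symm)]
      norm_num
  have hcount : ∑ x : D, (if (x : X) ∈ N then (2 : ℂ) else 0) = 2 * (Nat.card N : ℂ) := by
    rw [← Finset.sum_filter, Finset.sum_const, nsmul_eq_mul, mul_comm]
    congr 2
    rw [Nat.card_eq_fintype_card, ← Fintype.card_subtype]
    exact Fintype.card_congr
      { toFun := fun x => ⟨x.1, x.2⟩, invFun := fun n => ⟨⟨n, S.N_le n.2⟩, n.2⟩,
        left_inv := fun _ => rfl, right_inv := fun _ => rfl }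
  calc Cfsg.classInner α (fun n : N => Cfsg.indFun N α (n : X))
      = Cfsg.classInner α
          (fun n : N => (Nat.card N : ℂ)⁻¹ * ∑ x : D, α ⟨(x : X) * n * (x : X)⁻¹, S.N_conj x x.2 n n.2⟩) := by
        simp only [Cfsg.classInner]
        rw [Finset.sum_congr rfl fun n _ => hpt n]
    _ = (Nat.card N : ℂ)⁻¹ * ∑ x : D, Cfsg.classInner α
          (fun n : N => α ⟨(x : X) * n * (x : X)⁻¹, S.N_conj x x.2 n n.2⟩) := by
        simp only [Cfsg.classInner, map_mul, map_sum, map_inv₀, Complex.conj_natCast, Finset.mul_sum]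
        rw [Finset.sum_comm]
        exact Finset.sum_congr rfl fun x _ => Finset.sum_congr rfl fun n _ => by ring
    _ = 2 := by
        rw [Finset.sum_congr rfl fun x _ => htwo x, hcount]
        field_simp [Nat.cast_ne_zero.2 (Nat.card_pos (α := N)).ne']

/-- The induced difference vanishes on `C`. -/
theorem ind_apply_C [Fintype N] (f f' : Lam N C) {c : X} (hc : c ∈ C) :
    Cfsg.indFun N (f.val' - f'.val') c = 0 := by
  rw [indFun_def]
  refine mul_eq_zero_of_right _ (Finset.sum_eq_zero fun x _ => ?_)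
  by_cases hm : x⁻¹ * c * x ∈ N
  · have := S.fus x⁻¹ c hc (by rwa [inv_inv])
    rw [inv_inv] at this
    rw [extendByZero_apply_mem N _ hm]
    simp [f.apply_C (c := ⟨_, hm⟩) this, f'.apply_C (c := ⟨_, hm⟩) this]
  · exact extendByZero_apply_notMem N _ hm

end Base

end CfsgLib.BenderSplit.Glue
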