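import Cfsg.Agent.Lib.LocalEven.BenderSplit.GlueBasic
import Cfsg.Agent.Lib.Char.Orth

/-!
# Setup of the glue lemma and its linear characters
-/

set_option autoImplicit false
set_option linter.unusedSectionVars false
set_option linter.style.haveILetI false

open scoped ComplexConjugate
open MulAction CfsgLib.Char

namespace CfsgLib.BenderSplit.Glue

universe u v

variable {X : Type u} {I : Type v} [Group X] [MulAction X I]

/-- A subgroup `D` of odd order with normal subgroups `C ≤ N`, `N` transitive, `N/C` abelian,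
and `N \ C` a TI set with normaliser in `D`. -/
structure Base (D N C : Subgroup X) (t : I) : Prop where
  D_odd : Odd (Nat.card D)
  C_le : C ≤ N
  N_le : N ≤ D
  C_conj : ∀ d ∈ D, ∀ c ∈ C, d * c * d⁻¹ ∈ C
  N_conj : ∀ d ∈ D, ∀ n ∈ N, d * n * d⁻¹ ∈ N
  ne : C ≠ N
  trans : ∀ i : I, ∃ n ∈ N, n • t = i
  stab : ∀ n ∈ N, n • t = t → n ∈ C
  comm : ∀ a ∈ N, ∀ b ∈ N, a * b * a⁻¹ * b⁻¹ ∈ C
  ti : ∀ g n : X, n ∈ N → n ∉ C → g * n * g⁻¹ ∈ N → g * n * g⁻¹ ∉ C → g ∈ D
  fus : ∀ g : X, ∀ c ∈ C, g * c * g⁻¹ ∈ N → g * c * g⁻¹ ∈ C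

/-- A `Base` in which `D/C` is a Frobenius group with kernel `N/C`. -/
structure Setup (D N C : Subgroup X) (t : I) : Prop extends Base D N C t where
  frob : ∀ d ∈ D, ∀ n ∈ N, d * n * d⁻¹ * n⁻¹ ∈ C → d ∈ N ∨ n ∈ C

/-- The linear characters of `N` trivial on `C`. -/
def Lam (N C : Subgroup X) : Type u := {f : N →* ℂˣ // ∀ c : N, (c : X) ∈ C → f c = 1}

variable {D N C : Subgroup X} {t : I}

/-- Values of an element of `Lam`. -/
noncomputable def Lam.val' (f : Lam N C) : N → ℂ := fun n => (f.1 n : ℂ)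

theorem Lam.isIrr [Finite X] (f : Lam N C) : Cfsg.IsIrrCharacter N f.val' := isIrrCharacter_hom f.1

theorem Lam.val'_injective : Function.Injective (Lam.val' : Lam N C → N → ℂ) := fun _ _ h =>
  Subtype.ext (coe_hom_injective h)

theorem Lam.apply_C (f : Lam N C) {c : N} (hc : (c : X) ∈ C) : f.val' c = 1 := by
  simp [Lam.val', f.2 c hc]

/-- The trivial element. -/
def Lam.one (N C : Subgroup X) : Lam N C := ⟨1, fun _ _ => rfl⟩

theorem Lam.one_val : (Lam.one N C).val' = fun _ => 1 := rfl

theorem finite_hom (H : Type u) [Group H] [Finite H] : Finite (H →* ℂˣ) := by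
  cases nonempty_fintype H
  haveI : Finite (Cfsg.IrrCharacter H) := (finite_setOf_irr (G := H)).to_subtype
  exact Finite.of_equiv _ homEquivLinear.symm

instance [Finite X] : Finite (Lam N C) := by
  haveI := finite_hom (↥N)
  exact Subtype.finite

noncomputable instance [Finite X] : Fintype (Lam N C) := Fintype.ofFinite _

namespace Base

variable (S : Base D N C t)
include S

theorem C_normal : (C.subgroupOf N).Normal :=
  ⟨fun c hc n => S.C_conj n (S.N_le n.2) c hc⟩

theorem isPretransitive : IsPretransitive X I := by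
  rw [isPretransitive_iff_base t]
  intro i
  obtain ⟨n, -, hn⟩ := S.trans i
  exact ⟨n, hn⟩

theorem mem_C_of_fix {n : X} (hn : n ∈ N) {i : I} (hi : n • i = i) : n ∈ C := by
  obtain ⟨m, hm, rfl⟩ := S.trans i
  have h := S.C_conj m (S.N_le hm) _ (S.stab _ (mul_mem (mul_mem (inv_mem hm) hn) hm)
    (by rw [mul_smul, mul_smul, hi, inv_smul_smul]))
  simpa [mul_assoc] using h

/-- The orthogonality relation. -/
theorem sum_val [Finite X] (n : N) [Decidable ((n : X) ∈ C)] :
    ∑ f : Lam N C, f.val' n = if (n : X) ∈ C then ((C.relIndex N : ℕ) : ℂ) else 0 := by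
  classical
  cases nonempty_fintype X
  haveI := S.C_normal
  let Q := ↥N ⧸ C.subgroupOf N
  letI : Fintype Q := Fintype.ofFinite Q
  have hcomm : ∀ a b : Q, a * b = b * a := fun a b => by
    refine QuotientGroup.induction_on a fun x => QuotientGroup.induction_on b fun y => ?_
    rw [← QuotientGroup.mk_mul, ← QuotientGroup.mk_mul, QuotientGroup.eq, Subgroup.mem_subgroupOf]
    have := S.comm _ (inv_mem y.2) _ (inv_mem x.2)
    simpa [mul_assoc] using this
  let e : Cfsg.IrrCharacter Q ≃ Lam N C :=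
    (Equiv.subtypeUnivEquiv (fun χ : Cfsg.IrrCharacter Q =>
        apply_one_eq_one_of_comm hcomm χ.2)).symm.trans
      (homEquivLinear.symm.trans
        { toFun := fun φ => ⟨φ.comp (QuotientGroup.mk' _), fun c hc => by
            rw [MonoidHom.comp_apply,
              show QuotientGroup.mk' (C.subgroupOf N) c = 1 from (QuotientGroup.eq_one_iff _).2 hc,
              map_one]⟩
          invFun := fun f => QuotientGroup.lift _ f.1 fun c hc => f.2 c hc
          left_inv := fun φ => by
            refine MonoidHom.ext fun q => ?_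
            refine QuotientGroup.induction_on q fun x => ?_
            rfl
          right_inv := fun f => Subtype.ext (MonoidHom.ext fun x => rfl) })
  have hval : ∀ χ : Cfsg.IrrCharacter Q, (e χ).val' n = (χ : Q → ℂ) (QuotientGroup.mk n) := by
    intro χ
    set c : {χ : Cfsg.IrrCharacter Q // (χ : Q → ℂ) 1 = 1} := ⟨χ, apply_one_eq_one_of_comm hcomm χ.2⟩
    have h1 := congrArg (fun z => (z.1 : Q → ℂ) (QuotientGroup.mk n)) (homEquivLinear.apply_symm_apply c)
    exact h1
  rw [← e.sum_comp, Finset.sum_congr rfl fun χ _ => hval χ]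
  have h := regular_eq_sum_irr (QuotientGroup.mk n : Q)
  simp only [apply_one_eq_one_of_comm hcomm (Subtype.prop _), one_mul] at h
  rw [h]
  simp only [Subgroup.relIndex, Subgroup.index, QuotientGroup.eq_one_iff, Subgroup.mem_subgroupOf]

theorem card_Lam [Finite X] : Fintype.card (Lam N C) = C.relIndex N := by
  classical
  have h := S.sum_val (1 : N)
  simpa [Lam.val', one_mem] using h

theorem one_lt_relIndex [Finite X] : 1 < C.relIndex N := by
  have h0 : C.relIndex N ≠ 0 := Subgroup.index_ne_zero_of_finite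
  have h1 : C.relIndex N ≠ 1 := fun h => S.ne (le_antisymm S.C_le (Subgroup.relIndex_eq_one.1 h))
  omega

/-- Conjugate of a linear character by an element of `D`. -/
noncomputable def tw (S : Base D N C t) {x : X} (hx : x ∈ D) (f : Lam N C) : Lam N C :=
  ⟨f.1.comp
    { toFun := fun n => ⟨x * n * x⁻¹, S.N_conj x hx n n.2⟩
      map_one' := Subtype.ext (by simp)
      map_mul' := fun a b => Subtype.ext (by simp [mul_assoc]) },
    fun c hc => f.2 _ (S.C_conj x hx c hc)⟩

theorem tw_apply {x : X} (hx : x ∈ D) (f : Lam N C) (n : N) :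
    (S.tw hx f).1 n = f.1 ⟨x * n * x⁻¹, S.N_conj x hx n n.2⟩ := rfl

theorem tw_of_mem {x : X} (hx : x ∈ N) (f : Lam N C) : S.tw (S.N_le hx) f = f := by
  refine Subtype.ext (MonoidHom.ext fun n => ?_)
  rw [tw_apply]
  have : (⟨x * n * x⁻¹, S.N_conj x (S.N_le hx) n n.2⟩ : N) = ⟨x, hx⟩ * n * ⟨x, hx⟩⁻¹ := rfl
  rw [this, map_mul, map_mul, map_inv]
  exact mul_inv_cancel_comm _ _

theorem tw_tw {x y : X} (hx : x ∈ D) (hy : y ∈ D) (f : Lam N C) :
    S.tw hx (S.tw hy f) = S.tw (mul_mem hy hx) f := by
  refine Subtype.ext (MonoidHom.ext fun n => ?_)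
  rw [tw_apply, tw_apply, tw_apply]
  congr 1
  exact Subtype.ext (by simp [mul_assoc])

/-- Only elements of `N` fix `f`. -/
def StabN (f : Lam N C) : Prop := ∀ (x : X) (hx : x ∈ D), S.tw hx f = f → x ∈ N

end Base

namespace Setup

variable (S : Setup D N C t)
include S

/-- Only elements of `N` fix a non-trivial linear character. -/
theorem mem_of_tw_eq [Finite X] {x : X} (hx : x ∈ D) {f : Lam N C} (hf : f ≠ Lam.one N C)
    (h : S.toBase.tw hx f = f) : x ∈ N := by
  classical
  by_contra hxN
  haveI := S.C_normal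
  let Q := ↥N ⧸ C.subgroupOf N
  have hcomm : ∀ a b : Q, a * b = b * a := fun a b => by
    refine QuotientGroup.induction_on a fun y => QuotientGroup.induction_on b fun z => ?_
    rw [← QuotientGroup.mk_mul, ← QuotientGroup.mk_mul, QuotientGroup.eq, Subgroup.mem_subgroupOf]
    have := S.comm _ (inv_mem z.2) _ (inv_mem y.2)
    simpa [mul_assoc] using this
  let α : N →* N :=
    { toFun := fun n => ⟨x * n * x⁻¹, S.N_conj x hx n n.2⟩
      map_one' := Subtype.ext (by simp)
      map_mul' := fun a b => Subtype.ext (by simp [mul_assoc]) }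
  let k : N →* Q :=
    { toFun := fun n => (QuotientGroup.mk (α n * n⁻¹) : Q)
      map_one' := by simp
      map_mul' := fun a b => by
        simp only [map_mul, mul_inv_rev, QuotientGroup.mk_mul, QuotientGroup.mk_inv]
        rw [hcomm (QuotientGroup.mk b)⁻¹ (QuotientGroup.mk a)⁻¹]
        rw [mul_assoc, mul_assoc, ← mul_assoc (QuotientGroup.mk (α b) : Q),
          hcomm (QuotientGroup.mk (α b) : Q) (QuotientGroup.mk a)⁻¹]
        simp [mul_assoc] }
  have hC : C.subgroupOf N ≤ k.ker := fun c hc => by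
    rw [MonoidHom.mem_ker]
    refine (QuotientGroup.eq_one_iff _).2 ?_
    exact mul_mem (S.C_conj x hx _ hc) (inv_mem hc)
  let g : Q →* Q := QuotientGroup.lift _ k hC
  have hinj : Function.Injective g := by
    rw [← MonoidHom.ker_eq_bot_iff, eq_bot_iff]
    intro q hq
    induction q using QuotientGroup.induction_on with
    | H n =>
      rw [Subgroup.mem_bot, QuotientGroup.eq_one_iff]
      exact ((S.frob x hx n n.2 ((QuotientGroup.eq_one_iff (α n * n⁻¹)).1 (MonoidHom.mem_ker.1 hq))).resolve_left hxN)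
  have hsurj := Finite.injective_iff_surjective.1 hinj
  apply hf
  refine Subtype.ext (MonoidHom.ext fun n => ?_)
  obtain ⟨q, hq⟩ := hsurj (QuotientGroup.mk n)
  induction q using QuotientGroup.induction_on with
  | H m =>
    have hm : (α m * m⁻¹)⁻¹ * n ∈ C.subgroupOf N := QuotientGroup.eq.1 hq
    have h1 := f.2 ((α m * m⁻¹)⁻¹ * n) hm
    have h2 : f.1 (α m) = f.1 m := DFunLike.congr_fun (congrArg Subtype.val h) m
    rw [map_mul, map_inv, map_mul, map_inv, h2, mul_inv_cancel, inv_one, one_mul] at h1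
    exact h1

theorem stabN [Finite X] {f : Lam N C} (hf : f ≠ Lam.one N C) : S.toBase.StabN f := fun _ hx h =>
  S.mem_of_tw_eq hx hf h

end Setup

end CfsgLib.BenderSplit.Glue
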