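import Cfsg.Agent.Lib.CharDeep.SmallDegrees.Gram
import Cfsg.Agent.Lib.Char.Orth
import Cfsg.Agent.Lib.Char.Linear

/-!
# Exceptional characters of a self-centralising abelian subgroup

`K` is abelian, contains the centralizer of each of its non-trivial elements and is a TI set. There
are `s = (|K| - 1)/|N : K|` exceptional irreducible characters if `s ≥ 3`, none if `s = 1`.
-/

set_option autoImplicit false
set_option linter.unusedSectionVars false
set_option linter.style.haveILetI false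

open scoped ComplexConjugate
open Finset CfsgLib.Char

namespace CfsgLib.BenderSplit.LinearExceptional

/-- A non-constant integer vector of least centred norm. -/
theorem shape {O : Type*} [Fintype O] [DecidableEq O] {w : O → ℤ} (hnc : ∃ i k, w i ≠ w k)
    (h : (Fintype.card O : ℤ) * ∑ i, w i ^ 2 - (∑ i, w i) ^ 2 ≤ (Fintype.card O : ℤ) - 1) :
    ∃ (c e : ℤ) (j : O), (e = 1 ∨ e = -1) ∧ ∀ i, w i = c + if i = j then e else 0 := by
  obtain ⟨i, k, hik⟩ := hnc
  obtain ⟨i₀, -, hi₀⟩ := Finset.exists_min_image univ w ⟨i, mem_univ i⟩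
  set u : O → ℤ := fun j => w j - w i₀ with hu
  have hexp : (Fintype.card O : ℤ) * ∑ j, w j ^ 2 - (∑ j, w j) ^ 2 =
      Fintype.card O * ∑ j, u j ^ 2 - (∑ j, u j) ^ 2 := by
    have h1 : ∑ j, w j = ∑ j, u j + Fintype.card O * w i₀ := by
      simp [hu, sum_sub_distrib]
    have h2 : ∑ j, w j ^ 2 = ∑ j, u j ^ 2 + 2 * w i₀ * ∑ j, u j + Fintype.card O * w i₀ ^ 2 := by
      simp only [hu, sub_sq, sum_add_distrib, sum_sub_distrib, sum_const, card_univ, nsmul_eq_mul,
        ← Finset.sum_mul, ← Finset.mul_sum]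
      ring
    rw [h1, h2]
    ring
  rw [hexp] at h
  set S := univ.filter fun j => u j ≠ 0 with hS
  have hu0 : ∀ j, 0 ≤ u j := fun j => sub_nonneg.2 (hi₀ j (mem_univ j))
  have hone : ∀ j ∈ S, 1 ≤ u j := fun j hj => by
    have h1 : u j ≠ 0 := (mem_filter.1 hj).2
    have h2 := hu0 j
    omega
  have hSne : S.Nonempty := by
    by_contra hne
    rw [not_nonempty_iff_eq_empty, hS, filter_eq_empty_iff] at hne
    have a := hne (mem_univ i)
    have b := hne (mem_univ k)
    simp only [hu, sub_ne_zero, not_not] at a b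
    exact hik (a.trans b.symm)
  have hi₀S : i₀ ∉ S := by simp [hS, hu]
  have hlt : S.card < Fintype.card O := card_lt_univ_of_notMem hi₀S
  have hsum2 : ∑ j ∈ S, u j ^ 2 = ∑ j, u j ^ 2 := by
    rw [hS, Finset.sum_filter]
    exact Finset.sum_congr rfl fun j _ => by by_cases e : u j = 0 <;> simp [e]
  have hcs : (∑ j, u j) ^ 2 ≤ S.card * ∑ j, u j ^ 2 := by
    rw [← hsum2]
    calc (∑ j, u j) ^ 2 = (∑ j ∈ S, u j) ^ 2 := by rw [hS, sum_filter_ne_zero]
      _ ≤ _ := sq_sum_le_card_mul_sum_sq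
  have hsq : (S.card : ℤ) ≤ ∑ j, u j ^ 2 := by
    rw [← hsum2, Finset.card_eq_sum_ones, Nat.cast_sum]
    exact sum_le_sum fun j hj => by
      have := hone j hj
      push_cast
      nlinarith
  set t : ℤ := (Fintype.card O : ℤ) with ht
  have h1c : (1 : ℤ) ≤ S.card := by exact_mod_cast hSne.card_pos
  have hct : (S.card : ℤ) ≤ t - 1 := by rw [ht]; omega
  have hprod : (t - S.card) * (S.card : ℤ) ≤ t - 1 := by nlinarith
  have hQ : ∑ j, u j ^ 2 = (S.card : ℤ) := by
    by_contra hne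
    have : (S.card : ℤ) + 1 ≤ ∑ j, u j ^ 2 := by omega
    nlinarith
  have hval : ∀ j ∈ S, u j = 1 := by
    intro j hj
    have h0 : ∑ x ∈ S, (u x ^ 2 - 1) = 0 := by
      rw [Finset.sum_sub_distrib, hsum2, hQ]; simp
    have := (Finset.sum_eq_zero_iff_of_nonneg fun x hx => by nlinarith [hone x hx]).1 h0 j hj
    nlinarith [hone j hj]
  have hcases : S.card = 1 ∨ S.card + 1 = Fintype.card O := by
    by_contra hh
    push Not at hh
    have : (2 : ℤ) ≤ S.card ∧ (S.card : ℤ) ≤ t - 2 := by rw [ht]; omega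
    nlinarith
  rcases hcases with hc | hc
  · obtain ⟨j, hj⟩ := Finset.card_eq_one.1 hc
    refine ⟨w i₀, 1, j, Or.inl rfl, fun x => ?_⟩
    by_cases hx : x = j
    · subst hx
      have := hval x (by simp [hj])
      simp only [hu] at this
      rw [if_pos rfl]; linarith
    · have : x ∉ S := by simp [hj, hx]
      simp only [hS, mem_filter, mem_univ, true_and, not_not, hu, sub_eq_zero] at this
      rw [if_neg hx, this, add_zero]
  · have hc' : Sᶜ.card = 1 := by rw [Finset.card_compl]; omega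
    obtain ⟨j, hj⟩ := Finset.card_eq_one.1 hc'
    refine ⟨w i₀ + 1, -1, j, Or.inr rfl, fun x => ?_⟩
    by_cases hx : x = j
    · subst hx
      have : x ∉ S := Finset.mem_compl.1 (by simp [hj])
      simp only [hS, mem_filter, mem_univ, true_and, not_not, hu, sub_eq_zero] at this
      rw [if_pos rfl, this]; ring
    · have : x ∈ S := by
        by_contra h'
        exact hx (Finset.mem_singleton.1 (hj ▸ Finset.mem_compl.2 h'))
      have := hval x this
      simp only [hu] at this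
      rw [if_neg hx]; linarith

universe u

variable {G : Type u} [Group G] [Fintype G] (K : Subgroup G)

/-- `K` is abelian, self-centralising, TI, and normal of index `2l` in its normaliser. -/
structure SC (l s : ℕ) : Prop where
  comm : ∀ a ∈ K, ∀ b ∈ K, a * b = b * a
  cent : ∀ k ∈ K, k ≠ 1 → ∀ g : G, g * k = k * g → g ∈ K
  ti : ∀ g k : G, k ∈ K → k ≠ 1 → g * k * g⁻¹ ∈ K → g ∈ Subgroup.normalizer (K : Set G)
  card_norm : Nat.card (Subgroup.normalizer (K : Set G)) = 2 * l * Nat.card K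
  card_K : Nat.card K = 2 * l * s + 1
  l_pos : 0 < l

variable {K}

/-- Orthogonality of the linear characters. -/
theorem sum_hom [Fintype K] [Fintype (↥K →* ℂˣ)] [DecidableEq (↥K →* ℂˣ)]
    (f g : ↥K →* ℂˣ) :
    ∑ k : K, (f k : ℂ) * conj (g k : ℂ) = if f = g then (Nat.card K : ℂ) else 0 := by
  classical
  have h := classInner_irr (isIrrCharacter_hom f) (isIrrCharacter_hom g)
  rw [Cfsg.classInner, inv_mul_eq_iff_eq_mul₀ Char.card_ne_zero] at h
  rw [h]
  by_cases e : f = g
  · subst e; simp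
  · rw [if_neg e, if_neg fun e' => e (coe_hom_injective e'), mul_zero]

/-- Conjugation by an element of the normaliser. -/
def cj (n : Subgroup.normalizer (K : Set G)) : K →* K where
  toFun k := ⟨(n : G) * k * (n : G)⁻¹, (Subgroup.mem_normalizer_iff.1 n.2 k).1 k.2⟩
  map_one' := Subtype.ext (by simp)
  map_mul' a b := Subtype.ext (by simp [mul_assoc])

theorem cj_apply (n : Subgroup.normalizer (K : Set G)) (k : K) :
    ((cj n k : K) : G) = (n : G) * k * (n : G)⁻¹ := rfl

variable {l s : ℕ}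

/-- Column orthogonality on `K#`. -/
theorem col [Fintype K] [Fintype (Subgroup.normalizer (K : Set G))] (h : SC K l s) (f g : K → ℂ)
    (hf : f 1 = 0) :
    ∑ χ : Cfsg.IrrCharacter G, (∑ k : K, (χ : G → ℂ) k * f k) * conj (∑ k : K, (χ : G → ℂ) k * g k) =
      ∑ k : K, ∑ n : Subgroup.normalizer (K : Set G), f k * conj (g (cj n k)) := by
  classical
  simp only [map_sum, map_mul, Finset.sum_mul_sum]
  rw [Finset.sum_comm]
  refine Finset.sum_congr rfl fun k _ => ?_
  rw [Finset.sum_comm]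
  have e1 : ∀ k' : K, ∑ χ : Cfsg.IrrCharacter G,
      (χ : G → ℂ) k * f k * (conj ((χ : G → ℂ) k') * conj (g k')) =
      f k * conj (g k') * if IsConj (k : G) k' then
        (Nat.card (Subgroup.centralizer ({(k' : G)} : Set G)) : ℂ) else 0 := fun k' => by
    rw [← sum_irr_mul_conj, Finset.mul_sum]
    exact Finset.sum_congr rfl fun χ _ => by ring
  rw [Finset.sum_congr rfl fun k' _ => e1 k']
  by_cases hk : (k : G) = 1
  · rw [show k = 1 from Subtype.ext hk, hf]; simp
  rw [← Finset.sum_fiberwise (s := (Finset.univ : Finset (Subgroup.normalizer (K : Set G))))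
    (fun n => cj n k) (fun n => f k * conj (g (cj n k)))]
  refine Finset.sum_congr rfl fun k' _ => ?_
  rw [Finset.sum_congr rfl (g := fun _ => f k * conj (g k')) fun n hn => by rw [(Finset.mem_filter.1 hn).2],
    Finset.sum_const, nsmul_eq_mul]
  rw [mul_comm _ (f k * conj (g k'))]
  congr 1
  by_cases hc : IsConj (k : G) k'
  · rw [if_pos hc]
    obtain ⟨c, hck⟩ := isConj_iff.1 hc
    have hcN := h.ti c k k.2 hk (hck ▸ k'.2)
    have hk' : (k' : G) ≠ 1 := fun e => hk (by
      rw [e] at hck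
      exact conj_eq_one_iff.1 hck)
    have hCN : ∀ g ∈ Subgroup.centralizer ({(k' : G)} : Set G), g ∈ Subgroup.normalizer (K : Set G) :=
      fun g hg => Subgroup.le_normalizer
        (h.cent k' k'.2 hk' g ((Subgroup.mem_centralizer_iff.1 hg k' rfl).symm))
    rw [Nat.cast_inj, ← Fintype.card_subtype, ← Nat.card_eq_fintype_card]
    symm
    refine Nat.card_congr
      { toFun := fun n => ⟨(n.1 : G) * c⁻¹, Subgroup.mem_centralizer_iff.2 fun x hx => ?_⟩
        invFun := fun g => ⟨⟨(g : G) * c, mul_mem (hCN g g.2) hcN⟩, Subtype.ext ?_⟩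
        left_inv := fun n => Subtype.ext (Subtype.ext (inv_mul_cancel_right _ _))
        right_inv := fun g => Subtype.ext (mul_inv_cancel_right _ _) }
    · rw [Set.mem_singleton_iff.1 hx]
      have h1 : (n.1 : G) * k * (n.1 : G)⁻¹ = k' := congrArg Subtype.val n.2
      calc (k' : G) * ((n.1 : G) * c⁻¹) = ((n.1 : G) * k * (n.1 : G)⁻¹) * ((n.1 : G) * c⁻¹) := by rw [h1]
        _ = (n.1 : G) * c⁻¹ * (c * k * c⁻¹) := by group
        _ = _ := by rw [hck]
    · show (g : G) * c * k * ((g : G) * c)⁻¹ = k'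
      rw [show (g : G) * c * k * ((g : G) * c)⁻¹ = (g : G) * (c * k * c⁻¹) * (g : G)⁻¹ by group, hck,
        ← Subgroup.mem_centralizer_iff.1 g.2 k' rfl, mul_inv_cancel_right]
  · rw [if_neg hc, Finset.filter_false_of_mem (fun (n : Subgroup.normalizer (K : Set G)) _ (e : cj n k = k') =>
      hc (isConj_iff.2 ⟨(n : G), congrArg Subtype.val e⟩))]
    simp

/-- The linear characters of an abelian group separate points. -/
theorem sum_linear [Fintype K] [DecidableEq K] [Fintype (↥K →* ℂˣ)] (hcomm : ∀ a ∈ K, ∀ b ∈ K, a * b = b * a) (z : K) :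
    ∑ lam : ↥K →* ℂˣ, (lam z : ℂ) = if z = 1 then (Nat.card K : ℂ) else 0 := by
  have hab : ∀ a b : K, a * b = b * a := fun a b => Subtype.ext (hcomm a a.2 b b.2)
  haveI hcomm' : IsMulCommutative K := ⟨⟨hab⟩⟩
  have hc : commutator K = ⊥ := by
    rw [commutator_def, Subgroup.commutator_eq_bot_iff_le_centralizer]
    exact fun a _ => Subgroup.mem_centralizer_iff.2 fun b _ => hab b a
  have hcard : Fintype.card (↥K →* ℂˣ) = Nat.card K := by
    rw [← Nat.card_eq_fintype_card, Nat.card_congr (homEquivLinear (G := K)), card_linear, hc,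
      Subgroup.index_bot]
  by_cases hz : z = 1
  · subst hz; simp [hcard, -Nat.card_eq_fintype_card]
  rw [if_neg hz]
  obtain ⟨mu, hmu⟩ : ∃ mu : ↥K →* ℂˣ, (mu z : ℂ) ≠ 1 := by
    by_contra hall
    refine hz (eq_one_of_forall_irr fun χ => ?_)
    obtain ⟨φ, hφ⟩ := exists_hom_of_apply_one_eq_one (IsIrrCharacter.isCharacter χ.2)
      (apply_one_eq_one_of_comm hab χ.2)
    rw [hφ]
    simpa using not_not.1 fun e => hall ⟨φ, e⟩
  have hs : (mu z : ℂ) * ∑ lam : ↥K →* ℂˣ, (lam z : ℂ) = ∑ lam : ↥K →* ℂˣ, (lam z : ℂ) := by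
    rw [Finset.mul_sum]
    exact Fintype.sum_equiv (Equiv.mulLeft mu) _ _ fun lam => by simp
  exact (mul_left_eq_self₀.1 hs).resolve_left hmu

/-- Only `K` fixes a non-trivial linear character of `K`. -/
theorem mem_of_comp_eq (h : SC K l s) {n : Subgroup.normalizer (K : Set G)} {f : ↥K →* ℂˣ}
    (hf : f ≠ 1) (he : f.comp (cj n) = f) : (n : G) ∈ K := by
  by_contra hn
  have hinj : Function.Injective fun k : K => cj n k * k⁻¹ := by
    intro p q e
    have e' : (n : G) * p * (n : G)⁻¹ * (p : G)⁻¹ = (n : G) * q * (n : G)⁻¹ * (q : G)⁻¹ :=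
      congrArg Subtype.val e
    by_contra hpq
    refine hn (h.cent ((q : G)⁻¹ * p) (mul_mem (inv_mem q.2) p.2)
      (fun e1 => hpq (Subtype.ext (inv_mul_eq_one.1 e1).symm)) n ?_)
    calc (n : G) * ((q : G)⁻¹ * p) = ((n : G) * q * (n : G)⁻¹)⁻¹ * ((n : G) * p * (n : G)⁻¹) * n := by group
      _ = ((n : G) * q * (n : G)⁻¹)⁻¹ * (((n : G) * q * (n : G)⁻¹ * (q : G)⁻¹) * p) * n := by
        rw [← e']; group
      _ = (q : G)⁻¹ * p * n := by group
  refine hf (MonoidHom.ext fun z => ?_)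
  obtain ⟨k, rfl⟩ := Finite.injective_iff_surjective.1 hinj z
  rw [map_mul, map_inv, show f (cj n k) = f k from DFunLike.congr_fun he k, mul_inv_cancel]
  rfl

theorem cj_mul (n n' : Subgroup.normalizer (K : Set G)) (k : K) : cj (n * n') k = cj n (cj n' k) :=
  Subtype.ext (by simp [cj_apply, mul_assoc])

theorem cj_of_mem (h : SC K l s) {n : Subgroup.normalizer (K : Set G)} (hn : (n : G) ∈ K) (k : K) :
    cj n k = k :=
  Subtype.ext (by rw [cj_apply, h.comm _ hn _ k.2, mul_inv_cancel_right])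

theorem exists_exceptional [Fintype K] (h : SC K l s) (hs : s = 1 ∨ 3 ≤ s)
    [DecidableEq (Cfsg.IrrCharacter G)] :
    ∃ (E : Finset (Cfsg.IrrCharacter G)) (a c : Cfsg.IrrCharacter G → ℤ) (e : ℤ),
      (e = 1 ∨ e = -1) ∧ E.card = (if s = 1 then 0 else s) ∧
      (∀ χ : Cfsg.IrrCharacter G, (χ : G → ℂ) 1 =
        ((a χ + Nat.card K * c χ + if χ ∈ E then 2 * l * e else 0 : ℤ) : ℂ)) ∧
      (∀ χ : Cfsg.IrrCharacter G, ∑ k : K, (χ : G → ℂ) k - (χ : G → ℂ) 1 =
        ((2 * l * (s * a χ - if χ ∈ E then e else 0) : ℤ) : ℂ)) ∧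
      ∑ χ : Cfsg.IrrCharacter G, (s * a χ - if χ ∈ E then e else 0) ^ 2 = (s : ℤ) * Nat.card K ∧
      (∀ χ ∈ E, ∀ ψ ∈ E, (χ : G → ℂ) 1 = (ψ : G → ℂ) 1) ∧
      (∀ (μ : Cfsg.IrrCharacter G → ℤ) (C : ℤ),
        (∀ k : K, k ≠ 1 → ∑ χ : Cfsg.IrrCharacter G, (μ χ : ℂ) * (χ : G → ℂ) k = (C : ℂ)) →
        (∀ χ ∈ E, ∀ ψ ∈ E, μ χ = μ ψ) ∧
          ∑ χ : Cfsg.IrrCharacter G, μ χ * (s * a χ - if χ ∈ E then e else 0) = C * s) := by
  classical
  letI : Fintype (Subgroup.normalizer (K : Set G)) := Fintype.ofFinite _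
  haveI : Finite (↥K →* ℂˣ) := by
    haveI : Finite (Cfsg.IrrCharacter K) := (finite_setOf_irr (G := K)).to_subtype
    exact Finite.of_equiv _ homEquivLinear.symm
  letI : Fintype (↥K →* ℂˣ) := Fintype.ofFinite _
  have hm0 : (Nat.card K : ℂ) ≠ 0 := Nat.cast_ne_zero.2 Nat.card_pos.ne'
  have hK : (Nat.card K : ℂ) = 2 * l * s + 1 := by rw [h.card_K]; push_cast; ring
  have hN : (Fintype.card (Subgroup.normalizer (K : Set G)) : ℂ) = 2 * l * Nat.card K := by
    rw [← Nat.card_eq_fintype_card, h.card_norm]; push_cast; ring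
  have hl0 : (2 * l : ℂ) ≠ 0 := mul_ne_zero two_ne_zero (Nat.cast_ne_zero.2 h.l_pos.ne')
  -- multiplicities
  choose c hc using fun (χ : Cfsg.IrrCharacter G) (f : ↥K →* ℂˣ) =>
    IsCharacter.classInner_nat (IsCharacter.restrict (isCharacter_irr χ) K) (isCharacter_hom f)
  have hcm : ∀ (χ : Cfsg.IrrCharacter G) (f : ↥K →* ℂˣ),
      ∑ k : K, (χ : G → ℂ) k * conj (f k : ℂ) = (Nat.card K : ℂ) * c χ f := by
    intro χ f
    rw [← hc, Cfsg.classInner, ← mul_assoc, mul_inv_cancel₀ hm0, one_mul]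
  have hcinv : ∀ χ f (n : Subgroup.normalizer (K : Set G)), c χ (f.comp (cj n)) = c χ f := by
    intro χ f n
    have e : (Nat.card K : ℂ) * c χ (f.comp (cj n)) = (Nat.card K : ℂ) * c χ f := by
      rw [← hcm, ← hcm]
      let e : K ≃ K :=
        { toFun := cj n, invFun := cj n⁻¹
          left_inv := fun k => by rw [← cj_mul, inv_mul_cancel]; exact Subtype.ext (by simp [cj_apply])
          right_inv := fun k => by rw [← cj_mul, mul_inv_cancel]; exact Subtype.ext (by simp [cj_apply]) }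
      refine Fintype.sum_equiv e _ _ fun k => ?_
      show _ = (χ : G → ℂ) ((n : G) * k * (n : G)⁻¹) * conj (f (cj n k) : ℂ)
      rw [IsIrrCharacter.isClassFunction χ.2]
      rfl
    exact_mod_cast mul_left_cancel₀ hm0 e
  -- orbits
  let r : Setoid {f : ↥K →* ℂˣ // f ≠ 1} :=
    { r := fun f g => ∃ n : Subgroup.normalizer (K : Set G), f.1.comp (cj n) = g.1
      iseqv :=
        ⟨fun f => ⟨1, MonoidHom.ext fun k => congrArg f.1 (cj_of_mem h (one_mem K) k)⟩,
          fun {f g} ⟨n, e⟩ => ⟨n⁻¹, MonoidHom.ext fun k => by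
            rw [← e, MonoidHom.comp_apply, MonoidHom.comp_apply, ← cj_mul, mul_inv_cancel,
              cj_of_mem h (one_mem K) k]⟩,
          fun {f g g'} ⟨n, e⟩ ⟨n', e'⟩ => ⟨n * n', MonoidHom.ext fun k => by
            rw [← e', ← e, MonoidHom.comp_apply, MonoidHom.comp_apply, MonoidHom.comp_apply, cj_mul]⟩⟩ }
  let O := Quotient r
  letI : Fintype O := Fintype.ofFinite _
  let rep : O → (↥K →* ℂˣ) := fun o => o.out.1
  have hrep1 : ∀ o, rep o ≠ 1 := fun o => o.out.2
  have hrep : ∀ {o o' : O} (n : Subgroup.normalizer (K : Set G)),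
      (rep o).comp (cj n) = rep o' → o = o' := by
    intro o o' n e
    rw [← Quotient.out_eq o, ← Quotient.out_eq o']
    exact Quotient.sound ⟨n, e⟩
  have hcount : ∀ o o' : O, ((Finset.univ.filter fun n : Subgroup.normalizer (K : Set G) =>
      (rep o).comp (cj n) = rep o').card : ℂ) = if o = o' then (Nat.card K : ℂ) else 0 := by
    intro o o'
    by_cases e : o = o'
    · subst e
      rw [if_pos rfl, Nat.cast_inj, ← Fintype.card_subtype, ← Nat.card_eq_fintype_card]
      exact Nat.card_congr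
        { toFun := fun n => ⟨n.1, mem_of_comp_eq h (hrep1 o) n.2⟩
          invFun := fun k => ⟨⟨k, Subgroup.le_normalizer k.2⟩,
            MonoidHom.ext fun x => congrArg (rep o) (cj_of_mem h k.2 x)⟩
          left_inv := fun _ => rfl
          right_inv := fun _ => rfl }
    · rw [if_neg e, Finset.filter_false_of_mem fun n _ e' => e (hrep n e')]
      simp
  -- a sum over the non-trivial characters
  have horb : ∀ F : (↥K →* ℂˣ) → ℂ, (∀ f n, F (f.comp (cj n)) = F f) →
      ∑ f : {f : ↥K →* ℂˣ // f ≠ 1}, F f.1 = (2 * l : ℂ) * ∑ o : O, F (rep o) := by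
    intro F hF
    rw [← Finset.sum_fiberwise (s := (Finset.univ : Finset {f : ↥K →* ℂˣ // f ≠ 1}))
      (fun f => (Quotient.mk r f : O)) (fun f => F f.1), Finset.mul_sum]
    refine Finset.sum_congr rfl fun o _ => ?_
    have hval : ∀ f ∈ Finset.univ.filter (fun f : {f : ↥K →* ℂˣ // f ≠ 1} => (Quotient.mk r f : O) = o),
        F f.1 = F (rep o) := by
      intro f hf
      obtain ⟨n, e⟩ := Quotient.exact ((Quotient.out_eq o).trans (Finset.mem_filter.1 hf).2.symm)
      rw [← e, hF]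
    rw [Finset.sum_congr rfl hval, Finset.sum_const, nsmul_eq_mul]
    congr 1
    apply mul_right_cancel₀ hm0
    rw [← hN, ← Finset.card_univ, Finset.card_eq_sum_card_fiberwise
      (f := fun n : Subgroup.normalizer (K : Set G) =>
        (⟨(rep o).comp (cj n), fun e => hrep1 o (MonoidHom.ext fun k => by
          have h0 := DFunLike.congr_fun e (cj n⁻¹ k)
          rw [MonoidHom.comp_apply, ← cj_mul, mul_inv_cancel, cj_of_mem h (one_mem K)] at h0
          exact h0)⟩ : {f : ↥K →* ℂˣ // f ≠ 1}))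
      (t := Finset.univ.filter fun f => (Quotient.mk r f : O) = o)
      (fun n _ => Finset.mem_filter.2 ⟨Finset.mem_univ _, by
        conv_rhs => rw [← Quotient.out_eq o]
        exact (Quotient.sound (s := r) ⟨n, rfl⟩).symm⟩), Nat.cast_sum,
      ← nsmul_eq_mul, ← Finset.sum_const]
    refine Finset.sum_congr rfl fun f hf => ?_
    obtain ⟨n₀, e₀⟩ := Quotient.exact ((Quotient.out_eq o).trans (Finset.mem_filter.1 hf).2.symm)
    rw [← Fintype.card_subtype, ← Nat.card_eq_fintype_card, Nat.cast_inj]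
    refine Nat.card_congr
      { toFun := fun k => ⟨⟨k, Subgroup.le_normalizer k.2⟩ * n₀, Subtype.ext (MonoidHom.ext fun x => ?_)⟩
        invFun := fun n => ⟨(n.1 : G) * (n₀ : G)⁻¹, ?_⟩
        left_inv := fun k => Subtype.ext (mul_inv_cancel_right _ _)
        right_inv := fun n => Subtype.ext (Subtype.ext (inv_mul_cancel_right _ _)) }
    · rw [← e₀, MonoidHom.comp_apply, MonoidHom.comp_apply, cj_mul, cj_of_mem h k.2]
    · refine mem_of_comp_eq h (n := n.1 * n₀⁻¹) (hrep1 o) (MonoidHom.ext fun x => ?_)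
      rw [MonoidHom.comp_apply, cj_mul, ← MonoidHom.comp_apply (rep o) (cj n.1),
        show (rep o).comp (cj n.1) = f.1 from congrArg Subtype.val n.2, ← e₀, MonoidHom.comp_apply,
        ← cj_mul, mul_inv_cancel, cj_of_mem h (one_mem K)]
  have hsplit : ∀ F : (↥K →* ℂˣ) → ℂ,
      ∑ f, F f = F 1 + ∑ f : {f : ↥K →* ℂˣ // f ≠ 1}, F f.1 := fun F => by
    rw [Fintype.sum_eq_add_sum_subtype_ne F 1]
  have hsO : Fintype.card O = s := by
    have h1 := sum_linear h.comm (1 : K)
    rw [hsplit, horb (fun f => (f 1 : ℂ)) fun f n => by simp] at h1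
    simp [hK, -Nat.card_eq_fintype_card] at h1
    have : (2 * l : ℂ) * (Fintype.card O : ℂ) = 2 * l * s := by linear_combination h1
    exact_mod_cast mul_left_cancel₀ hl0 this
  set cv : Cfsg.IrrCharacter G → O → ℤ := fun χ o => c χ (rep o) with hcv
  set σ : Cfsg.IrrCharacter G → ℤ := fun χ => ∑ o, cv χ o with hσ
  have hdeg : ∀ χ : Cfsg.IrrCharacter G, (χ : G → ℂ) 1 = (c χ 1 : ℂ) + 2 * l * (σ χ : ℂ) := by
    intro χ
    apply mul_left_cancel₀ hm0
    calc (Nat.card K : ℂ) * (χ : G → ℂ) 1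
        = ∑ k : K, (χ : G → ℂ) k * ∑ f : ↥K →* ℂˣ, conj (f k : ℂ) := by
          simp only [← map_sum, sum_linear h.comm]
          rw [Finset.sum_eq_single (1 : K) (fun k _ hk => by
            rw [if_neg hk, map_zero, mul_zero]) fun hh => absurd (Finset.mem_univ _) hh]
          rw [if_pos rfl, map_natCast, Subgroup.coe_one, mul_comm]
      _ = ∑ f : ↥K →* ℂˣ, (Nat.card K : ℂ) * c χ f := by
          simp only [← hcm, Finset.mul_sum]
          exact Finset.sum_comm
      _ = _ := by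
          rw [← Finset.mul_sum, hsplit, horb (fun f => (c χ f : ℂ)) fun f n => by rw [hcinv]]
          simp [hσ, hcv]
  have hA : ∀ χ : Cfsg.IrrCharacter G, ∑ k : K, (χ : G → ℂ) k - (χ : G → ℂ) 1 =
      ((2 * l * ((s : ℤ) * c χ 1 - σ χ) : ℤ) : ℂ) := by
    intro χ
    have h1 := hcm χ 1
    simp [-Nat.card_eq_fintype_card] at h1
    rw [h1, hdeg, hK]
    push_cast
    ring
  have hS2 : ∑ χ : Cfsg.IrrCharacter G, ((s : ℤ) * c χ 1 - σ χ) ^ 2 = (s : ℤ) * Nat.card K := by
    let f : K → ℂ := fun k => if k = 1 then 0 else 1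
    have hfs : ∀ χ : Cfsg.IrrCharacter G,
        ∑ k : K, (χ : G → ℂ) k * f k = ∑ k : K, (χ : G → ℂ) k - (χ : G → ℂ) 1 := fun χ => by
      rw [← Finset.add_sum_erase _ _ (Finset.mem_univ (1 : K)),
        ← Finset.add_sum_erase _ (fun k : K => (χ : G → ℂ) k) (Finset.mem_univ (1 : K))]
      simp only [f, if_pos, mul_zero, zero_add, Subgroup.coe_one, add_sub_cancel_left]
      exact Finset.sum_congr rfl fun k hk => by rw [if_neg (Finset.ne_of_mem_erase hk), mul_one]
    have h1 := col h f f (if_pos rfl)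
    simp only [hfs, hA, map_intCast] at h1
    have h2 : ∑ k : K, ∑ n : Subgroup.normalizer (K : Set G), f k * conj (f (cj n k)) =
        (2 * l * s : ℂ) * (2 * l * Nat.card K) := by
      rw [← Finset.add_sum_erase _ _ (Finset.mem_univ (1 : K)),
        Finset.sum_eq_zero (s := (Finset.univ : Finset (Subgroup.normalizer (K : Set G)))) (fun n _ => by
          simp [f]), zero_add,
        Finset.sum_congr rfl (g := fun _ => (Fintype.card (Subgroup.normalizer (K : Set G)) : ℂ))
          fun k hk => ?_, Finset.sum_const, Finset.card_erase_of_mem (Finset.mem_univ _), Finset.card_univ,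
        ← Nat.card_eq_fintype_card (α := K), h.card_K, Nat.add_sub_cancel, nsmul_eq_mul, hN, h.card_K]
      · push_cast; ring
      · have hk1 := Finset.ne_of_mem_erase hk
        rw [Finset.sum_congr rfl (g := fun _ => (1 : ℂ)) fun n _ => ?_]
        · simp [-Nat.card_eq_fintype_card]
        · have : cj n k ≠ 1 := fun e => hk1 (Subtype.ext (conj_eq_one_iff.1 (congrArg Subtype.val e)))
          simp [f, hk1, this]
    rw [h2] at h1
    have h3 : ((∑ χ : Cfsg.IrrCharacter G, ((s : ℤ) * c χ 1 - σ χ) ^ 2 : ℤ) : ℂ) * (2 * l) ^ 2 =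
        (((s : ℤ) * Nat.card K : ℤ) : ℂ) * (2 * l) ^ 2 := by
      push_cast
      push_cast at h1
      rw [Finset.sum_mul, show (s : ℂ) * Nat.card K * (2 * l) ^ 2 = 2 * l * s * (2 * l * Nat.card K) by ring, ← h1]
      exact Finset.sum_congr rfl fun χ _ => by ring
    exact_mod_cast mul_right_cancel₀ (pow_ne_zero 2 hl0) h3
  have hmu : ∀ (μ : Cfsg.IrrCharacter G → ℤ) (C : ℤ),
      (∀ k : K, k ≠ 1 → ∑ χ : Cfsg.IrrCharacter G, (μ χ : ℂ) * (χ : G → ℂ) k = (C : ℂ)) →
      (∀ i j : O, ∑ χ, μ χ * (cv χ i - cv χ j) = 0) ∧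
        ∑ χ, μ χ * ((s : ℤ) * c χ 1 - σ χ) = C * s := by
    intro μ C hC
    have hpair : ∀ f : K → ℂ, f 1 = 0 →
        ∑ χ : Cfsg.IrrCharacter G, (μ χ : ℂ) * ∑ k : K, (χ : G → ℂ) k * f k = C * ∑ k : K, f k := by
      intro f hf
      simp only [Finset.mul_sum]
      rw [Finset.sum_comm]
      refine Finset.sum_congr rfl fun k _ => ?_
      by_cases hk : k = 1
      · subst hk; simp [hf]
      · rw [← hC k hk, Finset.sum_mul]
        exact Finset.sum_congr rfl fun χ _ => by ring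
    refine ⟨fun i j => ?_, ?_⟩
    · have h1 := hpair (fun k => conj (rep i k : ℂ) - conj (rep j k : ℂ)) (by simp)
      have h2 : ∀ i : O, ∑ k : K, conj (rep i k : ℂ) = 0 := fun i => by
        have := sum_hom (1 : ↥K →* ℂˣ) (rep i)
        rw [if_neg (Ne.symm (hrep1 i))] at this
        simpa using this
      rw [Finset.sum_sub_distrib, h2, h2] at h1
      simp only [mul_sub, Finset.sum_sub_distrib, hcm] at h1
      have h3 : (Nat.card K : ℂ) * ((∑ χ, μ χ * (cv χ i - cv χ j) : ℤ) : ℂ) = (Nat.card K : ℂ) * 0 := by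
        rw [mul_zero]
        push_cast
        rw [Finset.mul_sum]
        simp only [sub_zero, mul_zero] at h1
        rw [← h1, ← Finset.sum_sub_distrib]
        exact Finset.sum_congr rfl fun χ _ => by simp [hcv]; ring
      exact_mod_cast mul_left_cancel₀ hm0 h3
    · have h1 := hpair (fun k => if k = 1 then 0 else 1) (if_pos rfl)
      have h2 : ∀ F : K → ℂ, ∑ k : K, F k * (if k = 1 then 0 else 1) = ∑ k : K, F k - F 1 := fun F => by
        rw [eq_sub_iff_add_eq, ← Finset.sum_ite_eq' Finset.univ (1 : K) F |>.trans (if_pos (Finset.mem_univ _)),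
          ← Finset.sum_add_distrib]
        exact Finset.sum_congr rfl fun k _ => by split_ifs with e <;> simp
      have h3 : ∑ k : K, (if k = 1 then (0 : ℂ) else 1) = 2 * l * s := by
        have := h2 fun _ => 1
        simp only [one_mul] at this
        rw [this, Finset.sum_const, Finset.card_univ, ← Nat.card_eq_fintype_card, nsmul_eq_mul, hK]
        ring
      simp only [h2, Subgroup.coe_one, hA] at h1
      rw [h3] at h1
      have h4 : (2 * l : ℂ) * ((∑ χ, μ χ * ((s : ℤ) * c χ 1 - σ χ) : ℤ) : ℂ) =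
          (2 * l : ℂ) * ((C * s : ℤ) : ℂ) := by
        push_cast
        push_cast at h1
        rw [show (2 * l : ℂ) * ((C : ℂ) * s) = C * (2 * l * s) by ring, ← h1, Finset.mul_sum]
        exact Finset.sum_congr rfl fun χ _ => by ring
      exact_mod_cast mul_left_cancel₀ hl0 h4
  rcases hs with hs1 | hs3
  · -- one orbit
    subst hs1
    obtain ⟨o₀, ho₀⟩ := Fintype.card_eq_one_iff.1 hsO
    have hσ1 : ∀ χ, σ χ = cv χ o₀ := fun χ => by
      show ∑ o, cv χ o = _
      rw [Finset.sum_eq_single o₀ (fun o _ ho => absurd (ho₀ o) ho) (fun hh => absurd (Finset.mem_univ _) hh)]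
    refine ⟨∅, fun χ => c χ 1 - σ χ, σ, 1, Or.inl rfl, by simp, fun χ => ?_, fun χ => ?_, ?_,
      fun χ hχ => absurd hχ (Finset.notMem_empty _), fun μ C hC => ⟨fun χ hχ => absurd hχ (Finset.notMem_empty _), ?_⟩⟩
    · rw [hdeg, if_neg (Finset.notMem_empty _)]
      push_cast
      rw [hK]
      push_cast
      ring
    · rw [hA, if_neg (Finset.notMem_empty _)]; push_cast; ring
    · simpa using hS2
    · simpa using (hmu μ C hC).2
  -- at least three orbits
  set E := (Finset.univ : Finset (Cfsg.IrrCharacter G)).filter fun χ => ∃ i j, cv χ i ≠ cv χ j with hE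
  have hconst : ∀ χ ∉ E, ∀ i j, cv χ i = cv χ j := by
    intro χ hχ i j
    by_contra hh
    exact hχ (Finset.mem_filter.2 ⟨Finset.mem_univ _, i, j, hh⟩)
  have hout : ∀ F : Cfsg.IrrCharacter G → ℤ, (∀ χ ∉ E, F χ = 0) → ∑ χ ∈ E, F χ = ∑ χ, F χ :=
    fun F hF => Finset.sum_subset (Finset.subset_univ E) fun χ _ hχ => hF χ hχ
  have hg : ∀ i k p q : O, ∑ χ ∈ E, (cv χ i - cv χ k) * (cv χ p - cv χ q) =
      (if i = p then 1 else 0) - (if i = q then 1 else 0) - (if k = p then 1 else 0) +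
        (if k = q then 1 else 0) := by
    intro i k p q
    rw [hout _ fun χ hχ => by rw [hconst χ hχ i k, sub_self, zero_mul]]
    let f : O → O → K → ℂ := fun i k x => conj (rep i x : ℂ) - conj (rep k x : ℂ)
    have hf : ∀ (χ : Cfsg.IrrCharacter G) i k,
        ∑ x : K, (χ : G → ℂ) x * f i k x = (Nat.card K : ℂ) * ((cv χ i - cv χ k : ℤ) : ℂ) := by
      intro χ i k
      simp only [f, mul_sub, Finset.sum_sub_distrib, hcm, hcv]
      push_cast
      ring
    have h1 := col h (f i k) (f p q) (by simp [f])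
    simp only [hf, map_mul, map_natCast, map_intCast] at h1
    have hd : ∀ i p : O, ∑ n : Subgroup.normalizer (K : Set G), ∑ x : K,
        conj (rep i x : ℂ) * (rep p (cj n x) : ℂ) = (Nat.card K : ℂ) * Nat.card K * if i = p then 1 else 0 := by
      intro i p
      have e1 : ∀ n : Subgroup.normalizer (K : Set G), ∑ x : K, conj (rep i x : ℂ) * (rep p (cj n x) : ℂ) =
          if (rep p).comp (cj n) = rep i then (Nat.card K : ℂ) else 0 := fun n => by
        rw [← sum_hom ((rep p).comp (cj n)) (rep i)]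
        exact Finset.sum_congr rfl fun x _ => by rw [mul_comm, MonoidHom.comp_apply]
      rw [Finset.sum_congr rfl fun n _ => e1 n, ← Finset.sum_filter, Finset.sum_const, nsmul_eq_mul, hcount]
      by_cases e : i = p
      · subst e; simp
      · rw [if_neg e, if_neg (Ne.symm e)]; ring
    have h2 : ∑ x : K, ∑ n : Subgroup.normalizer (K : Set G), f i k x * conj (f p q (cj n x)) =
        (Nat.card K : ℂ) * Nat.card K * ((if i = p then 1 else 0) - (if i = q then 1 else 0) -
          (if k = p then 1 else 0) + (if k = q then 1 else 0)) := by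
      rw [Finset.sum_comm, mul_add, mul_sub, mul_sub, ← hd, ← hd, ← hd, ← hd, ← Finset.sum_sub_distrib,
        ← Finset.sum_sub_distrib, ← Finset.sum_add_distrib]
      refine Finset.sum_congr rfl fun n _ => ?_
      rw [← Finset.sum_sub_distrib, ← Finset.sum_sub_distrib, ← Finset.sum_add_distrib]
      refine Finset.sum_congr rfl fun x _ => ?_
      simp only [f, map_sub, Complex.conj_conj]
      ring
    rw [h2] at h1
    have h3 : ((∑ χ, (cv χ i - cv χ k) * (cv χ p - cv χ q) : ℤ) : ℂ) * ((Nat.card K : ℂ) * Nat.card K) =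
        (((if i = p then 1 else 0) - (if i = q then 1 else 0) - (if k = p then 1 else 0) +
          (if k = q then 1 else 0) : ℤ) : ℂ) * ((Nat.card K : ℂ) * Nat.card K) := by
      push_cast
      push_cast at h1
      rw [mul_comm _ ((Nat.card K : ℂ) * Nat.card K), mul_comm _ ((Nat.card K : ℂ) * Nat.card K), ← h1,
        Finset.mul_sum]
      exact Finset.sum_congr rfl fun χ _ => by ring
    exact_mod_cast mul_right_cancel₀ (mul_ne_zero hm0 hm0) h3
  choose d hdN using fun χ : Cfsg.IrrCharacter G => IsCharacter.apply_one_eq (isCharacter_irr χ)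
  have hdmu : ∀ k : K, k ≠ 1 →
      ∑ χ : Cfsg.IrrCharacter G, (((d χ : ℤ) : ℂ)) * (χ : G → ℂ) k = ((0 : ℤ) : ℂ) := by
    intro k hk
    have := regular_eq_sum_irr (k : G)
    rw [if_neg (fun e : (k : G) = 1 => hk (Subtype.ext e))] at this
    rw [Int.cast_zero, ← this]
    exact Finset.sum_congr rfl fun χ _ => by rw [hdN, Int.cast_natCast]
  have hdiff : ∀ (μ : Cfsg.IrrCharacter G → ℤ), (∀ i j : O, ∑ χ, μ χ * (cv χ i - cv χ j) = 0) →
      ∀ i j : O, ∑ χ ∈ E, μ χ * (cv χ i - cv χ j) = 0 := fun μ hμ i j => by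
    rw [hout _ fun χ hχ => by rw [hconst χ hχ i j, sub_self, mul_zero], hμ]
  obtain ⟨hcard, hdeq⟩ := CharDeep.SmallDegrees.card_eq_and_weight_eq E cv (fun χ => (d χ : ℤ))
    (fun χ _ => by
      have := IsIrrCharacter.apply_one_ne_zero χ.2
      rw [hdN] at this
      exact_mod_cast Nat.pos_of_ne_zero fun e => this (by simp [e]))
    (fun χ hχ => (Finset.mem_filter.1 hχ).2) hg (hdiff _ (hmu _ 0 hdmu).1) (by omega)
  -- shapes
  have hmin : ∀ χ ∈ E, (s : ℤ) * ∑ i, cv χ i ^ 2 - (∑ i, cv χ i) ^ 2 ≤ (s : ℤ) - 1 := by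
    intro χ hχ
    have hlow : ∀ ψ ∈ E, (0 : ℤ) ≤ (s : ℤ) * ∑ i, cv ψ i ^ 2 - (∑ i, cv ψ i) ^ 2 - ((s : ℤ) - 1) := by
      intro ψ hψ
      have := CharDeep.SmallDegrees.le_card_mul_sum_sq_sub (Finset.mem_filter.1 hψ).2
      rw [hsO] at this
      linarith
    have htot : 2 * ∑ ψ ∈ E, ((s : ℤ) * ∑ i, cv ψ i ^ 2 - (∑ i, cv ψ i) ^ 2) = 2 * ((s : ℤ) * (s - 1)) := by
      calc 2 * ∑ ψ ∈ E, ((s : ℤ) * ∑ i, cv ψ i ^ 2 - (∑ i, cv ψ i) ^ 2)
          = ∑ ψ ∈ E, ∑ i, ∑ j, (cv ψ i - cv ψ j) * (cv ψ i - cv ψ j) := by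
            rw [Finset.mul_sum]
            refine Finset.sum_congr rfl fun ψ _ => ?_
            simp only [sub_mul, mul_sub, Finset.sum_sub_distrib, Finset.sum_const, Finset.card_univ, hsO,
              nsmul_eq_mul, ← Finset.mul_sum, ← Finset.sum_mul, sq]
            ring
        _ = ∑ i : O, ∑ j : O, ∑ ψ ∈ E, (cv ψ i - cv ψ j) * (cv ψ i - cv ψ j) := by
            rw [Finset.sum_comm]
            exact Finset.sum_congr rfl fun i _ => Finset.sum_comm
        _ = _ := by
            have e : ∀ x : O, ∑ y : O, (if x = y then (1 : ℤ) else 0) = 1 := fun x => by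
              rw [Finset.sum_eq_single x (fun y _ hy => if_neg (Ne.symm hy))
                (fun hh => absurd (Finset.mem_univ _) hh), if_pos rfl]
            have e' : ∀ x : O, ∑ y : O, (if y = x then (1 : ℤ) else 0) = 1 := fun x => by
              rw [Finset.sum_eq_single x (fun y _ hy => if_neg hy)
                (fun hh => absurd (Finset.mem_univ _) hh), if_pos rfl]
            simp only [hg, if_pos, Finset.sum_add_distrib, Finset.sum_sub_distrib, e, e', Finset.sum_const,
              Finset.card_univ, hsO, nsmul_eq_mul]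
            ring
    have hzero : ∑ ψ ∈ E, ((s : ℤ) * ∑ i, cv ψ i ^ 2 - (∑ i, cv ψ i) ^ 2 - ((s : ℤ) - 1)) = 0 := by
      rw [Finset.sum_sub_distrib, Finset.sum_const, hcard, hsO, nsmul_eq_mul]
      linarith
    have := (Finset.sum_eq_zero_iff_of_nonneg hlow).1 hzero χ hχ
    linarith
  have hsh : ∀ χ ∈ E, ∃ (b e : ℤ) (j : O), (e = 1 ∨ e = -1) ∧ ∀ i, cv χ i = b + if i = j then e else 0 :=
    fun χ hχ => shape (Finset.mem_filter.1 hχ).2 (by rw [hsO]; exact hmin χ hχ)
  haveI : Nonempty O := Fintype.card_pos_iff.1 (by omega)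
  choose! bb ee jj hee hcvE using hsh
  have hNpair : ∀ i k : O, i ≠ k → (E.filter fun χ => jj χ = i).card + (E.filter fun χ => jj χ = k).card = 2 := by
    intro i k hik
    have h1 := hg i k i k
    rw [if_pos rfl, if_pos rfl, if_neg hik, if_neg (Ne.symm hik)] at h1
    have h2 : ∀ χ ∈ E, (cv χ i - cv χ k) * (cv χ i - cv χ k) =
        (if jj χ = i then 1 else 0) + if jj χ = k then 1 else 0 := by
      intro χ hχ
      have h3 : ee χ * ee χ = 1 := by rcases hee χ hχ with e | e <;> simp [e]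
      rw [hcvE χ hχ i, hcvE χ hχ k]
      by_cases e1 : jj χ = i
      · rw [e1, if_pos rfl, if_neg (Ne.symm hik), if_pos rfl, if_neg hik]
        linear_combination h3
      · by_cases e2 : jj χ = k
        · rw [e2, if_neg hik, if_pos rfl, if_neg (Ne.symm hik), if_pos rfl]
          linear_combination h3
        · rw [if_neg (Ne.symm e1), if_neg (Ne.symm e2), if_neg e1, if_neg e2]
          ring
    rw [Finset.sum_congr rfl h2, Finset.sum_add_distrib, Finset.sum_boole, Finset.sum_boole] at h1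
    push_cast at h1
    omega
  have huniq : ∀ i : O, (E.filter fun χ => jj χ = i).card = 1 := by
    intro i
    obtain ⟨k, hk⟩ := Fintype.exists_ne_of_one_lt_card (show 1 < Fintype.card O by omega) i
    obtain ⟨p, hp⟩ : ((Finset.univ.erase i).erase k).Nonempty := by
      rw [← Finset.card_pos, Finset.card_erase_of_mem (Finset.mem_erase.2 ⟨hk, Finset.mem_univ _⟩),
        Finset.card_erase_of_mem (Finset.mem_univ _), Finset.card_univ]
      omega
    obtain ⟨hpk, hpi⟩ : p ≠ k ∧ p ≠ i := by simpa [Finset.mem_erase] using hp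
    have h1 := hNpair i k (Ne.symm hk)
    have h2 := hNpair i p (Ne.symm hpi)
    have h3 := hNpair k p (Ne.symm hpk)
    omega
  have hinjj : ∀ χ ∈ E, ∀ ψ ∈ E, jj χ = jj ψ → χ = ψ := by
    intro χ hχ ψ hψ e
    exact Finset.card_le_one.1 (huniq (jj χ)).le χ (Finset.mem_filter.2 ⟨hχ, rfl⟩) ψ
      (Finset.mem_filter.2 ⟨hψ, e.symm⟩)
  have hflat : ∀ μ : Cfsg.IrrCharacter G → ℤ, (∀ i j : O, ∑ χ, μ χ * (cv χ i - cv χ j) = 0) →
      ∀ χ ∈ E, ∀ ψ ∈ E, μ χ * ee χ = μ ψ * ee ψ := by
    intro μ hμ χ hχ ψ hψ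
    by_cases e : χ = ψ
    · rw [e]
    have hne : jj χ ≠ jj ψ := fun e' => e (hinjj χ hχ ψ hψ e')
    have h1 := hdiff μ hμ (jj χ) (jj ψ)
    rw [← Finset.sum_subset (s₁ := {χ, ψ}) (by simp [Finset.insert_subset_iff, hχ, hψ]) fun φ hφ hφ' => by
      simp only [Finset.mem_insert, Finset.mem_singleton, not_or] at hφ'
      rw [hcvE φ hφ, hcvE φ hφ, if_neg fun e' => hφ'.1 (hinjj φ hφ χ hχ e'.symm),
        if_neg fun e' => hφ'.2 (hinjj φ hφ ψ hψ e'.symm)]
      ring, Finset.sum_pair e, hcvE χ hχ, hcvE χ hχ, hcvE ψ hψ, hcvE ψ hψ, if_pos rfl,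
      if_neg (Ne.symm hne), if_neg hne, if_pos rfl] at h1
    linarith
  obtain ⟨χ₀, hχ₀⟩ : E.Nonempty := Finset.card_pos.1 (by omega)
  have hecommon : ∀ χ ∈ E, ee χ = ee χ₀ := by
    intro χ hχ
    have h1 := hflat _ (hmu _ 0 hdmu).1 χ hχ χ₀ hχ₀
    rw [hdeq χ hχ χ₀ hχ₀] at h1
    refine mul_left_cancel₀ ?_ h1
    have := IsIrrCharacter.apply_one_ne_zero χ₀.2
    rw [hdN] at this
    exact_mod_cast this
  set e := ee χ₀
  obtain ⟨o₀⟩ := (inferInstance : Nonempty O)
  set base : Cfsg.IrrCharacter G → ℤ := fun χ => if χ ∈ E then bb χ else cv χ o₀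
  have hσE : ∀ χ, σ χ = (s : ℤ) * base χ + if χ ∈ E then e else 0 := by
    intro χ
    by_cases hχ : χ ∈ E
    · simp only [hσ, base, if_pos hχ]
      rw [Finset.sum_congr rfl fun i _ => hcvE χ hχ i, Finset.sum_add_distrib, Finset.sum_const,
        Finset.card_univ, hsO, Finset.sum_ite_eq', if_pos (Finset.mem_univ _), nsmul_eq_mul, hecommon χ hχ]
    · simp only [hσ, base, if_neg hχ, add_zero]
      rw [Finset.sum_congr rfl fun i _ => hconst χ hχ i o₀, Finset.sum_const, Finset.card_univ, hsO,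
        nsmul_eq_mul]
  have hkey : ∀ χ, (s : ℤ) * c χ 1 - σ χ = s * (c χ 1 - base χ) - if χ ∈ E then e else 0 := fun χ => by
    rw [hσE]; ring
  refine ⟨E, fun χ => c χ 1 - base χ, base, e, hee χ₀ hχ₀, ?_, fun χ => ?_, fun χ => ?_, ?_, ?_, ?_⟩
  · rw [if_neg (by omega), hcard, hsO]
  · rw [hdeg, hσE]
    split_ifs <;> push_cast <;> rw [hK] <;> ring
  · rw [hA, hkey]
  · rw [← hS2]
    exact Finset.sum_congr rfl fun χ _ => by rw [hkey]
  · intro χ hχ ψ hψ
    rw [hdN, hdN]
    exact_mod_cast congrArg (fun z : ℤ => (z : ℂ)) (hdeq χ hχ ψ hψ)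
  · intro μ C hC
    obtain ⟨h1, h2⟩ := hmu μ C hC
    refine ⟨fun χ hχ ψ hψ => ?_, ?_⟩
    · have h3 := hflat μ h1 χ hχ ψ hψ
      rw [hecommon χ hχ, hecommon ψ hψ] at h3
      exact mul_right_cancel₀ (by rcases hee χ₀ hχ₀ with e' | e' <;> simp [e, e']) h3
    · rw [← h2]
      exact Finset.sum_congr rfl fun χ _ => by rw [hkey]

end CfsgLib.BenderSplit.LinearExceptional
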