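import Cfsg.Agent.Lib.LocalEven.BenderSplit.LinearCount
import Cfsg.Agent.Lib.LocalEven.BenderSplit.LinearExceptional
import Cfsg.Agent.Lib.LocalEven.BenderSplit.GlueBasic
import Cfsg.Agent.Lib.Char.ClassSum
import Mathlib.FieldTheory.Finite.Basic

/-!
# The doubly transitive linear case: hypotheses and first facts

`φ p` is the permutation character of the stabiliser of `p` on the involutions fixing `p`, minus one,
and `Ψ` is the character induced by `φ a`.
-/

set_option autoImplicit false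
set_option linter.unusedSectionVars false
set_option linter.style.haveILetI false

open scoped ComplexConjugate
open MulAction CfsgLib.Char CfsgLib.BenderSplit

namespace CfsgLib.BenderSplit.LinearArith

universe u v

variable {G : Type u} {W : Type v} [Group G] [MulAction G W]

/-- The hypotheses of the linear case. -/
structure Lin (a b : W) (K : Subgroup G) (u x : G) (l m : ℕ) : Prop where
  two : IsMultiplyPretransitive G W 2
  hab : a ≠ b
  lp : l.Prime
  l_odd : Odd l
  hm : m = 2 ^ l - 1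
  one_fix : ∀ t : G, orderOf t = 2 → ∃! p : W, t • p = p
  card_inv : Nat.card {t : G // orderOf t = 2 ∧ t • a = a} = m
  comm_inv : ∀ s t : G, orderOf s = 2 → orderOf t = 2 → s • a = a → t • a = a → s * t = t * s
  two_inv : ∀ s t s' t' : G, orderOf s = 2 → s • a = a → orderOf t = 2 → t • a = a →
    orderOf s' = 2 → s' • a = a → orderOf t' = 2 → t' • a = a → s ≠ t → s' ≠ t' →
    ∃ g : G, g • a = a ∧ g * s * g⁻¹ = s' ∧ g * t * g⁻¹ = t'
  hu : orderOf u = 2
  hua : u • a = b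
  K_fix : ∀ k ∈ K, k • a = a ∧ k • b = b
  card_K : Nat.card K = m
  inverts : ∀ k ∈ K, u * k * u⁻¹ = k⁻¹
  regular : ∀ s t : G, orderOf s = 2 → s • a = a → orderOf t = 2 → t • a = a →
    ∃ k ∈ K, k * s * k⁻¹ = t
  x_fix : x • a = a ∧ x • b = b
  x_pow : x ^ l = 1
  x_u : x * u = u * x
  x_norm : ∀ k ∈ K, x * k * x⁻¹ ∈ K
  x_fpf : ∀ k ∈ K, x * k * x⁻¹ = k → k = 1
  gen : ∀ d : G, d • a = a → d • b = b → ∃ k ∈ K, ∃ i : ℕ, d = k * x ^ i
  K_only : ∀ k ∈ K, k ≠ 1 → ∀ p : W, k • p = p → p = a ∨ p = b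
  cent : ∀ k ∈ K, k ≠ 1 → ∀ g : G, g * k = k * g → g ∈ K
  count : ∀ q : W, q ≠ a → Nat.card {t : G // orderOf t = 2 ∧ t • a = q} = m

/-- Translating sums over stabilisers inside `S`. -/
theorem sum_translate [Fintype G] {Q : Type*} [DecidableEq Q] (H : Subgroup G) [Fintype H]
    (act : G → Q → Q) (hone : ∀ q, act 1 q = q) (hmul : ∀ g g' q, act (g * g') q = act g (act g' q))
    (S : Finset Q) {q₀ : Q} (F : G → Q → ℂ)
    (hF : ∀ h ∈ H, ∀ g q, F (h * g * h⁻¹) (act h q) = F g q)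
    (htr : ∀ q ∈ S, ∃ h ∈ H, act h q₀ = q) :
    ∑ q ∈ S, ∑ g : H, (if act g q = q then F g q else 0) =
      S.card * ∑ g : H, if act g q₀ = q₀ then F g q₀ else 0 := by
  rw [← nsmul_eq_mul, ← Finset.sum_const]
  refine Finset.sum_congr rfl fun q hq => ?_
  obtain ⟨h, hh, rfl⟩ := htr q hq
  symm
  refine Fintype.sum_equiv (MulAut.conj (⟨h, hh⟩ : H)).toEquiv _ _ fun g => ?_
  show _ = if act (h * g * h⁻¹) (act h q₀) = act h q₀ then F (h * g * h⁻¹) (act h q₀) else 0
  have e : act (h * g * h⁻¹) (act h q₀) = act h (act g q₀) := by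
    rw [← hmul, inv_mul_cancel_right, hmul]
  rw [hF h hh, e]
  have inv : ∀ q, act h⁻¹ (act h q) = q := fun q => by rw [← hmul, inv_mul_cancel, hone]
  refine if_congr ⟨fun e' => by rw [e'], fun e' => ?_⟩ rfl rfl
  have := congrArg (act h⁻¹) e'
  rwa [inv, inv] at this

/-- The order of a group transitive on `S`. -/
theorem card_eq_card_mul [Fintype G] {Q : Type*} [DecidableEq Q] (H : Subgroup G) [Fintype H]
    (act : G → Q → Q) (hmul : ∀ g g' q, act (g * g') q = act g (act g' q))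
    (hone : ∀ q, act 1 q = q) (S : Finset Q) {q₀ : Q} (hmaps : ∀ h ∈ H, act h q₀ ∈ S)
    (htr : ∀ q ∈ S, ∃ h ∈ H, act h q₀ = q) :
    Nat.card H = S.card * Nat.card {g : H // act g q₀ = q₀} := by
  rw [Nat.card_eq_fintype_card, ← Finset.card_univ,
    Finset.card_eq_sum_card_fiberwise (f := fun g : H => act g q₀) (t := S) fun g _ => hmaps g g.2,
    ← smul_eq_mul, ← Finset.sum_const]
  refine Finset.sum_congr rfl fun q hq => ?_
  obtain ⟨h, hh, rfl⟩ := htr q hq
  rw [← Fintype.card_subtype, ← Nat.card_eq_fintype_card]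
  refine Nat.card_congr
    { toFun := fun g => ⟨⟨h, hh⟩⁻¹ * g.1, ?_⟩
      invFun := fun g => ⟨⟨h, hh⟩ * g.1, ?_⟩
      left_inv := fun g => Subtype.ext (mul_inv_cancel_left _ _)
      right_inv := fun g => Subtype.ext (inv_mul_cancel_left _ _) }
  · show act (h⁻¹ * g.1) q₀ = q₀
    rw [hmul, g.2, ← hmul, inv_mul_cancel, hone]
  · show act (h * g.1) q₀ = act h q₀
    rw [hmul, g.2]

/-- The involutions fixing `p` that commute with `g`, less one. -/
noncomputable def phi (p : W) (g : G) : ℂ :=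
  (Nat.card {t : G // (orderOf t = 2 ∧ t • p = p) ∧ g * t = t * g} : ℂ) - 1

theorem orderOf_conj (h t : G) : orderOf (h * t * h⁻¹) = orderOf t :=
  orderOf_injective (MulAut.conj h).toMonoidHom (MulAut.conj h).injective t

theorem phi_conj (h g : G) (p : W) : phi (h • p) (h * g * h⁻¹) = phi p g := by
  unfold phi
  congr 2
  refine (Nat.card_congr ((MulAut.conj h).toEquiv.subtypeEquiv fun t => ?_)).symm
  show _ ↔ (orderOf (h * t * h⁻¹) = 2 ∧ (h * t * h⁻¹) • (h • p) = h • p) ∧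
    h * g * h⁻¹ * (h * t * h⁻¹) = h * t * h⁻¹ * (h * g * h⁻¹)
  rw [orderOf_conj, mul_smul, mul_smul, inv_smul_smul, smul_left_cancel_iff,
    show h * g * h⁻¹ * (h * t * h⁻¹) = h * (g * t) * h⁻¹ by group,
    show h * t * h⁻¹ * (h * g * h⁻¹) = h * (t * g) * h⁻¹ by group, mul_left_inj, mul_right_inj]

/-- The induced character. -/
noncomputable def psi [Fintype W] [DecidableEq W] (g : G) : ℂ :=
  ∑ p : W, if g • p = p then phi p g else 0

theorem psi_conj [Fintype W] [DecidableEq W] : Cfsg.IsClassFunction G (psi (W := W) : G → ℂ) := by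
  intro g h
  symm
  refine Fintype.sum_equiv (MulAction.toPerm h) _ _ fun p => ?_
  show _ = if (h * g * h⁻¹) • (h • p) = h • p then phi (h • p) (h * g * h⁻¹) else 0
  rw [phi_conj]
  exact if_congr (by rw [mul_smul, mul_smul, inv_smul_smul, smul_left_cancel_iff]) rfl rfl

namespace Lin

variable {a b : W} {K : Subgroup G} {u x : G} {l m : ℕ} (L : Lin a b K u x l m)
include L

theorem u_sq : u * u = 1 := by
  have := pow_orderOf_eq_one u
  rwa [L.hu, sq] at this

theorem u_inv : u⁻¹ = u := inv_eq_of_mul_eq_one_right L.u_sq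

theorem hub : u • b = a := by rw [← L.hua, ← mul_smul, L.u_sq, one_smul]

theorem K_comm : ∀ p ∈ K, ∀ q ∈ K, p * q = q * p := by
  intro p hp q hq
  have h1 : u * (p * q) * u⁻¹ = (u * p * u⁻¹) * (u * q * u⁻¹) := by group
  rw [L.inverts _ (mul_mem hp hq), L.inverts p hp, L.inverts q hq, mul_inv_rev] at h1
  have := congrArg (·⁻¹) h1
  simpa [mul_inv_rev] using this

theorem five_le : 3 ≤ l := by
  have := L.lp.two_le
  obtain ⟨k, hk⟩ := L.l_odd
  omega

theorem seven_le : 7 ≤ m := by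
  rw [L.hm]
  have : 2 ^ 3 ≤ 2 ^ l := Nat.pow_le_pow_right (by norm_num) L.five_le
  omega

theorem pow_conj_mem (i : ℕ) : ∀ k ∈ K, x ^ i * k * (x ^ i)⁻¹ ∈ K := by
  induction i with
  | zero => intro k hk; simpa using hk
  | succ i ih =>
    intro k hk
    rw [pow_succ', show x * x ^ i * k * (x * x ^ i)⁻¹ = x * (x ^ i * k * (x ^ i)⁻¹) * x⁻¹ by group]
    exact L.x_norm _ (ih k hk)

theorem pow_mem_iff (i : ℕ) : x ^ i ∈ K ↔ l ∣ i := by
  refine ⟨fun h => ?_, fun ⟨j, hj⟩ => by rw [hj, pow_mul, L.x_pow, one_pow]; exact one_mem K⟩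
  by_contra hi
  have hco : Nat.Coprime i l := Nat.coprime_comm.1 ((Nat.Prime.coprime_iff_not_dvd L.lp).2 hi)
  obtain ⟨j, -, hj⟩ := Nat.exists_mul_mod_eq_one_of_coprime hco L.lp.one_lt
  have hx : x ∈ K := by
    have : x = (x ^ i) ^ j := by
      rw [← pow_mul, ← Nat.mod_add_div (i * j) l, hj, pow_add, pow_mul, L.x_pow, one_pow, mul_one,
        pow_one]
    rw [this]
    exact pow_mem h j
  obtain ⟨k, hk, hk1⟩ : ∃ k ∈ K, k ≠ (1 : G) := by
    by_contra hall
    push Not at hall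
    have : Nat.card K = 1 := Nat.card_eq_one_iff_unique.2
      ⟨⟨fun p q => Subtype.ext ((hall p p.2).trans (hall q q.2).symm)⟩, ⟨1⟩⟩
    rw [L.card_K] at this
    have := L.seven_le
    omega
  exact hk1 (L.x_fpf k hk (by rw [L.K_comm x hx k hk, mul_inv_cancel_right]))

theorem fix_D {k : G} (hk : k ∈ K) (i : ℕ) : (k * x ^ i) • a = a ∧ (k * x ^ i) • b = b := by
  have h : ∀ j : ℕ, (x ^ j) • a = a ∧ (x ^ j) • b = b := by
    intro j
    induction j with
    | zero => simp
    | succ j ih => exact ⟨by rw [pow_succ, mul_smul, L.x_fix.1, ih.1],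
        by rw [pow_succ, mul_smul, L.x_fix.2, ih.2]⟩
  exact ⟨by rw [mul_smul, (h i).1, (L.K_fix k hk).1], by rw [mul_smul, (h i).2, (L.K_fix k hk).2]⟩

theorem card_D : Nat.card {d : G // d • a = a ∧ d • b = b} = m * l := by
  rw [← L.card_K, ← Nat.card_fin l, ← Nat.card_prod]
  symm
  refine Nat.card_congr (Equiv.ofBijective
    (fun p : K × Fin l => (⟨(p.1 : G) * x ^ (p.2 : ℕ), L.fix_D p.1.2 _⟩ : {d : G // d • a = a ∧ d • b = b}))
    ⟨?_, ?_⟩)
  · rintro ⟨k, i⟩ ⟨k', i'⟩ e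
    have e' : (k : G) * x ^ (i : ℕ) = k' * x ^ (i' : ℕ) := congrArg Subtype.val e
    have key : ∀ (k k' : K) (i i' : ℕ), i ≤ i' → (k : G) * x ^ i = k' * x ^ i' → i' < l → i = i' := by
      intro k k' i i' hle e hlt
      have h1 : x ^ (i' - i) ∈ K := by
        have : x ^ (i' - i) = (k' : G)⁻¹ * k := by
          have h2 : (k : G) = k' * x ^ (i' - i) := by
            rw [← mul_right_cancel_iff (a := x ^ i), e, mul_assoc, ← pow_add, Nat.sub_add_cancel hle]
          rw [h2, inv_mul_cancel_left]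
        rw [this]
        exact mul_mem (inv_mem k'.2) k.2
      rcases Nat.eq_zero_or_pos (i' - i) with h0 | h0
      · omega
      · exact absurd (Nat.le_of_dvd h0 ((L.pow_mem_iff _).1 h1)) (by omega)
    have hi : (i : ℕ) = i' := by
      rcases le_total (i : ℕ) i' with h | h
      · exact key k k' i i' h e' i'.2
      · exact (key k' k i' i h e'.symm i.2).symm
    rw [hi, mul_left_inj] at e'
    exact Prod.ext (Subtype.ext e') (Fin.ext hi)
  · rintro ⟨d, hd⟩
    obtain ⟨k, hk, i, rfl⟩ := L.gen d hd.1 hd.2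
    refine ⟨(⟨k, hk⟩, ⟨i % l, Nat.mod_lt _ L.lp.pos⟩), Subtype.ext ?_⟩
    show k * x ^ (i % l) = k * x ^ i
    conv_rhs => rw [← Nat.mod_add_div i l, pow_add, pow_mul, L.x_pow, one_pow, mul_one]

/-- The Fermat quotient. -/
theorem exists_s : ∃ s : ℕ, m = 2 * l * s + 1 ∧ (s = 1 ∨ 3 ≤ s) ∧ l ≤ s + 2 ∧
    (3 ≤ s → 5 ≤ l ∧ 6 * l < m) := by
  have hl3 := L.five_le
  haveI : Fact l.Prime := ⟨L.lp⟩
  have h2 : (2 : ZMod l) ≠ 0 := by
    intro e
    have e' : ((2 : ℕ) : ZMod l) = 0 := by exact_mod_cast e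
    have := Nat.le_of_dvd (by norm_num) ((ZMod.natCast_eq_zero_iff 2 l).1 e')
    omega
  have h1 : 1 ≤ 2 ^ (l - 1) := Nat.one_le_two_pow
  obtain ⟨s, hs⟩ : l ∣ 2 ^ (l - 1) - 1 := by
    rw [← ZMod.natCast_eq_zero_iff, Nat.cast_sub h1, Nat.cast_pow]
    have := ZMod.pow_card_sub_one_eq_one h2
    push_cast
    rw [this, sub_self]
  have hpow : 2 ^ l = 2 * 2 ^ (l - 1) := by
    rw [← pow_succ', Nat.sub_add_cancel (by omega)]
  have hev : 2 ^ (l - 1) = 2 * 2 ^ (l - 2) := by
    rw [← pow_succ']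
    congr 1
    omega
  have hsm : m = 2 * l * s + 1 := by
    rw [L.hm, hpow, mul_assoc, ← hs]
    omega
  have hodd : ∃ r, s = 2 * r + 1 := by
    rcases Nat.even_or_odd' s with ⟨r, rfl | rfl⟩
    · exfalso
      rw [show l * (2 * r) = 2 * (l * r) by ring] at hs
      omega
    · exact ⟨r, rfl⟩
  obtain ⟨r, hr⟩ := hodd
  by_cases h5 : l = 3
  · subst h5
    norm_num at hs
    refine ⟨s, hsm, Or.inl (by omega), by omega, fun h => by omega⟩
  have hl5 : 5 ≤ l := by
    obtain ⟨k, hk⟩ := L.l_odd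
    omega
  have hind : ∀ n, 5 ≤ n → n * n ≤ 2 ^ (n - 1) + 2 * n - 1 := by
    intro n hn
    induction n, hn using Nat.le_induction with
    | base => norm_num
    | succ n hn ih =>
      have e : 2 ^ (n + 1 - 1) = 2 * 2 ^ (n - 1) := by
        rw [← pow_succ']; congr 1; omega
      have h4 : 4 * 4 ≤ 2 ^ (n - 1) := by
        calc 4 * 4 = 2 ^ 4 := by norm_num
          _ ≤ _ := Nat.pow_le_pow_right (by norm_num) (by omega)
      rw [e, show (n + 1) * (n + 1) = n * n + 2 * n + 1 by ring]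
      have : 5 * n ≤ n * n := Nat.mul_le_mul_right n hn
      omega
  have hls : l * l ≤ l * (s + 2) := by
    have := hind l hl5
    rw [mul_add, ← hs]
    omega
  have hls' : l ≤ s + 2 := Nat.le_of_mul_le_mul_left hls (by omega)
  refine ⟨s, hsm, Or.inr (by omega), hls', fun _ => ⟨hl5, ?_⟩⟩
  have : 3 * l ≤ s * l := Nat.mul_le_mul_right _ (by omega)
  rw [hsm, mul_assoc, mul_comm l s]
  omega

theorem ti {g k : G} (hk : k ∈ K) (hk1 : k ≠ 1) (hg : g * k * g⁻¹ ∈ K) :
    (g • a = a ∧ g • b = b) ∨ (g • a = b ∧ g • b = a) := by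
  have h1 : g * k * g⁻¹ ≠ 1 := fun e => hk1 (conj_eq_one_iff.1 e)
  have ha := L.K_only _ hg h1 (g • a) (by rw [mul_smul, mul_smul, inv_smul_smul, (L.K_fix k hk).1])
  have hb := L.K_only _ hg h1 (g • b) (by rw [mul_smul, mul_smul, inv_smul_smul, (L.K_fix k hk).2])
  rcases ha with ha | ha <;> rcases hb with hb | hb
  · exact absurd (smul_left_cancel g (ha.trans hb.symm)) L.hab
  · exact Or.inl ⟨ha, hb⟩
  · exact Or.inr ⟨ha, hb⟩
  · exact absurd (smul_left_cancel g (ha.trans hb.symm)) L.hab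

theorem D_conj {d : G} (hd : d • a = a ∧ d • b = b) : ∀ k ∈ K, d * k * d⁻¹ ∈ K := by
  obtain ⟨k', hk', i, rfl⟩ := L.gen d hd.1 hd.2
  intro k hk
  rw [show k' * x ^ i * k * (k' * x ^ i)⁻¹ = k' * (x ^ i * k * (x ^ i)⁻¹) * k'⁻¹ by group]
  exact mul_mem (mul_mem hk' (L.pow_conj_mem i k hk)) (inv_mem hk')

theorem mem_norm_iff [Finite G] {g : G} : g ∈ Subgroup.normalizer (K : Set G) ↔
    (g • a = a ∧ g • b = b) ∨ (g • a = b ∧ g • b = a) := by
  constructor
  · intro hg
    obtain ⟨k, hk, hk1⟩ : ∃ k ∈ K, k ≠ (1 : G) := by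
      by_contra hall
      push Not at hall
      have : Nat.card K = 1 := Nat.card_eq_one_iff_unique.2
        ⟨⟨fun p q => Subtype.ext ((hall p p.2).trans (hall q q.2).symm)⟩, ⟨1⟩⟩
      rw [L.card_K] at this
      have := L.seven_le
      omega
    exact L.ti hk hk1 ((Subgroup.mem_normalizer_iff.1 hg k).1 hk)
  · intro hg
    have hconj : ∀ k ∈ K, g * k * g⁻¹ ∈ K := by
      rcases hg with hg | hg
      · exact L.D_conj hg
      · intro k hk
        have hd : (u * g) • a = a ∧ (u * g) • b = b :=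
          ⟨by rw [mul_smul, hg.1, L.hub], by rw [mul_smul, hg.2, L.hua]⟩
        have h1 := L.D_conj hd k hk
        have h2 := L.inverts _ h1
        rw [show u * (u * g * k * (u * g)⁻¹) * u⁻¹ = (u * u) * g * k * g⁻¹ * (u * u)⁻¹ by group,
          L.u_sq, one_mul, inv_one, mul_one] at h2
        rw [h2]
        exact inv_mem h1
    rw [Subgroup.mem_normalizer_iff]
    intro k
    refine ⟨hconj k, fun hk => ?_⟩
    have hfix : K.map (MulAut.conj g).toMonoidHom = K := Subgroup.eq_of_le_of_card_ge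
      (by rintro _ ⟨e, he, rfl⟩; exact hconj e he)
      (by rw [Subgroup.card_map_of_injective (MulAut.conj g).injective])
    obtain ⟨e, he, hek⟩ : g * k * g⁻¹ ∈ K.map (MulAut.conj g).toMonoidHom := by rw [hfix]; exact hk
    have : e = k := (MulAut.conj g).injective hek
    exact this ▸ he

theorem card_norm [Finite G] : Nat.card (Subgroup.normalizer (K : Set G)) = 2 * l * Nat.card K := by
  rw [L.card_K, show 2 * l * m = Nat.card (Bool × {d : G // d • a = a ∧ d • b = b}) by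
    rw [Nat.card_prod, L.card_D, Nat.card_eq_fintype_card, Fintype.card_bool]; ring]
  symm
  refine Nat.card_congr (Equiv.ofBijective (fun p : Bool × {d : G // d • a = a ∧ d • b = b} =>
    (⟨(if p.1 then u else 1) * p.2.1, L.mem_norm_iff.2 ?_⟩ : Subgroup.normalizer (K : Set G))) ⟨?_, ?_⟩)
  · obtain ⟨(_ | _), d, hd⟩ := p
    · left; simpa using hd
    · right; exact ⟨by simp [mul_smul, hd.1, L.hua], by simp [mul_smul, hd.2, L.hub]⟩
  · rintro ⟨e, d, hd⟩ ⟨e', d', hd'⟩ h
    have h' : (if e then u else 1) * d = (if e' then u else 1) * d' := congrArg Subtype.val h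
    have h2 := congrArg (fun g : G => g • a) h'
    cases e <;> cases e' <;> simp [mul_smul, hd.1, hd'.1, L.hua, L.hab, L.hab.symm] at h2 h' <;> simp [h']
  · rintro ⟨g, hg⟩
    rcases L.mem_norm_iff.1 hg with h | h
    · exact ⟨⟨false, g, h⟩, Subtype.ext (one_mul g)⟩
    · refine ⟨⟨true, u * g, by rw [mul_smul, h.1, L.hub], by rw [mul_smul, h.2, L.hua]⟩, Subtype.ext ?_⟩
      show u * (u * g) = g
      rw [← mul_assoc, L.u_sq, one_mul]

theorem eq_a {g t : G} (ht : orderOf t = 2) (hta : t • a = a) (h : g * t = t * g) : g • a = a :=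
  (L.one_fix t ht).unique (by rw [← mul_smul, ← h, mul_smul, hta]) hta

theorem uk_inv {k : G} (hk : k ∈ K) : orderOf (u * k) = 2 ∧ (u * k) • a = b := by
  refine ⟨orderOf_eq_prime ?_ fun e => ?_, by rw [mul_smul, (L.K_fix k hk).1, L.hua]⟩
  · rw [sq, show u * k * (u * k) = u * k * u⁻¹ * ((u * u) * k) by group, L.inverts k hk, L.u_sq,
      one_mul, inv_mul_cancel]
  · have := congrArg (fun g : G => g • a) e
    simp only [mul_smul, (L.K_fix k hk).1, L.hua, one_smul] at this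
    exact L.hab this.symm

end Lin

end CfsgLib.BenderSplit.LinearArith
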