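import Cfsg.Agent.Lib.LocalEven.BenderSplit.ExtraspecialCount

/-!
# The point stabiliser of a group of semilinear type has odd order

A group of automorphisms of an elementary abelian group of order `2 ^ l` containing a regular cyclic
group `⟨k⟩` normalised by `x` of prime order `l`, whose point stabiliser preserves the `x`-orbits:
`x` has a cyclic vector by Artin independence, the stabiliser is at most dihedral of order `2 l` on
that normal basis, so it normalises `⟨k⟩` and agrees with a power of `x`.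
-/

set_option autoImplicit false

namespace CfsgLib.LocalEven.BenderSplit

open Finset Polynomial

section Linear

variable {V : Type*} [AddCommGroup V] [Module (ZMod 2) V]

/-- Artin independence over the centraliser of `k`. -/
theorem artin_independence {kE : Module.End (ZMod 2) V} (X qE : ℕ → Module.End (ZMod 2) V)
    (hX : ∀ i, Function.Surjective (X i))
    (hinj : ∀ e : Module.End (ZMod 2) V, Commute e kE → e ≠ 0 → Function.Injective e)
    (hq : ∀ i, ∃ p : ℕ, qE i = kE ^ p) (hXk : ∀ i, X i * kE = qE i * X i) (T : Finset ℕ)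
    (hne : ∀ i ∈ T, ∀ j ∈ T, i ≠ j → qE i ≠ qE j) (e : ℕ → Module.End (ZMod 2) V)
    (he : ∀ i, Commute (e i) kE) (hsum : ∑ i ∈ T, e i * X i = 0) : ∀ i ∈ T, e i = 0 := by
  induction T using Finset.induction_on generalizing e with
  | empty => simp
  | insert i0 T hi0 ih =>
    have heq : ∀ i j, Commute (e i) (qE j) := fun i j => by
      obtain ⟨p, hp⟩ := hq j
      rw [hp]
      exact (he i).pow_right p
    have hqk : ∀ j, Commute (qE j) kE := fun j => by
      obtain ⟨p, hp⟩ := hq j
      rw [hp]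
      exact (Commute.refl kE).pow_left p
    have h1 : ∑ i ∈ insert i0 T, e i * (qE i - qE i0) * X i = 0 := by
      have : ∀ i, e i * (qE i - qE i0) * X i = e i * X i * kE - qE i0 * (e i * X i) := by
        intro i
        rw [mul_sub, sub_mul, (heq i i0).eq, mul_assoc (e i) (X i), hXk, mul_assoc, mul_assoc (qE i0)]
      rw [Finset.sum_congr rfl fun i _ => this i, Finset.sum_sub_distrib, ← Finset.sum_mul,
        ← Finset.mul_sum, hsum, zero_mul, mul_zero, sub_zero]
    rw [Finset.sum_insert hi0, sub_self, mul_zero, zero_mul, zero_add] at h1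
    have hT := ih (fun i hi j hj => hne i (Finset.mem_insert_of_mem hi) j (Finset.mem_insert_of_mem hj))
      (fun i => e i * (qE i - qE i0)) (fun i => (he i).mul_left ((hqk i).sub_left (hqk i0))) h1
    have hz : ∀ i ∈ T, e i = 0 := by
      intro i hi
      by_contra hei
      have hd : qE i - qE i0 ≠ 0 := sub_ne_zero.2 (hne i (Finset.mem_insert_of_mem hi) i0
        (Finset.mem_insert_self _ _) fun h => hi0 (h ▸ hi))
      refine hd (LinearMap.ext fun v => hinj (e i) (he i) hei ?_)
      rw [LinearMap.zero_apply, map_zero]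
      exact congrArg (fun f : Module.End (ZMod 2) V => f v) (hT i hi)
    intro i hi
    rcases Finset.mem_insert.1 hi with rfl | hi
    · rw [Finset.sum_insert hi0, Finset.sum_eq_zero (fun i hi => by rw [hz i hi, zero_mul]),
        add_zero] at hsum
      refine LinearMap.ext fun v => ?_
      obtain ⟨w, rfl⟩ := hX i v
      exact congrArg (fun f : Module.End (ZMod 2) V => f w) hsum
    · exact hz i hi

/-- An endomorphism whose first `l` powers are independent has a cyclic vector. -/
theorem exists_cyclic_vector [Finite V] {l : ℕ} (X : Module.End (ZMod 2) V)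
    (hind : ∀ c : ℕ → ZMod 2, ∑ i ∈ range l, c i • X ^ i = 0 → ∀ i ∈ range l, c i = 0) :
    ∃ v : V, LinearIndependent (ZMod 2) fun i : Fin l => (X ^ (i : ℕ)) v := by
  haveI : FiniteDimensional (ZMod 2) V := Module.Finite.of_finite
  obtain ⟨w, hw⟩ := Module.exists_ker_toSpanSingleton_eq_annihilator (ZMod 2)[X]
    (Module.AEval' X)
  obtain ⟨v, rfl⟩ := (Module.AEval'.of X).surjective w
  refine ⟨v, Fintype.linearIndependent_iff.2 fun g hg i => ?_⟩
  let P : (ZMod 2)[X] := ∑ j : Fin l, Polynomial.C (g j) * Polynomial.X ^ (j : ℕ)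
  have haev : Polynomial.aeval X P = ∑ j : Fin l, g j • X ^ (j : ℕ) := by
    simp [P, Algebra.smul_def]
  have hP : P • Module.AEval'.of X v = 0 := by
    rw [show P • Module.AEval'.of X v = Module.AEval'.of X (Polynomial.aeval X P • v) from
      (Module.AEval.of_aeval_smul _ _ _).symm, haev]
    simp [LinearMap.sum_apply, hg]
  have hann : P ∈ Module.annihilator (ZMod 2)[X] (Module.AEval' X) := by
    rw [← hw, LinearMap.mem_ker, LinearMap.toSpanSingleton_apply]
    exact hP
  have h0 : ∑ j : Fin l, g j • X ^ (j : ℕ) = 0 := by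
    refine LinearMap.ext fun u => ?_
    have h := Module.mem_annihilator.1 hann (Module.AEval'.of X u)
    rw [show P • Module.AEval'.of X u = Module.AEval'.of X (Polynomial.aeval X P • u) from
      (Module.AEval.of_aeval_smul _ _ _).symm, LinearEquiv.map_eq_zero_iff, haev] at h
    exact h
  let c : ℕ → ZMod 2 := fun j => if h : j < l then g ⟨j, h⟩ else 0
  have h1 : ∑ j ∈ range l, c j • X ^ j = 0 := by
    rw [Finset.sum_range, ← h0]
    exact Finset.sum_congr rfl fun j _ => by simp [c]
  have := hind c h1 i (Finset.mem_range.2 i.2)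
  simpa [c] using this

/-- A map permuting a basis indexed by `ZMod l` and sending neighbours to neighbours is determined
by the images of two neighbours. -/
theorem neighbours_determined {l : ℕ} [NeZero l] (hl : 2 < l) {π π' : ZMod l → ZMod l}
    (hπ : Function.Injective π) (hπ' : Function.Injective π')
    (hs : ∀ i, π (i + 1) = π i + 1 ∨ π (i + 1) = π i - 1)
    (hs' : ∀ i, π' (i + 1) = π' i + 1 ∨ π' (i + 1) = π' i - 1)
    (h0 : π 0 = π' 0) (h1 : π 1 = π' 1) : π = π' := by
  have h2 : (2 : ZMod l) ≠ 0 := by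
    intro h
    have h' : ((2 : ℕ) : ZMod l) = 0 := by exact_mod_cast h
    exact absurd (Nat.le_of_dvd (by norm_num) ((ZMod.natCast_eq_zero_iff _ _).1 h')) (by omega)
  have hstep : ∀ (ρ : ZMod l → ZMod l), Function.Injective ρ →
      (∀ i, ρ (i + 1) = ρ i + 1 ∨ ρ (i + 1) = ρ i - 1) →
      ∀ i, ρ (i + 1 + 1) = ρ (i + 1) + (ρ (i + 1) - ρ i) := by
    intro ρ hρ h i
    have hne : ρ (i + 1 + 1) ≠ ρ i := fun e => by
      have := hρ e
      rw [add_assoc, one_add_one_eq_two, add_eq_left] at this
      exact h2 this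
    rcases h i with a | a <;> rcases h (i + 1) with b | b
    · rw [b, a]; ring
    · exact absurd (by rw [b, a]; ring) hne
    · exact absurd (by rw [b, a]; ring) hne
    · rw [b, a]; ring
  have key : ∀ n : ℕ, π (n : ZMod l) = π' (n : ZMod l) ∧
      π ((n : ZMod l) + 1) = π' ((n : ZMod l) + 1) := by
    intro n
    induction n with
    | zero => simp [h0, h1]
    | succ n ih =>
      push_cast
      exact ⟨ih.2, by rw [hstep π hπ hs, hstep π' hπ' hs', ih.1, ih.2]⟩
  funext i
  have := (key i.val).1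
  rwa [ZMod.natCast_zmod_val] at this

/-- The maps permuting the orbits of a normal basis form at most a dihedral set. -/
theorem card_le_two_mul {l : ℕ} [NeZero l] (hl : 2 < l) (B : Module.Basis (ZMod l) (ZMod 2) V)
    {F : Type*} (φ : F → Module.End (ZMod 2) V) (hφ : Function.Injective φ)
    (hbij : ∀ f, Function.Injective (φ f))
    (h1 : ∀ f i, ∃ j, φ f (B i) = B j)
    (h2 : ∀ f i, ∃ m, φ f (B i + B (i + 1)) = B m + B (m + 1)) :
    Finite F ∧ Nat.card F ≤ 2 * l := by
  classical
  choose π hπ using h1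
  have hπinj : ∀ f, Function.Injective (π f) := fun f i j h =>
    B.injective (hbij f (by rw [hπ, hπ, h]))
  have hone : (1 : ZMod l) ≠ 0 := by
    intro h
    have h' : ((1 : ℕ) : ZMod l) = 0 := by exact_mod_cast h
    exact absurd (Nat.le_of_dvd (by norm_num) ((ZMod.natCast_eq_zero_iff _ _).1 h')) (by omega)
  have hπs : ∀ f i, π f (i + 1) = π f i + 1 ∨ π f (i + 1) = π f i - 1 := by
    intro f i
    obtain ⟨m, hm⟩ := h2 f i
    rw [map_add, hπ, hπ] at hm
    have hne : π f i ≠ π f (i + 1) := fun h => hone (by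
      have := hπinj f h
      simpa using this)
    have key : ∀ a b, a ≠ b → B a + B b = B m + B (m + 1) → a = m ∨ a = m + 1 := by
      intro a b hab h
      by_contra hcon
      push_neg at hcon
      have h' := congrArg (fun v => B.repr v a) h
      simp [Finsupp.single_apply, hab.symm, Ne.symm hcon.1, Ne.symm hcon.2] at h'
    rcases key _ _ hne hm with a | a <;>
      rcases key _ _ hne.symm (by rw [add_comm, hm]) with b | b
    · exact absurd (a.trans b.symm) hne
    · left; rw [b, a]
    · right; rw [b, a]; ring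
    · exact absurd (a.trans b.symm) hne
  have hinj : Function.Injective fun f => (π f 0, decide (π f 1 = π f 0 + 1)) := by
    intro f g h
    simp only [Prod.mk.injEq, decide_eq_decide] at h
    have h1' : π f 1 = π g 1 := by
      have a := hπs f 0
      have b := hπs g 0
      rw [zero_add] at a b
      by_cases c : π f 1 = π f 0 + 1
      · rw [c, h.2.1 c, h.1]
      · rw [a.resolve_left c, b.resolve_left (fun d => c (h.2.2 d)), h.1]
    have := neighbours_determined hl (hπinj f) (hπinj g) (hπs f) (hπs g) h.1 h1'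
    exact hφ (B.ext fun i => by rw [hπ, hπ, this])
  refine ⟨Finite.of_injective _ hinj, ?_⟩
  have := Nat.card_le_card_of_injective _ hinj
  simpa [Nat.card_prod, Nat.card_zmod, mul_comm] using this

end Linear

variable {M : Type*} [Group M] [Finite M]

/-- In the situation described above the point stabiliser contains no involution. -/
theorem odd_stabilizer (hsq : ∀ v : M, v * v = 1) {l : ℕ} (hl : l.Prime) (hlodd : Odd l)
    (hcard : Nat.card M = 2 ^ l) {A : Subgroup (MulAut M)} {k x : MulAut M} (hk : k ∈ A) (hx : x ∈ A)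
    {t : M} (ht : t ≠ 1) (hreg : ∀ v : M, v ≠ 1 → ∃ i : ℕ, (k ^ i) t = v)
    (hxk : x * k * x⁻¹ ∈ Subgroup.zpowers k) (hxt : x t = t) (hxl : x ^ l = 1)
    (hxfix : ∀ v, x v = v → v = 1 ∨ v = t)
    (horb : ∀ f ∈ A, f t = t → ∀ v : M, ∃ i : ℕ, f v = (x ^ i) v) :
    ∀ f ∈ A, f t = t → f * f = 1 → f = 1 := by
  classical
  have hinv : ∀ v : M, v⁻¹ = v := fun v => inv_eq_of_mul_eq_one_right (hsq v)
  letI : CommGroup M := { (inferInstance : Group M) with
    mul_comm := fun a b => by
      have := hinv (a * b)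
      rwa [mul_inv_rev, hinv, hinv, eq_comm] at this }
  haveI := Fact.mk hl
  have hl2 : 2 < l := by
    obtain ⟨r, hr⟩ := hlodd
    have := hl.two_le
    omega
  haveI : NeZero l := ⟨hl.ne_zero⟩
  letI : Module (ZMod 2) (Additive M) := AddCommGroup.zmodModule (n := 2) fun m =>
    congrArg Additive.ofMul (show Additive.toMul m ^ 2 = 1 by rw [pow_two]; exact hsq _)
  haveI : Finite (Additive M) := Finite.of_equiv M Additive.ofMul
  let ρ : MulAut M →* Module.End (ZMod 2) (Additive M) := autLinear 2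
  have hρinj : Function.Injective ρ := fun g h e => MulEquiv.ext fun m =>
    Additive.ofMul.injective (congrArg (fun f : Module.End (ZMod 2) (Additive M) =>
      f (Additive.ofMul m)) e)
  have hρsurj : ∀ g, Function.Surjective (ρ g) := fun g v => ⟨Additive.ofMul (g.symm v.toMul), by
    rw [autLinear_apply, MulEquiv.apply_symm_apply]; rfl⟩
  have hkorb : ∀ v : M, v ≠ 1 → ∀ w : M, w ≠ 1 → ∃ p : ℤ, (k ^ p) v = w := by
    intro v hv w hw
    obtain ⟨i, hi⟩ := hreg v hv
    obtain ⟨j, hj⟩ := hreg w hw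
    refine ⟨(j : ℤ) - i, ?_⟩
    have hsum : k ^ ((j : ℤ) - i) * k ^ i = k ^ j := by
      rw [← zpow_natCast, ← zpow_natCast, ← zpow_add, sub_add_cancel]
    rw [← hi, ← MulAut.mul_apply, hsum, hj]
  have hinjE : ∀ e : Module.End (ZMod 2) (Additive M), Commute e (ρ k) → e ≠ 0 →
      Function.Injective e := by
    intro e he hne
    rw [← LinearMap.ker_eq_bot, LinearMap.ker_eq_bot']
    intro v hv
    by_contra hv0
    refine hne (LinearMap.ext fun u => ?_)
    rw [LinearMap.zero_apply]
    rcases eq_or_ne u 0 with rfl | hu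
    · exact map_zero e
    obtain ⟨m, rfl⟩ := Additive.ofMul.surjective v
    obtain ⟨m', rfl⟩ := Additive.ofMul.surjective u
    obtain ⟨p, hp⟩ := hkorb m (fun e => hv0 (by rw [e]; rfl)) m' (fun e => hu (by rw [e]; rfl))
    obtain ⟨i, hi⟩ : k ^ p ∈ Submonoid.powers k := mem_powers_iff_mem_zpowers.2 ⟨p, rfl⟩
    have hi' : k ^ i = k ^ p := hi
    have h := congrArg (fun g : Module.End (ZMod 2) (Additive M) => g (Additive.ofMul m))
      (he.pow_right i).eq
    simp only [Module.End.mul_apply] at h
    rw [hv, map_zero, ← map_pow, autLinear_apply, hi', hp] at h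
    exact h
  -- `x` has prime order
  set K := Subgroup.zpowers k with hK
  have hxne : x ≠ 1 := by
    intro h
    have h2l : 2 < 2 ^ l := lt_of_lt_of_le (by norm_num) (Nat.pow_le_pow_right two_pos hl.two_le)
    obtain ⟨v, hv⟩ : ∃ v : M, v ∉ ({1, t} : Finset M) := by
      by_contra! hh
      haveI := Fintype.ofFinite M
      have h3 := Finset.card_le_card (fun v (_ : v ∈ (univ : Finset M)) => hh v)
      rw [Finset.card_univ, ← Nat.card_eq_fintype_card, hcard] at h3
      exact absurd (h3.trans Finset.card_le_two) (by omega)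
    rcases hxfix v (by rw [h]; rfl) with e | e <;> simp [e] at hv
  have hordx : orderOf x = l := orderOf_eq_prime hxl hxne
  -- the conjugates of `k`
  have hxKi : ∀ i : ℕ, ∀ g ∈ K, x ^ i * g * (x ^ i)⁻¹ ∈ K := by
    intro i
    induction i with
    | zero => simp
    | succ i ih =>
      intro g hg
      obtain ⟨p, hp⟩ := hg
      rw [show x ^ (i + 1) * g * (x ^ (i + 1))⁻¹ = x ^ i * (x * g * x⁻¹) * (x ^ i)⁻¹ by
        rw [pow_succ]; group]
      refine ih _ ?_
      rw [← hp, show x * k ^ p * x⁻¹ = (x * k * x⁻¹) ^ p from (conj_zpow).symm]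
      exact zpow_mem hxk p
  have hKfix : ∀ g ∈ K, g t = t → g = 1 := by
    rintro g ⟨p, rfl⟩ hg
    refine MulEquiv.ext fun v => ?_
    rcases eq_or_ne v 1 with rfl | hv
    · exact map_one _
    obtain ⟨i, rfl⟩ := hreg v hv
    show (k ^ p) ((k ^ i) t) = _
    rw [← MulAut.mul_apply, ((Commute.refl k).zpow_left p |>.pow_right i).eq, MulAut.mul_apply, hg]
    rfl
  have hxit : ∀ i : ℕ, (x ^ i) t = t := by
    intro i
    induction i with
    | zero => rfl
    | succ i ih => rw [pow_succ, MulAut.mul_apply, hxt, ih]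
  let qg : ℕ → MulAut M := fun i => x ^ i * k * (x ^ i)⁻¹
  have hqne : ∀ i ∈ range l, ∀ j ∈ range l, i ≠ j → qg i ≠ qg j := by
    intro i hi j hj hij h
    have hc : Commute ((x ^ j)⁻¹ * x ^ i) k := by
      have h' : x ^ i * k * (x ^ i)⁻¹ = x ^ j * k * (x ^ j)⁻¹ := h
      calc (x ^ j)⁻¹ * x ^ i * k = (x ^ j)⁻¹ * (x ^ i * k * (x ^ i)⁻¹) * x ^ i := by group
        _ = k * ((x ^ j)⁻¹ * x ^ i) := by rw [h']; group
    have ht' : ((x ^ j)⁻¹ * x ^ i) t = t := by
      rw [MulAut.mul_apply, hxit]
      exact (MulEquiv.symm_apply_eq _).2 (hxit j).symm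
    have hid : (x ^ j)⁻¹ * x ^ i = 1 := by
      refine MulEquiv.ext fun v => ?_
      rcases eq_or_ne v 1 with rfl | hv
      · exact map_one _
      obtain ⟨m, rfl⟩ := hreg v hv
      rw [← MulAut.mul_apply, (hc.pow_right m).eq, MulAut.mul_apply, ht']
      rfl
    rw [inv_mul_eq_one] at hid
    exact hij (pow_injOn_Iio_orderOf (x := x) (by simpa [hordx] using hi)
      (by simpa [hordx] using hj) hid.symm)
  have hind : ∀ c : ℕ → ZMod 2, ∑ i ∈ range l, c i • ρ x ^ i = 0 → ∀ i ∈ range l, c i = 0 := by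
    intro c hc i hi
    have hqp : ∀ j, ∃ p : ℕ, ρ (qg j) = ρ k ^ p := fun j => by
      obtain ⟨p, hp⟩ := mem_powers_iff_mem_zpowers.2 (hxKi j k (Subgroup.mem_zpowers k))
      exact ⟨p, by rw [← map_pow]; exact congrArg ρ hp.symm⟩
    have hXk : ∀ j, ρ (x ^ j) * ρ k = ρ (qg j) * ρ (x ^ j) := fun j => by
      rw [← map_mul, ← map_mul]
      congr 1
      simp [qg]
    have h := artin_independence (kE := ρ k) (fun j => ρ (x ^ j)) (fun j => ρ (qg j))
      (fun j => hρsurj _) hinjE hqp hXk (range l)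
      (fun i hi j hj hij e => hqne i hi j hj hij (hρinj e))
      (fun j => c j • (1 : Module.End (ZMod 2) (Additive M)))
      (fun j => (Commute.one_left _).smul_left _) (by
        rw [← hc]
        refine Finset.sum_congr rfl fun j _ => ?_
        rw [map_pow, smul_mul_assoc, one_mul]) i hi
    obtain ⟨m₀, hm₀⟩ : ∃ m : Additive M, m ≠ 0 := ⟨Additive.ofMul t, fun e =>
      ht (Additive.ofMul.injective e)⟩
    have h' := congrArg (fun f : Module.End (ZMod 2) (Additive M) => f m₀) h
    simp only [LinearMap.smul_apply, Module.End.one_apply, LinearMap.zero_apply, smul_eq_zero] at h'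
    exact h'.resolve_right hm₀
  obtain ⟨v, hv⟩ := exists_cyclic_vector (ρ x) hind
  let w : ZMod l → Additive M := fun i => (ρ x ^ i.val) v
  have hw : LinearIndependent (ZMod 2) w :=
    hv.comp (fun i : ZMod l => (⟨i.val, ZMod.val_lt i⟩ : Fin l)) fun i j h =>
      ZMod.val_injective l (congrArg Fin.val h)
  have hfr : Module.finrank (ZMod 2) (Additive M) = l := by
    have h := Module.natCard_eq_pow_finrank (K := ZMod 2) (V := Additive M)
    rw [Nat.card_congr (Additive.toMul : Additive M ≃ M), hcard, Nat.card_zmod] at h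
    exact (Nat.pow_right_injective le_rfl h).symm
  haveI : Nonempty (ZMod l) := ⟨0⟩
  let B : Module.Basis (ZMod l) (ZMod 2) (Additive M) :=
    basisOfLinearIndependentOfCardEqFinrank hw (by rw [ZMod.card, hfr])
  have hB : ∀ i, B i = w i := fun i => by
    simp [B]
  have hshift : ∀ (m : ℕ) i, (ρ x ^ m) (B i) = B (i + (m : ZMod l)) := by
    intro m i
    rw [hB, hB]
    show (ρ x ^ m) ((ρ x ^ i.val) v) = (ρ x ^ (i + (m : ZMod l)).val) v
    rw [← Module.End.mul_apply, ← pow_add, ZMod.val_add, ZMod.val_natCast, Nat.add_mod_mod,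
      add_comm m, ← pow_eq_pow_mod _ (show ρ x ^ l = 1 by rw [← map_pow, hxl, map_one])]
  -- the stabiliser
  let At : Subgroup (MulAut M) :=
    { carrier := {g | g ∈ A ∧ g t = t}
      one_mem' := ⟨one_mem A, rfl⟩
      mul_mem' := fun {g h} hg hh => ⟨mul_mem hg.1 hh.1, by rw [MulAut.mul_apply, hh.2, hg.2]⟩
      inv_mem' := fun {g} hg => ⟨inv_mem hg.1, (MulEquiv.symm_apply_eq g).2 hg.2.symm⟩ }
  haveI : Finite (MulAut M) := Finite.of_injective (fun g : MulAut M => (g : M → M)) DFunLike.coe_injective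
  have hAt : Nat.card At ≤ 2 * l := by
    refine (card_le_two_mul hl2 B (fun g : At => ρ g) (hρinj.comp Subtype.val_injective)
      (fun g u u' h => ?_) (fun g i => ?_) (fun g i => ?_)).2
    · obtain ⟨m, rfl⟩ := Additive.ofMul.surjective u
      obtain ⟨m', rfl⟩ := Additive.ofMul.surjective u'
      rw [autLinear_apply, autLinear_apply] at h
      exact congrArg Additive.ofMul ((g : MulAut M).injective (Additive.ofMul.injective h))
    · obtain ⟨m, hm⟩ := horb g g.2.1 g.2.2 (B i).toMul
      refine ⟨i + (m : ZMod l), ?_⟩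
      rw [← hshift m i, ← map_pow]
      exact congrArg Additive.ofMul hm
    · obtain ⟨m, hm⟩ := horb g g.2.1 g.2.2 (B i + B (i + 1)).toMul
      refine ⟨i + (m : ZMod l), ?_⟩
      have h : ρ (g : MulAut M) (B i + B (i + 1)) = (ρ x ^ m) (B i + B (i + 1)) := by
        rw [← map_pow]
        exact congrArg Additive.ofMul hm
      rw [h, map_add, hshift, hshift, show i + 1 + (m : ZMod l) = i + (m : ZMod l) + 1 by ring]
  -- orders
  have hKA : K ≤ A := Subgroup.zpowers_le.2 hk
  set n := Nat.card K with hn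
  have hnM : n = 2 ^ l - 1 := by
    have e : K ≃ {v : M // v ≠ 1} :=
      Equiv.ofBijective (fun g => ⟨(g : MulAut M) t, fun e => ht ((g : MulAut M).map_eq_one_iff.1 e)⟩)
        ⟨fun g g' h => by
          have h' : (g : MulAut M) t = (g' : MulAut M) t := congrArg Subtype.val h
          refine Subtype.ext (inv_mul_eq_one.1 (hKfix _ (mul_mem (inv_mem g.2) g'.2) ?_))
          rw [MulAut.mul_apply, ← h']
          exact (g : MulAut M).symm_apply_apply t,
        fun v => by
          obtain ⟨i, hi⟩ := hreg v v.2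
          exact ⟨⟨k ^ i, pow_mem (Subgroup.mem_zpowers k) i⟩, Subtype.ext hi⟩⟩
    haveI := Fintype.ofFinite M
    rw [hn, Nat.card_congr e, Nat.card_eq_fintype_card, Fintype.card_subtype_compl,
      ← Nat.card_eq_fintype_card, hcard]
    simp
  have hn2 : Odd n := by
    rw [hnM]
    exact Nat.Even.sub_odd Nat.one_le_two_pow ((Nat.even_pow).2 ⟨even_two, hl.ne_zero⟩) odd_one
  have hnl : ¬ l ∣ n := by
    intro hd
    have h1 : ((n : ℕ) : ZMod l) = 0 := (ZMod.natCast_eq_zero_iff _ _).2 hd
    rw [hnM, Nat.cast_sub Nat.one_le_two_pow, Nat.cast_pow, ZMod.pow_card] at h1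
    refine one_ne_zero (α := ZMod l) ?_
    calc (1 : ZMod l) = ((2 : ℕ) : ZMod l) - ((1 : ℕ) : ZMod l) := by norm_num
      _ = 0 := h1
  have hA : Nat.card A ≤ n * Nat.card At := by
    have hsurj : Function.Surjective fun p : K × At =>
        (⟨(p.1 : MulAut M) * p.2, mul_mem (hKA p.1.2) p.2.2.1⟩ : A) := by
      intro g
      obtain ⟨i, hi⟩ := hreg ((g : MulAut M) t) fun e => ht ((g : MulAut M).map_eq_one_iff.1 e)
      refine ⟨(⟨k ^ i, pow_mem (Subgroup.mem_zpowers k) i⟩, ⟨(k ^ i)⁻¹ * g,
        mul_mem (inv_mem (hKA (pow_mem (Subgroup.mem_zpowers k) i))) g.2, ?_⟩), ?_⟩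
      · rw [MulAut.mul_apply]
        exact (MulEquiv.symm_apply_eq _).2 hi.symm
      · exact Subtype.ext (mul_inv_cancel_left _ _)
    have := Nat.card_le_card_of_surjective _ hsurj
    rwa [Nat.card_prod] at this
  let N := A ⊓ Subgroup.normalizer (K : Set (MulAut M))
  have hxN : x ∈ N := by
    refine ⟨hx, Subgroup.mem_normalizer_iff.2 fun g => ⟨fun hg => ?_, fun hg => ?_⟩⟩
    · simpa using hxKi 1 g hg
    · have := hxKi (l - 1) _ hg
      have e : x ^ (l - 1) * x = 1 := by rw [← pow_succ, Nat.sub_add_cancel hl.one_le, hxl]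
      rw [show x ^ (l - 1) = x⁻¹ from (eq_inv_of_mul_eq_one_left e)] at this
      simpa [mul_assoc] using this
  have hKN : K ≤ N := le_inf hKA Subgroup.le_normalizer
  have hdiv : n * l ∣ Nat.card N := by
    refine Nat.Coprime.mul_dvd_of_dvd_of_dvd ?_ (Subgroup.card_dvd_of_le hKN) ?_
    · rw [Nat.coprime_comm, hl.coprime_iff_not_dvd]; exact hnl
    · rw [← hordx, ← Subgroup.orderOf_mk x hxN]
      exact orderOf_dvd_natCard _
  intro f hfA hft hff
  -- `f` normalises `⟨k⟩`
  have hfk : f * k * f⁻¹ ∈ K := by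
    have hNA : N ≤ A := inf_le_left
    have hnpos : 0 < n := Nat.card_pos
    have h1 := Subgroup.card_mul_index (N.subgroupOf A)
    rw [Nat.card_congr (Subgroup.subgroupOfEquivOfLe hNA).toEquiv] at h1
    obtain ⟨d, hd⟩ := hdiv
    have hd1 : 1 ≤ d := by
      rcases Nat.eq_zero_or_pos d with rfl | h
      · exact absurd hd (by rw [mul_zero]; exact Nat.card_pos.ne')
      · exact h
    have hprod : d * (N.subgroupOf A).index ≤ 2 := by
      have h2 : Nat.card A ≤ n * (2 * l) := hA.trans (Nat.mul_le_mul_left _ hAt)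
      have h3 : n * l * (d * (N.subgroupOf A).index) ≤ n * l * 2 := by
        calc n * l * (d * (N.subgroupOf A).index) = Nat.card A := by rw [← h1, hd]; ring
          _ ≤ _ := h2.trans_eq (by ring)
      exact Nat.le_of_mul_le_mul_left h3 (Nat.mul_pos hnpos hl.pos)
    have hidx : (N.subgroupOf A).index ≤ 2 := (Nat.le_mul_of_pos_left _ hd1).trans hprod
    haveI hnorm : (N.subgroupOf A).Normal := by
      rcases (show (N.subgroupOf A).index = 1 ∨ (N.subgroupOf A).index = 2 by
        have := Subgroup.index_ne_zero_of_finite (H := N.subgroupOf A); omega) with h | h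
      · rw [Subgroup.index_eq_one.1 h]; infer_instance
      · exact Subgroup.normal_of_index_eq_two h
    have hmem : f * k * f⁻¹ ∈ N :=
      hnorm.conj_mem ⟨k, hk⟩ (hKN (Subgroup.mem_zpowers k)) ⟨f, hfA⟩
    haveI : (K.subgroupOf N).Normal :=
      (Subgroup.normal_subgroupOf_iff_le_normalizer hKN).2 inf_le_right
    have hindex : (K.subgroupOf N).index = l * d := by
      have h2 := Subgroup.card_mul_index (K.subgroupOf N)
      rw [Nat.card_congr (Subgroup.subgroupOfEquivOfLe hKN).toEquiv, hd, mul_assoc] at h2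
      exact Nat.eq_of_mul_eq_mul_left hnpos h2
    let z : N ⧸ K.subgroupOf N := QuotientGroup.mk ⟨f * k * f⁻¹, hmem⟩
    have hz1 : orderOf z ∣ l * d := by
      rw [← hindex, Subgroup.index]
      exact orderOf_dvd_natCard z
    have hz2 : orderOf z ∣ n := by
      refine (orderOf_map_dvd (QuotientGroup.mk' _) (⟨f * k * f⁻¹, hmem⟩ : N)).trans ?_
      rw [Subgroup.orderOf_mk, hn, hK, Nat.card_zpowers]
      exact (MulEquiv.orderOf_eq (MulAut.conj f) k).dvd
    have hco : Nat.Coprime n (l * d) := by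
      refine Nat.Coprime.mul_right (by rw [Nat.coprime_comm, hl.coprime_iff_not_dvd]; exact hnl) ?_
      have : d ≤ 2 := (Nat.le_mul_of_pos_right _ (Nat.pos_of_ne_zero
        Subgroup.index_ne_zero_of_finite)).trans hprod
      interval_cases d
      · exact Nat.coprime_one_right n
      · exact Nat.coprime_two_right.2 hn2
    have hz : z = 1 := orderOf_eq_one_iff.1
      (Nat.eq_one_of_dvd_coprimes hco hz2 hz1)
    exact (QuotientGroup.eq_one_iff (N := K.subgroupOf N) ⟨f * k * f⁻¹, hmem⟩).1 hz
  have hfKi : ∀ i : ℕ, f * k ^ i * f⁻¹ = (f * k * f⁻¹) ^ i := fun i => (conj_pow).symm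
  -- `f` agrees with a power of `x`
  obtain ⟨m, hm⟩ := horb f hfA hft (k t)
  have hxm : f * k * f⁻¹ = x ^ m * k * (x ^ m)⁻¹ := by
    refine (inv_mul_eq_one.1 (hKfix _ (mul_mem (inv_mem hfk) (hxKi m k (Subgroup.mem_zpowers k))) ?_))
    have e1 : (x ^ m * k * (x ^ m)⁻¹) t = (f * k * f⁻¹) t := by
      rw [MulAut.mul_apply, MulAut.mul_apply, MulAut.mul_apply, MulAut.mul_apply,
        show (x ^ m)⁻¹ t = t from (MulEquiv.symm_apply_eq _).2 (hxit m).symm,
        show f⁻¹ t = t from (MulEquiv.symm_apply_eq _).2 hft.symm, hm]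
    rw [MulAut.mul_apply, e1]
    exact (f * k * f⁻¹ : MulAut M).symm_apply_apply t
  have hfx : f = x ^ m := by
    refine MulEquiv.ext fun u => ?_
    rcases eq_or_ne u 1 with rfl | hu
    · rw [map_one, map_one]
    obtain ⟨i, rfl⟩ := hreg u hu
    have e : ∀ g : MulAut M, g t = t → g ((k ^ i) t) = ((g * k * g⁻¹) ^ i) t := fun g hg => by
      rw [conj_pow, MulAut.mul_apply, MulAut.mul_apply,
        show g⁻¹ t = t from (MulEquiv.symm_apply_eq g).2 hg.symm]
    rw [e f hft, e (x ^ m) (hxit m), hxm]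
  rw [hfx, ← pow_two, ← pow_mul, ← orderOf_dvd_iff_pow_eq_one, hordx] at hff
  rw [hfx, ← orderOf_dvd_iff_pow_eq_one, hordx]
  rcases hl.dvd_mul.1 hff with h | h
  · exact h
  · exact absurd (Nat.le_of_dvd two_pos h) (by omega)

end CfsgLib.LocalEven.BenderSplit
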