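import Mathlib.Algebra.Order.BigOperators.Ring.Finset
import Mathlib.Algebra.BigOperators.Ring.Finset
import Mathlib.Tactic.Ring
import Mathlib.Tactic.Linarith
import Mathlib.Tactic.LinearCombination

/-!
# Arithmetic of the doubly transitive linear case

A constituent has multiplicity `μ`, value `x` at an involution and value `a` on `K#`.
-/

set_option autoImplicit false

open Finset

namespace CfsgLib.BenderSplit.LinearCount

variable {ι : Type*}

/-- The type `j ∈ {0,1,2}` of a constituent: `2x = a + jm`. -/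
theorem exists_type {l m x a : ℤ} (hl : 2 * l < m) (hx : 1 ≤ x) (hxm : x ≤ m - 1)
    (ha : a * a < 2 * l + 1) (hd : m ∣ 2 * x - a) :
    ∃ j : ℤ, 2 * x - a = j * m ∧ 0 ≤ j ∧ j ≤ 2 := by
  obtain ⟨j, hj⟩ := hd
  have h1 : a < m := by nlinarith [sq_nonneg (a - 1), sq_nonneg a]
  have h2 : -m < a := by nlinarith [sq_nonneg (a + 1), sq_nonneg a]
  refine ⟨j, by linarith, ?_, ?_⟩
  · by_contra h
    have : j ≤ -1 := by omega
    have hm : 0 ≤ m := by nlinarith [sq_nonneg a]
    nlinarith [mul_le_mul_of_nonneg_left this hm]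
  · by_contra h
    have : 3 ≤ j := by omega
    have hm : 0 ≤ m := by nlinarith [sq_nonneg a]
    nlinarith [mul_le_mul_of_nonneg_left this hm]

/-- The constituents of type `0`: `N = ∑ μ²`, `S = ∑ μ x`. -/
theorem type_zero (A : Finset ι) (μ x a : ι → ℤ) (hμ : ∀ i ∈ A, 1 ≤ μ i) (hx : ∀ i ∈ A, 1 ≤ x i)
    (ha : ∀ i ∈ A, a i = 2 * x i) :
    ∑ i ∈ A, μ i * μ i ≤ (∑ i ∈ A, μ i * x i) * (∑ i ∈ A, μ i * x i) ∧ 0 ≤ ∑ i ∈ A, μ i * x i ∧
      (0 < ∑ i ∈ A, μ i * μ i → 1 ≤ ∑ i ∈ A, μ i * x i ∧ 4 ≤ ∑ i ∈ A, a i * a i) := by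
  have hS0 : 0 ≤ ∑ i ∈ A, μ i * x i :=
    Finset.sum_nonneg fun i hi => by nlinarith [hμ i hi, hx i hi]
  refine ⟨?_, hS0, fun h => ?_⟩
  · rw [Finset.sum_mul]
    refine Finset.sum_le_sum fun i hi => ?_
    have h1 : μ i ≤ μ i * x i := le_mul_of_one_le_right (by linarith [hμ i hi]) (hx i hi)
    have h2 : μ i * x i ≤ ∑ j ∈ A, μ j * x j :=
      Finset.single_le_sum (f := fun j => μ j * x j)
        (fun j hj => by nlinarith [hμ j hj, hx j hj]) hi
    exact mul_le_mul h1 (h1.trans h2) (by linarith [hμ i hi]) (by nlinarith [hμ i hi, hx i hi])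
  · obtain ⟨i, hi⟩ : A.Nonempty := by
      by_contra he
      rw [Finset.not_nonempty_iff_eq_empty] at he
      simp [he] at h
    refine ⟨?_, ?_⟩
    · have h2 : μ i * x i ≤ ∑ j ∈ A, μ j * x j :=
        Finset.single_le_sum (f := fun j => μ j * x j)
          (fun j hj => by nlinarith [hμ j hj, hx j hj]) hi
      nlinarith [hμ i hi, hx i hi]
    · have h2 : a i * a i ≤ ∑ j ∈ A, a j * a j :=
        Finset.single_le_sum (f := fun j => a j * a j) (fun j _ => mul_self_nonneg _) hi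
      rw [ha i hi] at h2
      nlinarith [hx i hi]

/-- No exceptional constituent. -/
theorem false_of_regular [DecidableEq ι] {l s m : ℤ} (C : Finset ι) (μ x a : ι → ℤ) (hs : 1 ≤ s)
    (hsodd : s ≠ 2)
    (hls : l ≤ s + 2) (hl : 2 * l < m) (hμ : ∀ i ∈ C, 1 ≤ μ i) (hx : ∀ i ∈ C, 1 ≤ x i)
    (hd : ∀ i ∈ C, m ∣ 2 * x i - a i) (h2 : ∑ i ∈ C, μ i * μ i = 2 * s + 1)
    (h1 : ∑ i ∈ C, μ i * x i = m - 1) (ha : ∑ i ∈ C, μ i * a i = -2)
    (hb : ∑ i ∈ C, a i * a i ≤ 2 * l) : False := by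
  classical
  have hC : ∀ i ∈ C, ∃ j : ℤ, 2 * x i - a i = j * m ∧ 0 ≤ j ∧ j ≤ 2 := fun i hi => by
    refine exists_type hl (hx i hi) ?_ ?_ (hd i hi)
    · have h : μ i * x i ≤ m - 1 := h1 ▸ Finset.single_le_sum (f := fun j => μ j * x j)
        (fun j hj => by nlinarith [hμ j hj, hx j hj]) hi
      nlinarith [hμ i hi, hx i hi]
    · exact lt_of_le_of_lt ((Finset.single_le_sum (f := fun j => a j * a j)
        (fun j _ => mul_self_nonneg _) hi).trans hb) (lt_add_one _)
  choose! J hJ hJ0 hJ2 using hC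
  have hm : 0 < m := by
    have : (0 : ℤ) ≤ ∑ i ∈ C, a i * a i := Finset.sum_nonneg fun i _ => mul_self_nonneg _
    linarith
  have hsumJ : ∑ i ∈ C, μ i * J i = 2 := by
    have : (∑ i ∈ C, μ i * J i) * m = 2 * m := by
      rw [Finset.sum_mul]
      calc ∑ i ∈ C, μ i * J i * m = ∑ i ∈ C, (2 * (μ i * x i) - μ i * a i) :=
            Finset.sum_congr rfl fun i hi => by linear_combination (-(μ i)) * hJ i hi
        _ = _ := by rw [Finset.sum_sub_distrib, ← Finset.mul_sum, h1, ha]; ring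
    exact mul_right_cancel₀ hm.ne' this
  set A := C.filter fun i => J i = 0 with hA
  set R := C.filter fun i => J i ≠ 0 with hR
  have hAC : ∀ i ∈ A, i ∈ C := fun i hi => (Finset.mem_filter.1 hi).1
  obtain ⟨hN, hS0, hNpos⟩ := type_zero A μ x a (fun i hi => hμ i (hAC i hi))
    (fun i hi => hx i (hAC i hi)) (fun i hi => by
      have := hJ i (hAC i hi)
      rw [(Finset.mem_filter.1 hi).2, zero_mul] at this
      linarith)
  have split : ∀ F : ι → ℤ, ∑ i ∈ C, F i = ∑ i ∈ A, F i + ∑ i ∈ R, F i := fun F =>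
    (Finset.sum_filter_add_sum_filter_not C (fun i => J i = 0) F).symm
  rw [split] at h1 h2 hb
  have hJR : ∑ i ∈ R, μ i * J i = 2 := by
    rw [split, Finset.sum_eq_zero (s := A) fun i hi => by rw [(Finset.mem_filter.1 hi).2, mul_zero],
      zero_add] at hsumJ
    exact hsumJ
  have hR1 : ∀ i ∈ R, 1 ≤ μ i * J i := fun i hi => by
    obtain ⟨hiC, hne⟩ := Finset.mem_filter.1 hi
    have h3 : 1 ≤ J i := by have := hJ0 i hiC; omega
    nlinarith [hμ i hiC]
  have hcard : (R.card : ℤ) ≤ 2 := by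
    rw [← hJR, Finset.card_eq_sum_ones, Nat.cast_sum]
    exact Finset.sum_le_sum fun i hi => by simpa using hR1 i hi
  have hcard' : R.card = 0 ∨ R.card = 1 ∨ R.card = 2 := by omega
  rcases hcard' with h0 | h0 | h0
  · rw [Finset.card_eq_zero] at h0
    simp [h0] at hJR
  · obtain ⟨i, hi⟩ := Finset.card_eq_one.1 h0
    have hiC : i ∈ C := (Finset.mem_filter.1 (hi ▸ Finset.mem_singleton_self i : i ∈ R)).1
    rw [hi, Finset.sum_singleton] at h1 h2 hb hJR
    have hj := hJ i hiC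
    have hj0 : 1 ≤ J i := by
      have := hJ0 i hiC
      have := (Finset.mem_filter.1 (hi ▸ Finset.mem_singleton_self i : i ∈ R)).2
      omega
    rcases (by have := hJ2 i hiC; omega : J i = 1 ∨ J i = 2) with e | e
    · rw [e, mul_one] at hJR
      rw [e, one_mul] at hj
      rw [hJR] at h1 h2
      have he : a i = -1 - ∑ k ∈ A, μ k * x k := by linarith
      rcases (by omega : s = 1 ∨ 2 ≤ s) with rfl | hs2
      · have : (0 : ℤ) ≤ ∑ k ∈ A, μ k * μ k := Finset.sum_nonneg fun k _ => mul_self_nonneg _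
        linarith
      · obtain ⟨hS1, h4⟩ := hNpos (by linarith)
        rw [he] at hb
        have hS2 : 2 ≤ ∑ k ∈ A, μ k * x k := by
          by_contra h
          have e1 : ∑ k ∈ A, μ k * x k = 1 := by omega
          rw [e1] at hN
          omega
        nlinarith
    · rw [e] at hJR hj
      have hμ1 : μ i = 1 := by linarith
      rw [hμ1] at h1 h2
      have he : a i = -2 - 2 * ∑ k ∈ A, μ k * x k := by linarith
      obtain ⟨hS1, h4⟩ := hNpos (by linarith)
      rw [he] at hb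
      nlinarith
  · obtain ⟨i, k, hik, hi⟩ := Finset.card_eq_two.1 h0
    have hiR : i ∈ R := by simp [hi]
    have hkR : k ∈ R := by simp [hi]
    have hiC := (Finset.mem_filter.1 hiR).1
    have hkC := (Finset.mem_filter.1 hkR).1
    rw [hi, Finset.sum_pair hik] at h1 h2 hb hJR
    have e1 : μ i * J i = 1 := by linarith [hR1 i hiR, hR1 k hkR]
    have e2 : μ k * J k = 1 := by linarith [hR1 i hiR, hR1 k hkR]
    have hi1 : μ i = 1 := Int.eq_one_of_mul_eq_one_right (by linarith [hμ i hiC]) e1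
    have hk1 : μ k = 1 := Int.eq_one_of_mul_eq_one_right (by linarith [hμ k hkC]) e2
    rw [hi1, one_mul] at e1
    rw [hk1, one_mul] at e2
    have hji := hJ i hiC
    have hjk := hJ k hkC
    rw [e1, one_mul] at hji
    rw [e2, one_mul] at hjk
    rw [hi1, hk1] at h1 h2
    have he : a i + a k = -2 - 2 * ∑ j ∈ A, μ j * x j := by linarith
    obtain ⟨hS1, h4⟩ := hNpos (by linarith)
    nlinarith [sq_nonneg (a i - a k), congrArg (fun z : ℤ => z * z) he]

/-- `s` exceptional constituents, each of multiplicity one, value `y` at an involution and value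
`b - ε/s` on `K#` on average. -/
theorem false_of_exceptional [DecidableEq ι] {l s m : ℤ} (C : Finset ι) (μ x a : ι → ℤ) (y b e : ℤ)
    (hl5 : 5 ≤ l) (hs : 3 ≤ s) (hls : l ≤ s + 2) (hm : m = 2 * l * s + 1) (h6 : 6 * l < m)
    (he : e = 1 ∨ e = -1) (hy : 1 ≤ y) (hyd : m ∣ 2 * y - (b + 2 * l * e))
    (hμ : ∀ i ∈ C, 1 ≤ μ i) (hx : ∀ i ∈ C, 1 ≤ x i)
    (hd : ∀ i ∈ C, m ∣ 2 * x i - a i) (h2 : ∑ i ∈ C, μ i * μ i = s + 1)
    (h1 : s * y + ∑ i ∈ C, μ i * x i = m - 1) (ha : ∑ i ∈ C, μ i * a i + s * b - e = -2)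
    (hb : ∑ i ∈ C, a i * a i + s * (b * b) - 2 * e * b ≤ 2 * l - 1) : False := by
  classical
  have hA0 : (0 : ℤ) ≤ ∑ i ∈ C, a i * a i := Finset.sum_nonneg fun i _ => mul_self_nonneg _
  have hebb : e * b ≤ b * b := by
    rcases he with rfl | rfl <;> nlinarith [Int.le_self_sq b, Int.le_self_sq (-b)]
  have hbb : (l - 4) * (b * b) ≤ 2 * l - 1 := by nlinarith [mul_self_nonneg b]
  have hb8 : b * b ≤ 9 := by
    by_contra h
    have : 10 ≤ b * b := by omega
    nlinarith
  have hb2 : -2 ≤ b ∧ b ≤ 2 := by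
    have h3 : -3 ≤ b ∧ b ≤ 3 := ⟨by nlinarith, by nlinarith⟩
    have hne : b ≠ 3 ∧ b ≠ -3 := by
      constructor <;> rintro rfl <;> rcases he with rfl | rfl <;> linarith
    omega
  have hCpos : 1 ≤ ∑ i ∈ C, μ i * x i := by
    obtain ⟨i, hi⟩ : C.Nonempty := by
      by_contra h
      rw [Finset.not_nonempty_iff_eq_empty] at h
      simp [h] at h2
      omega
    have : μ i * x i ≤ ∑ j ∈ C, μ j * x j := Finset.single_le_sum (f := fun j => μ j * x j)
        (fun j hj => by nlinarith [hμ j hj, hx j hj]) hi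
    nlinarith [hμ i hi, hx i hi]
  have hy2 : y ≤ 2 * l - 1 := by
    by_contra h
    have : 2 * l ≤ y := by omega
    nlinarith
  obtain ⟨c, hc⟩ := hyd
  have hc0 : c = 0 := by
    rcases he with rfl | rfl <;>
    · by_contra h
      rcases (by omega : c ≤ -1 ∨ 1 ≤ c) with h' | h' <;> nlinarith
  rw [hc0, mul_zero] at hc
  obtain rfl : e = 1 := by
    rcases he with rfl | rfl
    · rfl
    · exfalso
      linarith [hb2.1, hb2.2]
  have hC : ∀ i ∈ C, ∃ j : ℤ, 2 * x i - a i = j * m ∧ 0 ≤ j ∧ j ≤ 2 := fun i hi => by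
    refine exists_type (l := l) (by linarith) (hx i hi) ?_ ?_ (hd i hi)
    · have h : μ i * x i ≤ ∑ j ∈ C, μ j * x j := Finset.single_le_sum (f := fun j => μ j * x j)
        (fun j hj => by nlinarith [hμ j hj, hx j hj]) hi
      nlinarith [hμ i hi, hx i hi, mul_pos (show (0 : ℤ) < s by omega) (show 0 < y by omega)]
    · have h : a i * a i ≤ ∑ j ∈ C, a j * a j :=
        Finset.single_le_sum (f := fun j => a j * a j) (fun j _ => mul_self_nonneg _) hi
      have : 3 * (b * b) ≤ s * (b * b) := mul_le_mul_of_nonneg_right hs (mul_self_nonneg b)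
      linarith [mul_self_nonneg b]
  choose! J hJ hJ0 hJ2 using hC
  have hsumJ : ∑ i ∈ C, μ i * J i = 1 := by
    have : (∑ i ∈ C, μ i * J i) * m = 1 * m := by
      rw [Finset.sum_mul]
      calc ∑ i ∈ C, μ i * J i * m = ∑ i ∈ C, (2 * (μ i * x i) - μ i * a i) :=
            Finset.sum_congr rfl fun i hi => by linear_combination (-(μ i)) * hJ i hi
        _ = _ := by
          rw [Finset.sum_sub_distrib, ← Finset.mul_sum]
          linear_combination 2 * h1 - ha + hm - s * hc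
    exact mul_right_cancel₀ (by omega) this
  set A := C.filter fun i => J i = 0 with hA
  set R := C.filter fun i => J i ≠ 0 with hR
  have hAC : ∀ i ∈ A, i ∈ C := fun i hi => (Finset.mem_filter.1 hi).1
  obtain ⟨hN, hS0, hNpos⟩ := type_zero A μ x a (fun i hi => hμ i (hAC i hi))
    (fun i hi => hx i (hAC i hi)) (fun i hi => by
      have := hJ i (hAC i hi)
      rw [(Finset.mem_filter.1 hi).2, zero_mul] at this
      linarith)
  have split : ∀ F : ι → ℤ, ∑ i ∈ C, F i = ∑ i ∈ A, F i + ∑ i ∈ R, F i := fun F =>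
    (Finset.sum_filter_add_sum_filter_not C (fun i => J i = 0) F).symm
  rw [split] at h1 h2 hb
  have hJR : ∑ i ∈ R, μ i * J i = 1 := by
    rw [split, Finset.sum_eq_zero (s := A) fun i hi => by rw [(Finset.mem_filter.1 hi).2, mul_zero],
      zero_add] at hsumJ
    exact hsumJ
  have hR1 : ∀ i ∈ R, 1 ≤ μ i * J i := fun i hi => by
    obtain ⟨hiC, hne⟩ := Finset.mem_filter.1 hi
    have h3 : 1 ≤ J i := by have := hJ0 i hiC; omega
    nlinarith [hμ i hiC]
  have hcard : (R.card : ℤ) ≤ 1 := by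
    rw [← hJR, Finset.card_eq_sum_ones, Nat.cast_sum]
    exact Finset.sum_le_sum fun i hi => by simpa using hR1 i hi
  rcases (by omega : R.card = 0 ∨ R.card = 1) with h0 | h0
  · rw [Finset.card_eq_zero] at h0
    simp [h0] at hJR
  obtain ⟨i, hi⟩ := Finset.card_eq_one.1 h0
  have hiR : i ∈ R := by simp [hi]
  have hiC := (Finset.mem_filter.1 hiR).1
  rw [hi, Finset.sum_singleton] at h1 h2 hb hJR
  have hμ1 : μ i = 1 := Int.eq_one_of_mul_eq_one_right (by linarith [hμ i hiC]) hJR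
  rw [hμ1, one_mul] at hJR
  have hj := hJ i hiC
  rw [hJR, one_mul] at hj
  rw [hμ1] at h1 h2
  set S := ∑ k ∈ A, μ k * x k with hS
  have hai : a i = -1 - s * b - 2 * S := by linear_combination (-1) * hj + 2 * h1 + hm - s * hc
  obtain ⟨hS1, h4⟩ := hNpos (by linarith)
  rw [hai] at hb
  simp only [mul_one] at hc hb
  by_cases hb0 : b = 0
  · subst hb0
    have e3 : (-1 - s * 0 - 2 * S) * (-1 - s * 0 - 2 * S) = 4 * (S * S) + 4 * S + 1 := by ring
    linarith
  · have hbev : b = 2 ∨ b = -2 := by omega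
    have hodd : (1 : ℤ) ≤ (-1 - s * b - 2 * S) * (-1 - s * b - 2 * S) := by
      have hne : -1 - s * b - 2 * S ≠ 0 := by
        intro h
        rcases hbev with rfl | rfl <;> omega
      have := mul_self_pos.2 hne
      omega
    rcases hbev with rfl | rfl <;> linarith

end CfsgLib.BenderSplit.LinearCount
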