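import Cfsg.Agent.Lib.LocalEven.BenderSplit.Basic

/-!
# The splitting inside a proper subgroup

A proper subgroup `Γ` with two commuting involutions at `a` and an element moving `a` has a
`2`-subgroup, normalised by `Γ ∩ G_a` and regular on the other points of the orbit of `a`; it
contains the involutions of `Γ` at `a` and these are central in it.
-/

set_option autoImplicit false
set_option linter.style.haveILetI false

namespace CfsgLib.LocalEven.BenderSplit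

open Subgroup MulAction CfsgLib.Involution.Dihedral CfsgLib.Involution
  CfsgLib.LocalEven.BenderTransitive CfsgLib.LocalEven.SwapInjective CfsgLib.LocalEven.StrongCore

universe u

variable {G : Type u} [Group G] [Finite G] {H : Subgroup G}

/-- The `2`-elements of a group with central kernel of odd order over a `2`-group form a
subgroup. -/
theorem sylow_two_of_central {A : Type*} [Group A] [Finite A] {K : Subgroup A} [K.Normal]
    (hK : K ≤ center A) (h2 : IsPGroup 2 (A ⧸ K)) {P : Sylow 2 A} {x : A} {i : ℕ}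
    (hx : x ^ 2 ^ i = 1) : x ∈ P := by
  haveI := Fact.mk Nat.prime_two
  haveI : Group.IsNilpotent (A ⧸ K) := h2.isNilpotent
  haveI : Group.IsNilpotent A :=
    Subgroup.isNilpotent_of_ker_le_center (QuotientGroup.mk' K) (by rwa [QuotientGroup.ker_mk'])
  have hz : IsPGroup 2 (zpowers x) := by
    obtain ⟨k, -, hk⟩ := (Nat.dvd_prime_pow Nat.prime_two).1 (orderOf_dvd_of_pow_eq_one hx)
    exact IsPGroup.of_card (by rw [Nat.card_zpowers, hk])
  obtain ⟨Q, hQ⟩ := hz.exists_le_sylow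
  obtain ⟨g, hg⟩ := MulAction.exists_smul_eq A Q P
  have e : Q = P := by
    rw [← hg]
    haveI : (Q : Subgroup A).Normal := inferInstance
    exact (Sylow.smul_eq_of_normal).symm
  exact e ▸ hQ (mem_zpowers x)

/-- The splitting subgroup of the orbit of `a` under a proper subgroup. -/
structure LocalSplit (Γ : Subgroup G) (a : G ⧸ H) (T : Subgroup G) : Prop where
  le : T ≤ Γ ⊓ stabilizer G a
  two : IsPGroup 2 T
  normal : Γ ⊓ stabilizer G a ≤ normalizer (T : Set G)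
  transitive : ∀ γ ∈ Γ, ∀ δ ∈ Γ, γ • a ≠ a → δ • a ≠ a → ∃ t ∈ T, t • γ • a = δ • a
  inv_mem : ∀ t ∈ Γ, orderOf t = 2 → t • a = a → t ∈ T
  inv_central : ∀ t ∈ Γ, orderOf t = 2 → t • a = a → ∀ x ∈ T, Commute t x

set_option maxHeartbeats 1000000 in
theorem exists_localSplit (h : MinSplit H) {Γ : Subgroup G} (hΓ : Γ ≠ ⊤) {a : G ⧸ H} {v w : G}
    (hv : orderOf v = 2) (hva : v • a = a) (hw : orderOf w = 2) (hvw : Commute v w) (hne : v ≠ w)
    (hvΓ : v ∈ Γ) (hwΓ : w ∈ Γ) {g : G} (hg : g ∈ Γ) (hga : g • a ≠ a) :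
    ∃ T, LocalSplit Γ a T := by
  classical
  haveI := Fact.mk Nat.prime_two
  have hH := h.min.se
  set I := closure {x : G | x ∈ Γ ∧ orderOf x = 2} with hI
  have hIΓ : I ≤ Γ := (closure_le _).2 fun x hx => hx.1
  have hinvI : ∀ {x : G}, x ∈ Γ → orderOf x = 2 → x ∈ I := fun hx h2 =>
    subset_closure ⟨hx, h2⟩
  have hswap : ∀ {γ : G}, γ ∈ Γ → γ • a ≠ a → ∃ i ∈ Γ, orderOf i = 2 ∧ i • a = γ • a := by
    intro γ hγ hγa
    obtain ⟨i, hiΓ, hi, hia, -⟩ := exists_swap_mem hH (N := Γ) hγa.symm hv hva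
      (v := γ * v * γ⁻¹) ((Dihedral.orderOf_conj γ v).trans hv)
      (by rw [smul_smul, inv_mul_cancel_right, mul_smul, hva]) hvΓ
      (mul_mem (mul_mem hγ hvΓ) (inv_mem hγ))
    exact ⟨i, hiΓ, hi, hia⟩
  obtain ⟨i₀, hi₀Γ, hi₀, hi₀a⟩ := hswap hg hga
  have hi₀ne : i₀ • a ≠ a := hi₀a ▸ hga
  set L := (stabilizer G a).subgroupOf I with hL
  have hSE := orbit_se hH hv (hinvI hvΓ hv) hva (hinvI hi₀Γ hi₀) hi₀ne
  have hcard : Nat.card I < Nat.card G :=
    lt_of_le_of_ne I.card_le_card_group fun e =>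
      hΓ (eq_top_iff.2 ((Subgroup.eq_top_of_card_eq _ e).ge.trans hIΓ))
  obtain ⟨T₀, hKT, hTL, hT2, hTN, htr⟩ := exists_split_mod_core h.split hcard hSE
    (exists_commuting_subtype hv (hinvI hvΓ hv) hw (hinvI hwΓ hw) hvw hne)
  set K := L.normalCore with hK
  -- the kernel is central
  have hKc : ∀ k ∈ K, ∀ y : I, Commute (k : G) y := by
    intro k hk
    have hkfix : ∀ γ : I, (k : G) • (γ : G) • a = (γ : G) • a := fun γ => by
      have h1 : γ⁻¹ * k * γ⁻¹⁻¹ ∈ L := hk γ⁻¹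
      rw [inv_inv] at h1
      have h2 : ((γ : G)⁻¹ * k * γ) • a = a := mem_stabilizer_iff.1 (mem_subgroupOf.1 h1)
      rwa [mul_smul, mul_smul, inv_smul_eq_iff] at h2
    intro y
    suffices hy : (y : G) ∈ centralizer ({(k : G)} : Set G) from
      (mem_centralizer_singleton_iff.1 hy).symm
    refine (closure_le (centralizer ({(k : G)} : Set G))).2 ?_ y.2
    rintro x ⟨hxΓ, hx2⟩
    refine mem_centralizer_singleton_iff.2 ?_
    obtain ⟨e, hxe⟩ := SE.exists_fixed hH hx2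
    obtain ⟨γ, hγI, hγ⟩ := fixed_mem_orbit hH hv (hinvI hvΓ hv) hva (hinvI hi₀Γ hi₀) hi₀ne hx2
      (hinvI hxΓ hx2) hxe
    obtain ⟨δ, hδI, hδ⟩ : ∃ δ ∈ I, δ • a ≠ e := by
      by_cases hae : a = e
      · exact ⟨i₀, hinvI hi₀Γ hi₀, hae ▸ hi₀ne⟩
      · exact ⟨1, one_mem _, by rwa [one_smul]⟩
    refine (h.min.rigid.commute hδ hx2 hxe (P := K.map I.subtype) ?_ ?_ ⟨k, hk, rfl⟩).symm.eq
    · rintro _ ⟨m, hm, rfl⟩
      have hmfix : ∀ ε : I, (m : G) • (ε : G) • a = (ε : G) • a := fun ε => by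
        have h1 : ε⁻¹ * m * ε⁻¹⁻¹ ∈ L := hm ε⁻¹
        rw [inv_inv] at h1
        have h2 : ((ε : G)⁻¹ * m * ε) • a = a := mem_stabilizer_iff.1 (mem_subgroupOf.1 h1)
        rwa [mul_smul, mul_smul, inv_smul_eq_iff] at h2
      exact mem_stab2.2 ⟨by rw [← hγ]; exact hmfix ⟨γ, hγI⟩, hmfix ⟨δ, hδI⟩⟩
    · refine Coprime.mem_normalizer_of_conj_map_le ?_
      rintro _ ⟨m, hm, rfl⟩
      exact ⟨⟨x, hinvI hxΓ hx2⟩ * m * ⟨x, hinvI hxΓ hx2⟩⁻¹,
        Normal.conj_mem inferInstance m hm _, rfl⟩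
  -- the `2`-elements at `a` lie in the lift
  have hmem : ∀ {x : I}, x ∈ L → ∀ {j : ℕ}, x ^ 2 ^ j = 1 → x ∈ T₀ := by
    intro x hx j hj
    set x₀ : I := ⟨i₀, hinvI hi₀Γ hi₀⟩ with hx₀
    have hg₁ : ∀ {y : I}, y ∈ L → y * x₀ ∉ L := fun {y} hy hmem =>
      hi₀ne (mem_stabilizer_iff.1 (mem_subgroupOf.1 ((Subgroup.mul_mem_cancel_left _ hy).1 hmem)))
    obtain ⟨t, ht, htx⟩ := htr x₀ (x * x₀) (by simpa using hg₁ (one_mem L)) (hg₁ hx)
    set d : I := t⁻¹ * x with hd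
    have hdL : d ∈ L := mul_mem (inv_mem (hTL ht)) hx
    have hdfix : (d : G) • i₀ • a = i₀ • a := by
      have h1 : (((t * x₀)⁻¹ * (x * x₀) : I) : G) • a = a :=
        mem_stabilizer_iff.1 (mem_subgroupOf.1 htx)
      rw [show (t * x₀)⁻¹ * (x * x₀) = x₀⁻¹ * (d * x₀) by rw [hd]; group] at h1
      simp only [Subgroup.coe_mul, InvMemClass.coe_inv, mul_smul, inv_smul_eq_iff] at h1
      exact h1
    have hodd : Odd (orderOf d) := by
      rw [← orderOf_coe]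
      exact (odd_stab2 hH hi₀ne.symm).of_dvd_nat (Subgroup.orderOf_dvd_natCard _
        (mem_stab2.2 ⟨mem_stabilizer_iff.1 (mem_subgroupOf.1 hdL), hdfix⟩))
    haveI : (T₀.subgroupOf L).Normal := (normal_subgroupOf_iff_le_normalizer hTL).2 hTN
    set π := QuotientGroup.mk' (T₀.subgroupOf L)
    have hxd : π ⟨x, hx⟩ = π ⟨d, hdL⟩ := by
      refine (QuotientGroup.eq.2 (mem_subgroupOf.2 ?_)).symm
      change d⁻¹ * x ∈ T₀
      rw [hd, mul_inv_rev, inv_inv]
      exact BenderTransitive.conj_inv_mem_of_mem_normalizer (hTN hx) ht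
    have h1 : orderOf (π ⟨x, hx⟩) ∣ 2 ^ j := orderOf_dvd_of_pow_eq_one (by
      rw [← map_pow, show (⟨x, hx⟩ : L) ^ 2 ^ j = 1 from Subtype.ext hj, map_one])
    have h2 : orderOf (π ⟨x, hx⟩) ∣ orderOf d := by
      rw [hxd]
      exact (orderOf_map_dvd π _).trans (by rw [← orderOf_coe])
    have h3 : orderOf (π ⟨x, hx⟩) = 1 := Nat.eq_one_of_dvd_coprimes
      ((Nat.coprime_two_left.2 hodd).pow_left j) h1 h2
    exact mem_subgroupOf.1 ((QuotientGroup.eq_one_iff _).1 (orderOf_eq_one_iff.1 h3))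
  -- the Sylow subgroup of the lift
  set KT := K.subgroupOf T₀ with hKT₀
  have hKTc : KT ≤ center T₀ := fun k hk => Subgroup.mem_center_iff.2 fun y =>
    Subtype.ext (Subtype.ext (hKc _ (mem_subgroupOf.1 hk) y).symm.eq)
  haveI : KT.Normal := ⟨fun m hm y => mem_subgroupOf.2
    (Normal.conj_mem inferInstance _ (mem_subgroupOf.1 hm) _)⟩
  have hquot : IsPGroup 2 (T₀ ⧸ KT) := by
    intro q
    obtain ⟨t, rfl⟩ := QuotientGroup.mk'_surjective KT q
    obtain ⟨i, hi⟩ := hT2 _ t.2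
    exact ⟨i, by rw [← map_pow]; exact (QuotientGroup.eq_one_iff _).2 (mem_subgroupOf.2 hi)⟩
  set P := (default : Sylow 2 T₀)
  set T : Subgroup G := ((P : Subgroup T₀).map T₀.subtype).map I.subtype with hT
  have hTtwo : IsPGroup 2 T := (P.isPGroup'.map _).map _
  have hTle : T ≤ Γ ⊓ stabilizer G a := by
    rintro _ ⟨_, ⟨y, -, rfl⟩, rfl⟩
    exact ⟨hIΓ (y : I).2, mem_subgroupOf.1 (hTL y.2)⟩
  have hTmem : ∀ {x : G}, x ∈ I → x • a = a → ∀ {j : ℕ}, x ^ 2 ^ j = 1 → x ∈ T := by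
    intro x hx hxa j hj
    have h0 := hmem (x := ⟨x, hx⟩) (mem_subgroupOf.2 (mem_stabilizer_iff.2 hxa))
      (j := j) (Subtype.ext hj)
    exact ⟨_, ⟨⟨⟨x, hx⟩, h0⟩,
      sylow_two_of_central hKTc hquot (i := j) (Subtype.ext (Subtype.ext hj)), rfl⟩, rfl⟩
  have hTnorm : Γ ⊓ stabilizer G a ≤ normalizer (T : Set G) := by
    rintro d ⟨hdΓ, hda⟩
    refine Coprime.mem_normalizer_of_conj_map_le fun y hy => ?_
    obtain ⟨j, hj⟩ := hTtwo ⟨y, hy⟩
    have hyI : y ∈ I := by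
      obtain ⟨_, ⟨z, -, rfl⟩, rfl⟩ := hy
      exact (z : I).2
    have hΓI : Γ ≤ normalizer (I : Set G) := fun n hn => normalizer_closure fun s hs =>
      subset_closure ⟨mul_mem (mul_mem hn hs.1) (inv_mem hn),
        (Dihedral.orderOf_conj n s).trans hs.2⟩
    refine hTmem (BenderTransitive.conj_mem_of_mem_normalizer (hΓI hdΓ) hyI) ?_ (j := j) ?_
    · exact mem_stabilizer_iff.1 (mul_mem (mul_mem hda (hTle hy).2) (inv_mem hda))
    · rw [_root_.conj_pow, show y ^ 2 ^ j = 1 from congrArg Subtype.val hj, mul_one, mul_inv_cancel]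
  -- every element of the lift differs from one of `T` by a kernel element
  have hdecomp : ∀ t ∈ T₀, ∃ p ∈ T, ∃ k ∈ K, (t : G) = p * k := by
    intro t ht
    obtain ⟨i, hi⟩ := hT2 t ht
    have hKodd : Odd (orderOf (t ^ 2 ^ i)) := by
      rw [← orderOf_coe]
      refine (odd_stab2 hH hi₀ne.symm).of_dvd_nat (Subgroup.orderOf_dvd_natCard _ ?_)
      refine mem_stab2.2 ⟨mem_stabilizer_iff.1 (mem_subgroupOf.1 (L.normalCore_le hi)), ?_⟩
      have h1 := hi (⟨i₀, hinvI hi₀Γ hi₀⟩ : I)⁻¹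
      rw [inv_inv] at h1
      have h2 := mem_stabilizer_iff.1 (mem_subgroupOf.1 h1)
      simp only [Subgroup.coe_mul, InvMemClass.coe_inv, mul_smul, inv_smul_eq_iff] at h2
      exact h2
    obtain ⟨m, hm⟩ := exists_pow_eq_self_of_coprime
      ((Nat.coprime_two_left.2 hKodd).pow_left i)
    set k := (t ^ 2 ^ i) ^ m with hk
    have hkK : k ∈ K := pow_mem hi m
    have hki : k ^ 2 ^ i = t ^ 2 ^ i := by
      rw [hk, ← pow_mul, mul_comm, pow_mul]; exact hm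
    have hc : Commute t k⁻¹ := ((Commute.refl t).pow_right _ |>.pow_right m).inv_right
    refine ⟨((t * k⁻¹ : I) : G), hTmem (t * k⁻¹).2 ?_ (j := i) ?_, k, hkK,
      by rw [← Subgroup.coe_mul, inv_mul_cancel_right]⟩
    · exact mem_stabilizer_iff.1 (mem_subgroupOf.1
        (mul_mem (hTL ht) (inv_mem (L.normalCore_le hkK))))
    · rw [← SubmonoidClass.coe_pow, hc.mul_pow, inv_pow, hki, mul_inv_cancel]
      rfl
  refine ⟨T, hTle, hTtwo, hTnorm, fun γ hγ δ hδ hγa hδa => ?_,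
    fun t htΓ ht hta => hTmem (hinvI htΓ ht) hta (j := 1) (by rw [pow_one, pow_two, mul_self ht]),
    ?_⟩
  · obtain ⟨i, hiΓ, hi, hia⟩ := hswap hγ hγa
    obtain ⟨j, hjΓ, hj, hja⟩ := hswap hδ hδa
    have hout : ∀ {x : G} (hx : x ∈ I), x • a ≠ a → (⟨x, hx⟩ : I) ∉ L := fun hx hne' hmem' =>
      hne' (mem_stabilizer_iff.1 (mem_subgroupOf.1 hmem'))
    obtain ⟨t, ht, htm⟩ := htr ⟨i, hinvI hiΓ hi⟩ ⟨j, hinvI hjΓ hj⟩
      (hout _ (hia ▸ hγa)) (hout _ (hja ▸ hδa))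
    obtain ⟨p, hp, k, hk, e⟩ := hdecomp t ht
    refine ⟨p, hp, ?_⟩
    have h1 : ((t : G) * i)⁻¹ • j • a = a := by
      have h := mem_stabilizer_iff.1 (mem_subgroupOf.1 htm)
      simpa [mul_smul] using h
    rw [inv_smul_eq_iff, mul_smul, e, mul_smul] at h1
    have hkfix : (k : G) • i • a = i • a := by
      have h2 := hk (⟨i, hinvI hiΓ hi⟩ : I)⁻¹
      rw [inv_inv] at h2
      have h3 := mem_stabilizer_iff.1 (mem_subgroupOf.1 h2)
      simp only [Subgroup.coe_mul, InvMemClass.coe_inv, mul_smul, inv_smul_eq_iff] at h3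
      exact h3
    rw [← hia, ← hja, h1, hkfix]
  · -- centrality
    intro t htΓ ht hta x hx
    have htT : t ∈ T := hTmem (hinvI htΓ ht) hta (j := 1) (by rw [pow_one, pow_two, mul_self ht])
    haveI : Nontrivial T := ⟨⟨⟨t, htT⟩, 1, fun e => ne_one ht (congrArg Subtype.val e)⟩⟩
    obtain ⟨⟨z, hzT⟩, hzc, hz2⟩ : ∃ z : T, z ∈ center T ∧ orderOf z = 2 := by
      haveI := IsPGroup.center_nontrivial hTtwo
      obtain ⟨n, hn, hn'⟩ := ((hTtwo.to_subgroup (center T)).nontrivial_iff_card.1 inferInstance)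
      obtain ⟨z, hz⟩ := exists_prime_orderOf_dvd_card' (G := center T) 2
        (hn' ▸ dvd_pow_self 2 hn.ne')
      exact ⟨z, z.2, (orderOf_coe z).trans hz⟩
    rw [orderOf_mk] at hz2
    have hza : z • a = a := mem_stabilizer_iff.1 (hTle hzT).2
    obtain ⟨d, hdΓ, hd, e⟩ := exists_conj_fixing_mem hH (N := Γ) hi₀ne.symm hz2 hza ht hta
      (v := i₀ * v * i₀⁻¹) ((Dihedral.orderOf_conj i₀ v).trans hv)
      (by rw [smul_smul, inv_mul_cancel_right, mul_smul, hva]) (hTle hzT).1 htΓ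
      (mul_mem (mul_mem hi₀Γ hvΓ) (inv_mem hi₀Γ))
    have hdN : d ∈ normalizer (T : Set G) :=
      hTnorm ⟨hdΓ, mem_stabilizer_iff.2 (mem_stab2.1 hd).1⟩
    have hx' := BenderTransitive.conj_inv_mem_of_mem_normalizer hdN hx
    have h1 : Commute z (d⁻¹ * x * d) :=
      (congrArg Subtype.val (Subgroup.mem_center_iff.1 hzc ⟨_, hx'⟩) :).symm
    have h2 := h1.map (MulAut.conj d).toMonoidHom
    simp only [MulEquiv.coe_toMonoidHom, MulAut.conj_apply, e] at h2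
    rwa [show d * (d⁻¹ * x * d) * d⁻¹ = x by group] at h2

end CfsgLib.LocalEven.BenderSplit
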