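import Cfsg.Agent.Lib.LocalEven.BenderSplit.Transfer
import Cfsg.Agent.Lib.LocalEven.BenderSplit.End
import Cfsg.Agent.Lib.LocalEven.BenderSplit.Linear.Centralized

/-!
# Assembly of the splitting theorem

In a least configuration in which the involutions at a point commute, the elements of `2`-power order
at the point act semiregularly on the other points, so the configuration splits.
-/

set_option autoImplicit false
set_option linter.style.haveILetI false

namespace CfsgLib.LocalEven.BenderSplit

open Subgroup MulAction CfsgLib.Involution.Dihedral CfsgLib.Involution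
  CfsgLib.LocalEven.BenderTransitive CfsgLib.LocalEven.SwapInjective CfsgLib.LocalEven.StrongCore

universe u

variable {G : Type u} [Group G] [Finite G] {H : Subgroup G}

/-- A configuration with commuting involutions at `a` splits, given that in the faithful case the
elements of `2`-power order centralise these involutions as soon as a pure element exists. -/
theorem hasSplit_of_linear (h : MinSplit H) {a b : G ⧸ H} (hab : a ≠ b)
    (hlin : ∀ s t : G, orderOf s = 2 → s • a = a → orderOf t = 2 → t • a = a → Commute s t)
    (hfaithful : (∀ c ∈ stab2 a b, (∀ t : G, orderOf t = 2 → t • a = a → Commute c t) → c = 1) →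
      ∀ x : G, Pure x a b →
        ∀ g ∈ twoGen (stabilizer G a), ∀ t : G, orderOf t = 2 → t • a = a → Commute g t) :
    HasSplit H := by
  classical
  refine hasSplit_of_semiregular h hab (fun g hg hgb => ?_) hlin
  by_contra hg1
  set L := twoGen (stabilizer G a)
  have hLa : L ≤ stabilizer G a := twoGen_le _
  have hLn : stab2 a b ≤ normalizer (L : Set G) :=
    (inf_le_left.trans le_normalizer).trans (normalizer_twoGen (stabilizer G a))
  have hne : L ⊓ stab2 a b ≠ ⊥ := fun e => hg1 (mem_bot.1
    (e ▸ mem_inf.2 ⟨hg, mem_stab2.2 ⟨mem_stabilizer_iff.1 (hLa hg), hgb⟩⟩))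
  obtain ⟨x, hxL, hx⟩ := exists_pure_mem h hab hLa hLn (twoGen_twoGen _) hne
  -- it suffices that `L` centralises the involutions at `a`
  suffices hcen : ∀ g ∈ L, ∀ t : G, orderOf t = 2 → t • a = a → Commute g t by
    obtain ⟨v, w, hv, hva, hw, hwa, -, hvw⟩ := exists_four h.min.se h.min.comm a
    exact hvw (hx.one.2 v w hv hva (hcen x hxL v hv hva).symm hw hwa (hcen x hxL w hw hwa).symm)
  by_cases hW : ∃ c ∈ stab2 a b, c ≠ 1 ∧ ∀ t : G, orderOf t = 2 → t • a = a → Commute c t
  · obtain ⟨c, hc, hc1, hcE⟩ := hW
    exact twoGen_le_centralizer_of_centralized h hab hlin hc hc1 hcE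
  · push Not at hW
    refine hfaithful (fun c hc hcE => by_contra fun hc1 => ?_) x hx
    obtain ⟨t, ht, hta, hct⟩ := hW c hc hc1
    exact hct (hcE t ht hta)

end CfsgLib.LocalEven.BenderSplit
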