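import Cfsg.Agent.Lib.LocalEven.BenderSplit.Pure

/-!
# Pure elements from transfer

Let `L ≤ G_a` be generated by its elements of `2`-power order and normalised by `G_{a,b}`.  A
homomorphism of `L ⊓ G_{a,b}` to an abelian group kills every element of prime power order whose
power of prime order is not pure, so a nontrivial one has a pure witness.
-/

set_option autoImplicit false
set_option linter.style.haveILetI false

namespace CfsgLib.LocalEven.BenderSplit

open Subgroup MulAction CfsgLib.Involution.Dihedral CfsgLib.Involution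
  CfsgLib.LocalEven.BenderTransitive CfsgLib.LocalEven.SwapInjective CfsgLib.LocalEven.StrongCore

universe u v

variable {G : Type u} [Group G] {H : Subgroup G}

/-- `One` is invariant under conjugation. -/
theorem One.conj {x : G} {a : G ⧸ H} (h : One x a) (g : G) : One (g * x * g⁻¹) (g • a) := by
  obtain ⟨⟨t, ht, hta, htx⟩, huniq⟩ := h
  have key : ∀ {s : G}, orderOf s = 2 → s • g • a = g • a → Commute s (g * x * g⁻¹) →
      orderOf (g⁻¹ * s * g) = 2 ∧ (g⁻¹ * s * g) • a = a ∧ Commute (g⁻¹ * s * g) x :=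
    fun {s} hs hsa hsx =>
    ⟨by rw [← hs]; simpa using orderOf_conj g⁻¹ s, by rw [mul_smul, mul_smul, hsa, inv_smul_smul],
      by simpa [mul_assoc] using hsx.map (MulAut.conj g⁻¹).toMonoidHom⟩
  refine ⟨⟨g * t * g⁻¹, (orderOf_conj g t).trans ht,
    by rw [smul_smul, inv_mul_cancel_right, mul_smul, hta], htx.map (MulAut.conj g).toMonoidHom⟩,
    fun s s' hs hsa hsx hs' hsa' hsx' => ?_⟩
  obtain ⟨h1, h2, h3⟩ := key hs hsa hsx
  obtain ⟨h4, h5, h6⟩ := key hs' hsa' hsx'
  exact mul_left_cancel (mul_right_cancel (huniq _ _ h1 h2 h3 h4 h5 h6))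

/-- A `2`-power element and an odd order element differing by an element of a subgroup they
normalise: the former lies in the subgroup. -/
theorem mem_of_two_pow_mul [Finite G] {L : Subgroup G} {τ l d : G} (hl : l ∈ L) (he : τ = l * d)
    (hd : d ∈ normalizer (L : Set G)) (hdodd : Odd (orderOf d)) {i : ℕ} (hτ : τ ^ 2 ^ i = 1) :
    τ ∈ L := by
  set N := normalizer (L : Set G)
  haveI : (L.subgroupOf N).Normal := normal_in_normalizer
  set π := QuotientGroup.mk' (L.subgroupOf N)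
  have hlN : l ∈ N := le_normalizer hl
  have hτN : τ ∈ N := he ▸ mul_mem hlN hd
  have h1 : π ⟨τ, hτN⟩ = π ⟨d, hd⟩ := by
    rw [show (⟨τ, hτN⟩ : N) = ⟨l, hlN⟩ * ⟨d, hd⟩ from Subtype.ext he, map_mul,
      show π ⟨l, hlN⟩ = 1 from (QuotientGroup.eq_one_iff _).2 (mem_subgroupOf.2 hl), one_mul]
  have h2 : orderOf (π ⟨τ, hτN⟩) ∣ 2 ^ i := orderOf_dvd_of_pow_eq_one (by
    rw [← map_pow, show (⟨τ, hτN⟩ : N) ^ 2 ^ i = 1 from Subtype.ext hτ, map_one])
  have h3 : orderOf (π ⟨τ, hτN⟩) ∣ orderOf d := by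
    rw [h1]; exact (orderOf_map_dvd π _).trans (by rw [← orderOf_coe])
  have h4 := Nat.eq_one_of_dvd_coprimes ((Nat.coprime_two_left.2 hdodd).pow_left i) h2 h3
  exact mem_subgroupOf.1 ((QuotientGroup.eq_one_iff _).1 (orderOf_eq_one_iff.1 h4))

variable [Finite G]

section

variable (h : MinSplit H) {r : ℕ} [hr' : Fact r.Prime] {a b : G ⧸ H} (hab : a ≠ b)
  {L : Subgroup G} (hLa : L ≤ stabilizer G a) (hLn : stab2 a b ≤ normalizer (L : Set G))

include h hab hLa hLn

/-- The fixed points in the orbit `L • b` of an element of `r`-power order whose power of order `r` is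
not pure: each is `τ • b` for some `τ ∈ L` commuting with it, and their number is prime to `r`. -/
theorem exists_fixed_param {x : G} {k : ℕ} (hxab : x ∈ stab2 a b) (hx : orderOf x = r ^ (k + 1))
    (hone : ¬ One (x ^ r ^ k) a) :
    ∃ S : Subgroup G, S ≤ L ∧ (∀ s ∈ S, Commute s x) ∧ (∀ s ∈ S, s • b = b → s = 1) ∧
      ¬ r ∣ Nat.card S ∧ ∀ l ∈ L, x • l • b = l • b → ∃ s ∈ S, s • b = l • b := by
  classical
  set x₀ := x ^ r ^ k with hx₀
  have ho : orderOf x₀ = r := by
    rw [hx₀, orderOf_pow' _ (pow_ne_zero _ hr'.out.ne_zero), hx,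
      Nat.gcd_eq_right (pow_dvd_pow r k.le_succ), pow_succ,
      Nat.mul_div_cancel_left _ (pow_pos hr'.out.pos k)]
  have hx₀ab : x₀ ∈ stab2 a b := pow_mem hxab _
  have hfix₀ : ∀ {c : G ⧸ H}, x • c = c → x₀ • c = c := fun {c} hc =>
    mem_stabilizer_iff.1 (pow_mem (mem_stabilizer_iff.2 hc) _)
  have hne : ∀ {l : G}, l ∈ L → l • b ≠ a := fun {l} hl e => hab.symm (by
    have h1 : l • a = a := mem_stabilizer_iff.1 (hLa hl)
    exact MulAction.injective l (e.trans h1.symm))
  by_cases heven : Even (Nat.card (centralizer ({x₀} : Set G)))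
  · -- two commuting involutions at `a` centralised
    have h2 : Two x₀ a := (one_or_two h hab ho hx₀ab heven).resolve_left hone
    obtain ⟨T, hT⟩ := exists_twoSplit h hab ho hx₀ab h2
    refine ⟨T ⊓ L ⊓ centralizer ({x} : Set G), inf_le_left.trans inf_le_right,
      fun s hs => mem_centralizer_singleton_iff.1 (mem_inf.1 hs).2, fun s hs hsb => ?_, ?_, ?_⟩
    · have hsT := (mem_inf.1 (mem_inf.1 hs).1).1
      exact eq_one_of_pgroup_fixed h.min.se hT.two hsT hab
        (mem_stabilizer_iff.1 (mem_inf.1 (hT.le hsT)).2) hsb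
    · obtain ⟨j, hj⟩ := (hT.two.to_le (inf_le_left.trans inf_le_left :
        T ⊓ L ⊓ centralizer ({x} : Set G) ≤ T)).exists_card_eq
      rw [hj]
      intro hd
      have hr2 : r = 2 := (Nat.prime_dvd_prime_iff_eq hr'.out Nat.prime_two).1
        (hr'.out.dvd_of_dvd_pow hd)
      have hodd : Odd r := ho ▸ (odd_stab2 h.min.se hab).of_dvd_nat
        (Subgroup.orderOf_dvd_natCard _ hx₀ab)
      exact absurd (hr2 ▸ hodd) (by decide)
    · intro l hl hlx
      obtain ⟨τ, hτ, hτx, hτb⟩ := exists_translation h hab ho hx₀ab h2 hT (X := zpowers x)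
        (zpowers_le.2 (mem_centralizer_singleton_iff.2 ((Commute.refl x).pow_right _).eq))
        (zpowers_le.2 hxab) (hne hl) (hfix₀ hlx) (zpowers_le.2 (mem_stabilizer_iff.2 hlx))
      have hτa : τ • a = a := mem_stabilizer_iff.1 (mem_inf.1 (hT.le hτ)).2
      have hd : l⁻¹ * τ ∈ stab2 a b := mem_stab2.2
        ⟨by rw [mul_smul, hτa, inv_smul_eq_iff]; exact (mem_stabilizer_iff.1 (hLa hl)).symm,
          by rw [mul_smul, hτb, inv_smul_smul]⟩
      obtain ⟨i, hi⟩ := hT.two ⟨τ, hτ⟩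
      have hτL : τ ∈ L := mem_of_two_pow_mul hl (mul_inv_cancel_left l τ).symm (hLn hd)
        ((odd_stab2 h.min.se hab).of_dvd_nat (Subgroup.orderOf_dvd_natCard _ hd))
        (congrArg Subtype.val hi)
      rw [centralizer_zpowers_eq] at hτx
      exact ⟨τ, mem_inf.2 ⟨mem_inf.2 ⟨hτ, hτL⟩, hτx⟩, hτb⟩
  · -- only two fixed points
    have hp : IsPGroup r (zpowers x₀) := isPGroup_zpowers_of_orderOf (k := 1) (by rw [ho, pow_one])
    have hr : r ∣ mult H := by
      by_contra hr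
      have h1 := card_centralized_modEq h.min.se hp (mem_stab2.1 hx₀ab).1
      have h2 : Nat.card {t : G // orderOf t = 2 ∧ t ∈ centralizer ({x₀} : Set G) ∧ t • a = a} ≠ 0 :=
        fun e => hr (Nat.modEq_zero_iff_dvd.1 (e ▸ h1).symm)
      haveI := (Nat.card_pos_iff.1 (Nat.pos_of_ne_zero h2)).1
      obtain ⟨⟨t, ht, htC, -⟩⟩ :=
        ‹Nonempty {t : G // orderOf t = 2 ∧ t ∈ centralizer ({x₀} : Set G) ∧ t • a = a}›
      exact heven (even_centralizer_of_commute ht (mem_centralizer_singleton_iff.1 htC))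
    have hspec := (fixedSpec h hr hp (fun e => hr'.out.ne_one (by
      rw [← ho, zpowers_eq_bot.1 e, orderOf_one])) hab (zpowers_le.2 hx₀ab)).1
      (by rw [centralizer_zpowers_eq]; exact Nat.not_even_iff_odd.1 heven)
    refine ⟨⊥, bot_le, fun s hs => by rw [mem_bot.1 hs]; exact Commute.one_left x,
      fun s hs _ => mem_bot.1 hs, by rw [Subgroup.card_bot]; exact hr'.out.not_dvd_one,
      fun l hl hlx => ⟨1, one_mem _, ?_⟩⟩
    rcases hspec (l • b) (zpowers_le.2 (mem_stabilizer_iff.2 (hfix₀ hlx))) with e | e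
    · exact absurd e (hne hl)
    · rw [one_smul, e]

end

section

variable (h : MinSplit H) {a b : G ⧸ H} (hab : a ≠ b)
  {L : Subgroup G} (hLa : L ≤ stabilizer G a) (hLn : stab2 a b ≤ normalizer (L : Set G))
  (hL2 : twoGen L = L) {A : Type v} [CommGroup A] (f : (L ⊓ stab2 a b : Subgroup G) →* A)

include h hab hLa hLn hL2

/-- Elements of prime power order without pure power are killed. -/
theorem map_eq_one_of_not_pure {r : ℕ} [hr' : Fact r.Prime] :
    ∀ (k : ℕ) (x : (L ⊓ stab2 a b : Subgroup G)), orderOf (x : G) = r ^ (k + 1) →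
      ¬ Pure ((x : G) ^ r ^ k) a b → f x = 1 := by
  classical
  intro k
  induction k using Nat.strong_induction_on with
  | h k ih =>
  intro x hx hnp
  have hxab : (x : G) ∈ stab2 a b := (mem_inf.1 x.2).2
  have hone : ¬ One ((x : G) ^ r ^ k) a := fun h1 => hnp ⟨by
    rw [orderOf_pow' _ (pow_ne_zero _ hr'.out.ne_zero), hx,
      Nat.gcd_eq_right (pow_dvd_pow r k.le_succ), pow_succ,
      Nat.mul_div_cancel_left _ (pow_pos hr'.out.pos k)]
    exact hr'.out, pow_mem hxab _, h1⟩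
  obtain ⟨S, hSL, hSx, hSb, hSr, hSfix⟩ := exists_fixed_param h hab hLa hLn hxab hx hone
  set K : Subgroup L := (stab2 a b).subgroupOf L with hK
  have hmemK : ∀ {l : L}, l ∈ K ↔ (l : G) • b = b := fun {l} => by
    rw [hK, mem_subgroupOf, mem_stab2]
    exact ⟨fun h' => h'.2, fun h' => ⟨mem_stabilizer_iff.1 (hLa l.2), h'⟩⟩
  let φ : K →* f.range :=
    f.rangeRestrict.comp (MonoidHom.mk' (fun l => ⟨((l : L) : G), (l : L).2, l.2⟩) fun _ _ => rfl)
  have hφ : ∀ (l : L) (hl : l ∈ K) (hl' : (l : G) ∈ L ⊓ stab2 a b),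
      (φ ⟨l, hl⟩ : A) = f ⟨l, hl'⟩ := fun l hl hl' => rfl
  set x' : L := ⟨x, (mem_inf.1 x.2).1⟩ with hx'
  -- the transfer is trivial
  haveI : Finite f.range := Finite.of_surjective _ f.rangeRestrict_surjective
  have hodd : Odd (Nat.card f.range) :=
    ((odd_stab2 h.min.se hab).of_dvd_nat (Subgroup.card_dvd_of_le inf_le_right)).of_dvd_nat
      (Subgroup.card_range_dvd f)
  have htriv : MonoidHom.transfer φ x' = 1 := by
    have hle : twoGen L ≤ (MonoidHom.transfer φ).ker.map L.subtype := twoGen_le_iff.2 fun g hg i hi => by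
      refine ⟨⟨g, hg⟩, MonoidHom.mem_ker.2 (orderOf_eq_one_iff.1 ?_), rfl⟩
      have h1 : orderOf (MonoidHom.transfer φ ⟨g, hg⟩) ∣ 2 ^ i := orderOf_dvd_of_pow_eq_one (by
        rw [← map_pow, show (⟨g, hg⟩ : L) ^ 2 ^ i = 1 from Subtype.ext hi, map_one])
      exact Nat.eq_one_of_dvd_coprimes ((Nat.coprime_two_left.2 hodd).pow_left i) h1
        (_root_.orderOf_dvd_natCard _)
    rw [hL2] at hle
    obtain ⟨y, hy, e⟩ := hle x'.2
    rw [show y = x' from Subtype.ext e] at hy
    exact hy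
  -- evaluation
  letI : Fintype (Quotient (orbitRel (zpowers x') (L ⧸ K))) := Fintype.ofFinite _
  rw [MonoidHom.transfer_eq_prod_quotient_orbitRel_zpowers_quot] at htriv
  let F := {q : L ⧸ K // x' • q = q}
  have hfixiff : ∀ l : L, x' • (l : L ⧸ K) = (l : L ⧸ K) ↔ (x : G) • (l : G) • b = (l : G) • b := by
    intro l
    rw [MulAction.Quotient.smul_mk, QuotientGroup.eq, hmemK]
    show (((x : G) * (l : G))⁻¹ * l) • b = b ↔ _
    rw [mul_smul, inv_smul_eq_iff, mul_smul, eq_comm]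
  have hterm : ∀ q : Quotient (orbitRel (zpowers x') (L ⧸ K)),
      (φ ⟨q.out.out⁻¹ * x' ^ Function.minimalPeriod (x' • ·) q.out * q.out.out,
        QuotientGroup.out_conj_pow_minimalPeriod_mem K x' q.out⟩ : A) =
      if Function.minimalPeriod (x' • ·) q.out = 1 then f x else 1 := by
    intro q
    set p := Function.minimalPeriod (x' • ·) q.out with hp
    set l := q.out.out with hl
    have hlK : l⁻¹ * x' ^ p * l ∈ K := QuotientGroup.out_conj_pow_minimalPeriod_mem K x' q.out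
    have hl' : (l : G)⁻¹ * (x : G) ^ p * l ∈ L ⊓ stab2 a b :=
      mem_inf.2 ⟨(l⁻¹ * x' ^ p * l).2, mem_subgroupOf.1 hlK⟩
    rw [hφ _ hlK hl']
    change f ⟨(l : G)⁻¹ * (x : G) ^ p * l, hl'⟩ = _
    by_cases hp1 : p = 1
    · rw [if_pos hp1]
      have hfq : x' • (l : L ⧸ K) = (l : L ⧸ K) := by
        have h1 := Function.minimalPeriod_eq_one_iff_isFixedPt.1 hp1
        rw [hl, QuotientGroup.out_eq']
        exact h1
      obtain ⟨s, hs, hsb⟩ := hSfix l l.2 ((hfixiff l).1 hfq)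
      have hd : s⁻¹ * (l : G) ∈ L ⊓ stab2 a b := mem_inf.2 ⟨mul_mem (inv_mem (hSL hs)) l.2,
        mem_stab2.2 ⟨by
          rw [mul_smul, mem_stabilizer_iff.1 (hLa l.2), inv_smul_eq_iff]
          exact (mem_stabilizer_iff.1 (hLa (hSL hs))).symm,
          by rw [mul_smul, ← hsb, inv_smul_smul]⟩⟩
      have e : (⟨(l : G)⁻¹ * (x : G) ^ p * l, hl'⟩ : (L ⊓ stab2 a b : Subgroup G)) =
          (⟨s⁻¹ * l, hd⟩)⁻¹ * x * ⟨s⁻¹ * l, hd⟩ := by
        refine Subtype.ext ?_
        show (l : G)⁻¹ * (x : G) ^ p * l = (s⁻¹ * l)⁻¹ * x * (s⁻¹ * l)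
        calc (l : G)⁻¹ * (x : G) ^ p * l = (l : G)⁻¹ * (s * x * s⁻¹) * l := by
              rw [hp1, pow_one, (hSx s hs).eq, mul_inv_cancel_right]
          _ = _ := by group
      rw [e, map_mul, map_mul, map_inv, mul_comm (f _)⁻¹ _, mul_assoc, inv_mul_cancel, mul_one]
    · rw [if_neg hp1]
      have hpd : p ∣ r ^ (k + 1) := by
        refine Function.IsPeriodicPt.minimalPeriod_dvd ?_
        show (x' • ·)^[r ^ (k + 1)] q.out = q.out
        rw [smul_iterate]
        dsimp only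
        rw [show x' ^ r ^ (k + 1) = 1 from Subtype.ext (by
          show (x : G) ^ r ^ (k + 1) = 1
          rw [← hx, pow_orderOf_eq_one]), one_smul]
      obtain ⟨j, hj, hpj⟩ := (Nat.dvd_prime_pow hr'.out).1 hpd
      obtain ⟨j, rfl⟩ : ∃ i, j = i + 1 := ⟨j - 1, by
        rcases j with _ | j
        · exact absurd (hpj.trans (pow_zero r)) hp1
        · rfl⟩
      rcases Nat.lt_or_ge j k with hjk | hjk
      · obtain ⟨i, rfl⟩ : ∃ i, k = j + (i + 1) := ⟨k - j - 1, by omega⟩
        refine ih i (by omega) ⟨_, hl'⟩ ?_ fun hP => hone ?_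
        · show orderOf ((l : G)⁻¹ * (x : G) ^ p * l) = _
          rw [show (l : G)⁻¹ * (x : G) ^ p * l = (l : G)⁻¹ * (x : G) ^ p * (l : G)⁻¹⁻¹ by group,
            orderOf_conj, orderOf_pow' _ (hpj ▸ pow_ne_zero _ hr'.out.ne_zero), hx, hpj,
            Nat.gcd_eq_right (pow_dvd_pow r (by omega)),
            show j + (i + 1) + 1 = j + 1 + (i + 1) by omega, pow_add,
            Nat.mul_div_cancel_left _ (pow_pos hr'.out.pos _)]
        · have h1 := hP.one.conj (l : G)
          rw [mem_stabilizer_iff.1 (hLa l.2)] at h1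
          rwa [← _root_.conj_pow, show (l : G) * ((l : G)⁻¹ * (x : G) ^ p * l) * (l : G)⁻¹ =
            (x : G) ^ p by group, hpj, ← pow_mul, ← pow_add,
            show j + 1 + i = j + (i + 1) by omega] at h1
      · have hjk' : j + 1 = k + 1 := by omega
        rw [show (⟨(l : G)⁻¹ * (x : G) ^ p * l, hl'⟩ : (L ⊓ stab2 a b : Subgroup G)) = 1 from
          Subtype.ext (by
            show (l : G)⁻¹ * (x : G) ^ p * l = 1
            rw [hpj, hjk', ← hx, pow_orderOf_eq_one, mul_one, inv_mul_cancel]), map_one]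
  have hprod : f x ^ Nat.card {q : Quotient (orbitRel (zpowers x') (L ⧸ K)) //
      Function.minimalPeriod (x' • ·) q.out = 1} = 1 := by
    have h1 := congrArg (fun z : f.range => (z : A)) htriv
    simp only [Subgroup.val_finsetProd, hterm, OneMemClass.coe_one] at h1
    rw [Finset.prod_ite, Finset.prod_const, Finset.prod_const_one, mul_one] at h1
    rwa [Nat.card_eq_fintype_card, Fintype.card_subtype]
  -- the number of fixed points
  have hout : ∀ (q : L ⧸ K), x' • q = q → (Quotient.mk'' q :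
      Quotient (orbitRel (zpowers x') (L ⧸ K))).out = q := by
    intro q hq
    have h1 : (Quotient.mk'' q : Quotient (orbitRel (zpowers x') (L ⧸ K))).out ∈
        orbit (zpowers x') q := orbitRel_apply.1 (Quotient.exact' (Quotient.out_eq'
        (Quotient.mk'' q : Quotient (orbitRel (zpowers x') (L ⧸ K)))))
    obtain ⟨⟨g, hg⟩, hg'⟩ := h1
    rw [← hg']
    exact mem_stabilizer_iff.1 ((zpowers_le.2 (mem_stabilizer_iff.2 hq) :
      zpowers x' ≤ stabilizer L q) hg)
  have hsfix : ∀ s : S, x' • ((⟨s, hSL s.2⟩ : L) : L ⧸ K) = ((⟨s, hSL s.2⟩ : L) : L ⧸ K) :=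
    fun s => (hfixiff _).2 (by
      show (x : G) • (s : G) • b = (s : G) • b
      rw [smul_smul, ← (hSx s s.2).eq, mul_smul, (mem_stab2.1 hxab).2])
  have hcard : Nat.card {q : Quotient (orbitRel (zpowers x') (L ⧸ K)) //
      Function.minimalPeriod (x' • ·) q.out = 1} = Nat.card S := by
    symm
    refine Nat.card_eq_of_bijective (fun s : S => ⟨Quotient.mk'' ((⟨s, hSL s.2⟩ : L) : L ⧸ K),
      Function.minimalPeriod_eq_one_iff_isFixedPt.2 (by
        show x' • _ = _
        rw [hout _ (hsfix s)]; exact hsfix s)⟩) ⟨fun s s' e => ?_, fun q => ?_⟩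
    · have e1 := congrArg (fun q => q.1.out) e
      simp only [hout _ (hsfix s), hout _ (hsfix s')] at e1
      rw [QuotientGroup.eq, hmemK] at e1
      have e2 : ((s : G)⁻¹ * s') = 1 := hSb _ (mul_mem (inv_mem s.2) s'.2) e1
      exact Subtype.ext (inv_mul_eq_one.1 e2)
    · obtain ⟨q, hq⟩ := q
      have hq' : x' • q.out = q.out := Function.minimalPeriod_eq_one_iff_isFixedPt.1 hq
      obtain ⟨l, hl⟩ := QuotientGroup.mk_surjective q.out
      rw [← hl] at hq'
      obtain ⟨s, hs, hsb⟩ := hSfix l l.2 ((hfixiff l).1 hq')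
      refine ⟨⟨s, hs⟩, Subtype.ext ?_⟩
      show Quotient.mk'' ((⟨s, hSL hs⟩ : L) : L ⧸ K) = q
      conv_rhs => rw [← Quotient.out_eq' q]
      refine congrArg _ ?_
      rw [← hl, QuotientGroup.eq, hmemK]
      show (s⁻¹ * (l : G)) • b = b
      rw [mul_smul, ← hsb, inv_smul_smul]
  rw [hcard] at hprod
  have hr : orderOf (f x) ∣ r ^ (k + 1) := orderOf_dvd_of_pow_eq_one (by
    rw [← map_pow, show x ^ r ^ (k + 1) = 1 from Subtype.ext (by
      show (x : G) ^ r ^ (k + 1) = 1
      rw [← hx, pow_orderOf_eq_one]), map_one])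
  exact orderOf_eq_one_iff.1 (Nat.eq_one_of_dvd_coprimes
    ((hr'.out.coprime_iff_not_dvd.2 hSr).pow_left (k + 1)) hr (orderOf_dvd_of_pow_eq_one hprod))

/-- A nontrivial homomorphism has a pure witness. -/
theorem exists_pure_witness (hf : f ≠ 1) :
    ∃ (x : (L ⊓ stab2 a b : Subgroup G)) (r k : ℕ), r.Prime ∧ orderOf (x : G) = r ^ (k + 1) ∧
      f x ≠ 1 ∧ Pure ((x : G) ^ r ^ k) a b := by
  obtain ⟨y, hy⟩ : ∃ y, f y ≠ 1 := by
    by_contra hall
    push Not at hall
    exact hf (MonoidHom.ext hall)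
  obtain ⟨r, hr, hrd⟩ := Nat.exists_prime_and_dvd (mt orderOf_eq_one_iff.1 hy)
  haveI := Fact.mk hr
  obtain ⟨e, n', hn', hn⟩ := Nat.exists_eq_pow_mul_and_not_dvd
    (orderOf_pos y).ne' r hr.ne_one
  have hy' : f (y ^ n') ≠ 1 := fun h1 => hn' (hrd.trans (orderOf_dvd_of_pow_eq_one (by
    rwa [← map_pow])))
  have hn0 : n' ≠ 0 := fun h0 => hn' (h0 ▸ dvd_zero r)
  have ho : orderOf ((y ^ n' : (L ⊓ stab2 a b : Subgroup G)) : G) = r ^ e := by
    rw [orderOf_coe, orderOf_pow' _ hn0, hn, Nat.gcd_eq_right (dvd_mul_left n' _),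
      Nat.mul_div_cancel _ (Nat.pos_of_ne_zero hn0)]
  rcases e with _ | k
  · rw [pow_zero, orderOf_coe, orderOf_eq_one_iff] at ho
    exact absurd (by rw [ho, map_one]) hy'
  · refine ⟨y ^ n', r, k, hr, ho, hy', ?_⟩
    by_contra hnp
    exact hy' (map_eq_one_of_not_pure h hab hLa hLn hL2 f k _ ho hnp)

end

/-- A nontrivial `L ⊓ G_{a,b}` contains a pure element. -/
theorem exists_pure_mem (h : MinSplit H) {a b : G ⧸ H} (hab : a ≠ b) {L : Subgroup G}
    (hLa : L ≤ stabilizer G a) (hLn : stab2 a b ≤ normalizer (L : Set G)) (hL2 : twoGen L = L)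
    (hne : L ⊓ stab2 a b ≠ ⊥) : ∃ x ∈ L, Pure x a b := by
  set K := L ⊓ stab2 a b
  haveI : Group.IsSolvable K := CfsgLib.OddOrder.Final.oddSolvable K
    ((odd_stab2 h.min.se hab).of_dvd_nat (Subgroup.card_dvd_of_le inf_le_right))
  haveI : Nontrivial K := (Subgroup.nontrivial_iff_ne_bot K).2 hne
  have hc : commutator K ≠ ⊤ := (Group.IsSolvable.commutator_lt_top_of_nontrivial K).ne
  have hf : (Abelianization.of : K →* Abelianization K) ≠ 1 := fun e => hc (by
    rw [← Abelianization.ker_of, e, MonoidHom.ker_one])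
  obtain ⟨x, r, k, -, -, -, hp⟩ := exists_pure_witness h hab hLa hLn hL2 Abelianization.of hf
  exact ⟨_, pow_mem (mem_inf.1 x.2).1 _, hp⟩

end CfsgLib.LocalEven.BenderSplit
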