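import Cfsg.Agent.Lib.LocalEven.BenderSplit.FixedPoints

/-!
# Elements centralising one or several involutions at a point

For an element `x` fixing two points with centraliser of even order, `One x a` says that a single
involution at `a` commutes with `x`, `Two x a` that two commuting ones do.
-/

set_option autoImplicit false
set_option linter.style.haveILetI false

namespace CfsgLib.LocalEven.BenderSplit

open Subgroup MulAction CfsgLib.Involution.Dihedral CfsgLib.Involution
  CfsgLib.LocalEven.BenderTransitive CfsgLib.LocalEven.SwapInjective CfsgLib.LocalEven.StrongCore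

universe u

variable {G : Type u} [Group G] {H : Subgroup G}

/-- Exactly one involution at `a` commutes with `x`. -/
def One (x : G) (a : G ⧸ H) : Prop :=
  (∃ t : G, orderOf t = 2 ∧ t • a = a ∧ Commute t x) ∧
    ∀ s t : G, orderOf s = 2 → s • a = a → Commute s x → orderOf t = 2 → t • a = a →
      Commute t x → s = t

/-- Two commuting involutions at `a` commute with `x`. -/
def Two (x : G) (a : G ⧸ H) : Prop := PairAt (centralizer ({x} : Set G)) a

theorem Two.not_one {x : G} {a : G ⧸ H} (h : Two x a) : ¬ One x a := by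
  obtain ⟨v, w, hv, hva, hvC, hw, hwa, hwC, -, hne⟩ := h
  exact fun h1 => hne (h1.2 v w hv hva (mem_centralizer_singleton_iff.1 hvC) hw hwa
    (mem_centralizer_singleton_iff.1 hwC))

theorem One.of_commute {x : G} {a : G ⧸ H} (h : One x a) {g : G} (hg : Commute g x) :
    One x (g • a) := by
  obtain ⟨⟨t, ht, hta, htx⟩, huniq⟩ := h
  have hc : ∀ {s : G}, Commute s x → Commute (g * s * g⁻¹) x := fun hs =>
    ((hg.mul_left hs).mul_left hg.inv_left)
  have hback : ∀ {s : G}, Commute s x → Commute (g⁻¹ * s * g) x := fun hs =>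
    ((hg.inv_left.mul_left hs).mul_left hg)
  refine ⟨⟨g * t * g⁻¹, (orderOf_conj g t).trans ht,
    by rw [smul_smul, inv_mul_cancel_right, mul_smul, hta], hc htx⟩, fun s s' hs hsa hsx hs' hsa' hsx' => ?_⟩
  have key : ∀ {s : G}, orderOf s = 2 → s • g • a = g • a →
      orderOf (g⁻¹ * s * g) = 2 ∧ (g⁻¹ * s * g) • a = a := fun hs hsa =>
    ⟨by rw [← hs]; simpa using orderOf_conj g⁻¹ _, by rw [mul_smul, mul_smul, hsa, inv_smul_smul]⟩
  have e := huniq _ _ (key hs hsa).1 (key hs hsa).2 (hback hsx) (key hs' hsa').1 (key hs' hsa').2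
    (hback hsx')
  exact mul_left_cancel (mul_right_cancel e)

variable [Finite G]

/-- An `r`-subgroup normalising `Γ` and fixing `a` centralises, modulo `r`, as many involutions of `Γ`
at `a` as there are. -/
theorem card_centralized_in_modEq {r : ℕ} [Fact r.Prime] {Γ X : Subgroup G} (hX : IsPGroup r X)
    (hXΓ : X ≤ normalizer (Γ : Set G)) {a : G ⧸ H} (hXa : X ≤ stabilizer G a) :
    Nat.card {t : G // orderOf t = 2 ∧ t ∈ Γ ∧ t • a = a ∧ t ∈ centralizer (X : Set G)} ≡
      Nat.card {t : G // orderOf t = 2 ∧ t ∈ Γ ∧ t • a = a} [MOD r] := by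
  let S := {t : G // orderOf t = 2 ∧ t ∈ Γ ∧ t • a = a}
  letI : MulAction X S :=
    { smul := fun g t => ⟨(g : G) * t * (g : G)⁻¹, (orderOf_conj _ _).trans t.2.1,
        BenderTransitive.conj_mem_of_mem_normalizer (hXΓ g.2) t.2.2.1, by
        have hg : (g : G) • a = a := mem_stabilizer_iff.1 (hXa g.2)
        rw [mul_smul, mul_smul, inv_smul_eq_iff.2 hg.symm, t.2.2.2, hg]⟩
      one_smul := fun t => Subtype.ext (by
        show ((1 : X) : G) * (t : G) * ((1 : X) : G)⁻¹ = t
        simp)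
      mul_smul := fun g h t => Subtype.ext (by
        show ((g * h : X) : G) * (t : G) * ((g * h : X) : G)⁻¹ =
          (g : G) * ((h : G) * t * (h : G)⁻¹) * (g : G)⁻¹
        simp [mul_assoc]) }
  refine Nat.ModEq.trans ?_ (hX.card_modEq_card_fixedPoints S).symm
  refine congrArg (· % r) (Nat.card_congr
    { toFun := fun t => ⟨⟨t.1, t.2.1, t.2.2.1, t.2.2.2.1⟩, fun g => Subtype.ext (by
        show (g : G) * t.1 * (g : G)⁻¹ = t.1
        exact mul_inv_eq_iff_eq_mul.2 (mem_centralizer_iff.1 t.2.2.2.2 g g.2))⟩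
      invFun := fun t => ⟨t.1.1, t.1.2.1, t.1.2.2.1, t.1.2.2.2, mem_centralizer_iff.2 fun g hg => by
        have h : g * t.1.1 * g⁻¹ = t.1.1 := congrArg Subtype.val (t.2 ⟨g, hg⟩)
        exact mul_inv_eq_iff_eq_mul.1 h⟩
      left_inv := fun _ => rfl
      right_inv := fun _ => rfl })

omit [Finite G] in
theorem centralizer_zpowers_eq (x : G) :
    centralizer ((zpowers x : Subgroup G) : Set G) = centralizer ({x} : Set G) := by
  refine le_antisymm (fun g hg => mem_centralizer_singleton_iff.2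
    (mem_centralizer_iff.1 hg x (mem_zpowers x)).symm) fun g hg => mem_centralizer_iff.2 ?_
  rintro y ⟨k, rfl⟩
  exact ((show Commute g x from mem_centralizer_singleton_iff.1 hg).zpow_right k).eq.symm

omit [Finite G] in
theorem isPGroup_zpowers_of_orderOf {x : G} {r k : ℕ} [Fact r.Prime] (hx : orderOf x = r ^ k) :
    IsPGroup r (zpowers x) :=
  IsPGroup.of_card (by rw [Nat.card_zpowers, hx])

section Prime

variable (h : MinSplit H) {r : ℕ} [hr' : Fact r.Prime] {x : G} {a b : G ⧸ H} (hab : a ≠ b)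
  (hx : orderOf x = r) (hxab : x ∈ stab2 a b) (heven : Even (Nat.card (centralizer ({x} : Set G))))

include h hab hx hxab heven

/-- An element of prime order with centraliser of even order centralises an involution at each of
its fixed points. -/
theorem exists_centralized {c : G ⧸ H} (hxc : x • c = c) :
    ∃ t : G, orderOf t = 2 ∧ t • c = c ∧ Commute t x := by
  have hp : IsPGroup r (zpowers x) := isPGroup_zpowers_of_orderOf (k := 1) (by rw [hx, pow_one])
  by_cases hr : r ∣ mult H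
  · obtain ⟨⟨v, w, hv, hvc, hvC, -⟩, -⟩ := (fixedSpec h hr hp (fun e => hr'.out.ne_one (by
      rw [← hx, zpowers_eq_bot.1 e, orderOf_one])) hab (zpowers_le.2 hxab)).2
        (by rwa [centralizer_zpowers_eq]) c (zpowers_le.2 hxc)
    rw [centralizer_zpowers_eq] at hvC
    exact ⟨v, hv, hvc, mem_centralizer_singleton_iff.1 hvC⟩
  · have h1 := card_centralized_modEq h.min.se hp hxc
    have h2 : Nat.card {t : G // orderOf t = 2 ∧ t ∈ centralizer ({x} : Set G) ∧ t • c = c} ≠ 0 :=
      fun e => hr (Nat.modEq_zero_iff_dvd.1 (e ▸ h1).symm)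
    haveI := (Nat.card_pos_iff.1 (Nat.pos_of_ne_zero h2)).1
    obtain ⟨⟨t, ht, htC, htc⟩⟩ :=
      ‹Nonempty {t : G // orderOf t = 2 ∧ t ∈ centralizer ({x} : Set G) ∧ t • c = c}›
    exact ⟨t, ht, htc, mem_centralizer_singleton_iff.1 htC⟩

/-- The centraliser moves every fixed point. -/
theorem exists_move {c : G ⧸ H} (_hxc : x • c = c) :
    ∃ g ∈ centralizer ({x} : Set G), g • c ≠ c := by
  obtain ⟨d, hd, hdc⟩ : ∃ d, x • d = d ∧ d ≠ c := by
    by_cases e : a = c
    · exact ⟨b, (mem_stab2.1 hxab).2, e ▸ hab.symm⟩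
    · exact ⟨a, (mem_stab2.1 hxab).1, e⟩
  obtain ⟨t, ht, htd, htx⟩ := exists_centralized h hab hx hxab heven hd
  exact ⟨t, mem_centralizer_singleton_iff.2 htx, fun e => hdc (SE.fixed_unique h.min.se ht htd e)⟩

/-- The fixed points form one orbit of the centraliser. -/
theorem exists_orbit {c : G ⧸ H} (hxc : x • c = c) :
    ∃ g ∈ centralizer ({x} : Set G), g • a = c := by
  obtain ⟨t, ht, hta, htx⟩ := exists_centralized h hab hx hxab heven (mem_stab2.1 hxab).1
  obtain ⟨s, hs, hsc, hsx⟩ := exists_centralized h hab hx hxab heven hxc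
  obtain ⟨g, hg, hga⟩ := exists_move h hab hx hxab heven (mem_stab2.1 hxab).1
  exact fixed_mem_orbit h.min.se ht (mem_centralizer_singleton_iff.2 htx) hta hg hga hs
    (mem_centralizer_singleton_iff.2 hsx) hsc

theorem one_or_two : One x a ∨ Two x a := by
  obtain ⟨t, ht, hta, htx⟩ := exists_centralized h hab hx hxab heven (mem_stab2.1 hxab).1
  by_cases hu : ∀ s : G, orderOf s = 2 → s • a = a → Commute s x → s = t
  · exact Or.inl ⟨⟨t, ht, hta, htx⟩, fun p q hp hpa hpx hq hqa hqx =>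
      (hu p hp hpa hpx).trans (hu q hq hqa hqx).symm⟩
  push Not at hu
  obtain ⟨s, hs, hsa, hsx, hne⟩ := hu
  obtain ⟨g, hg, hga⟩ := exists_move h hab hx hxab heven (mem_stab2.1 hxab).1
  exact Or.inr (pairAt_of_two h.min.se h.min.rigid hs hsa (mem_centralizer_singleton_iff.2 hsx) ht
    hta (mem_centralizer_singleton_iff.2 htx) hne hg hga)

end Prime

omit [Finite G] in
theorem even_centralizer_of_commute {x t : G} (ht : orderOf t = 2) (hc : Commute t x) :
    Even (Nat.card (centralizer ({x} : Set G))) := by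
  rw [even_iff_two_dvd, ← ht]
  exact Subgroup.orderOf_dvd_natCard _ (mem_centralizer_singleton_iff.2 hc)

omit [Finite G] in
theorem One.even {x : G} {a : G ⧸ H} (h : One x a) :
    Even (Nat.card (centralizer ({x} : Set G))) :=
  let ⟨_, ht, _, htx⟩ := h.1
  even_centralizer_of_commute ht htx

omit [Finite G] in
theorem Two.even {x : G} {a : G ⧸ H} (h : Two x a) :
    Even (Nat.card (centralizer ({x} : Set G))) :=
  let ⟨_, _, hv, _, hvC, _⟩ := h
  even_centralizer_of_commute hv (mem_centralizer_singleton_iff.1 hvC)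

/-- A pure element: prime order, two fixed points, one centralised involution at each. -/
structure Pure (x : G) (a b : G ⧸ H) : Prop where
  prime : (orderOf x).Prime
  mem : x ∈ stab2 a b
  one : One x a

section Pure

variable (h : MinSplit H) {x : G} {a b : G ⧸ H} (hab : a ≠ b) (hx : Pure x a b)

include h hab hx

theorem Pure.one_at {c : G ⧸ H} (hxc : x • c = c) : One x c := by
  haveI := Fact.mk hx.prime
  obtain ⟨g, hg, rfl⟩ := exists_orbit h hab rfl hx.mem hx.one.even hxc
  exact hx.one.of_commute (mem_centralizer_singleton_iff.1 hg)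

theorem Pure.one_right : One x b := hx.one_at h hab (mem_stab2.1 hx.mem).2

theorem Pure.not_dvd : ¬ orderOf x ∣ mult H := by
  haveI := Fact.mk hx.prime
  intro hr
  have h2 := ((fixedSpec h hr (isPGroup_zpowers_of_orderOf (k := 1) (pow_one _).symm)
    (fun e => hx.prime.ne_one (by rw [zpowers_eq_bot.1 e, orderOf_one])) hab
    (zpowers_le.2 hx.mem)).2 (by rw [centralizer_zpowers_eq]; exact hx.one.even) a
      (zpowers_le.2 (mem_stab2.1 hx.mem).1)).1
  rw [centralizer_zpowers_eq] at h2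
  exact Two.not_one h2 hx.one

/-- A pure element centralises exactly one swap. -/
theorem Pure.exists_swap : ∃ u : G, orderOf u = 2 ∧ u • a = b ∧ Commute u x ∧
    ∀ v : G, orderOf v = 2 → v • a = b → Commute v x → v = u := by
  obtain ⟨t, ht, hta, htx⟩ := hx.one.1
  obtain ⟨⟨t', ht', htb, htx'⟩, huniq⟩ := hx.one_right h hab
  obtain ⟨u, huC, hu, hua, hut⟩ := exists_swap_mem h.min.se (N := centralizer ({x} : Set G)) hab ht
    hta ht' htb (mem_centralizer_singleton_iff.2 htx) (mem_centralizer_singleton_iff.2 htx')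
  have hux : Commute u x := mem_centralizer_singleton_iff.1 huC
  refine ⟨u, hu, hua, hux, fun v hv hva hvx => ?_⟩
  obtain ⟨i, -, hi⟩ := SE.existsUnique_swap h.min.se hab ht hta ht' htb
  refine (hi v ⟨⟨hv, hva⟩, huniq _ _ ((orderOf_conj v t).trans ht) ?_
    ((hvx.mul_left htx).mul_left hvx.inv_left) ht' htb htx'⟩).trans (hi u ⟨⟨hu, hua⟩, hut⟩).symm
  rw [← hva, smul_smul, inv_mul_cancel_right, mul_smul, hta]

/-- A pure element centralises no inverted element. -/
theorem Pure.eq_one_of_inverted {u : G} (hu : orderOf u = 2) (hua : u • a = b) (hux : Commute u x)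
    {k : G} (hk : k ∈ stab2 a b) (hinv : u * k * u⁻¹ = k⁻¹) (hkx : Commute k x) : k = 1 := by
  obtain ⟨u₀, -, -, -, huniq⟩ := hx.exists_swap h hab
  by_cases e : u * k = 1
  · exact absurd (hua.symm.trans (by
      rw [show u = k⁻¹ from eq_inv_of_mul_eq_one_left e]
      exact inv_smul_eq_iff.2 (mem_stab2.1 hk).1.symm)) (Ne.symm hab)
  have h2 : orderOf (u * k) = 2 := by
    refine orderOf_eq_two ?_ e
    calc u * k * (u * k) = u * k * u⁻¹ * k := by rw [inv_eq hu]; group
      _ = 1 := by rw [hinv, inv_mul_cancel]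
  have h1 := (huniq _ h2 (by rw [mul_smul, (mem_stab2.1 hk).1, hua]) (hux.mul_left hkx)).trans
    (huniq u hu hua hux).symm
  simpa using h1

end Pure

section Two

variable (h : MinSplit H) {r : ℕ} [hr' : Fact r.Prime] {c : G} {a b : G ⧸ H} (hab : a ≠ b)
  (hc : orderOf c = r) (hcab : c ∈ stab2 a b) (h2 : Two c a)

include h hab hc hcab h2

theorem exists_twoSplit : ∃ T, LocalSplit (centralizer ({c} : Set G)) a T := by
  obtain ⟨v, w, hv, hva, hvC, hw, -, hwC, hvw, hne⟩ := id h2
  obtain ⟨g, hg, hga⟩ := exists_move h hab hc hcab h2.even (mem_stab2.1 hcab).1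
  exact exists_localSplit h (Setting.centralizer_ne_top h.min (mem_stab2.1 hcab).1
    fun e => hr'.out.ne_one (by rw [← hc, e, orderOf_one])) hv hva hw hvw hne hvC hwC hg hga

/-- Common fixed points of `c` and `X ≤ C(c) ⊓ G_{a,b}` are translates of `b` by `C_T(X)`. -/
theorem exists_translation {T : Subgroup G} (hT : LocalSplit (centralizer ({c} : Set G)) a T)
    {X : Subgroup G} (hXc : X ≤ centralizer ({c} : Set G)) (hXab : X ≤ stab2 a b) {e : G ⧸ H}
    (hea : e ≠ a) (hce : c • e = e) (hXe : X ≤ stabilizer G e) :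
    ∃ τ ∈ T, τ ∈ centralizer (X : Set G) ∧ τ • b = e := by
  obtain ⟨γ, hγ, hγb⟩ := exists_orbit h hab hc hcab h2.even (mem_stab2.1 hcab).2
  obtain ⟨δ, hδ, hδe⟩ := exists_orbit h hab hc hcab h2.even hce
  obtain ⟨τ, hτ, hτe⟩ := hT.transitive γ hγ δ hδ (hγb ▸ hab.symm) (hδe ▸ hea)
  rw [hγb, hδe] at hτe
  refine ⟨τ, hτ, mem_centralizer_iff.2 fun x hx => ?_, hτe⟩
  obtain ⟨hxa, hxb⟩ := mem_stab2.1 (hXab hx)
  have hxT : x ∈ normalizer (T : Set G) := hT.normal ⟨hXc hx, hxa⟩
  have hmem : τ⁻¹ * (x * τ * x⁻¹) ∈ T :=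
    mul_mem (inv_mem hτ) (BenderTransitive.conj_mem_of_mem_normalizer hxT hτ)
  have h1 := eq_one_of_pgroup_fixed h.min.se hT.two hmem (a := a) (b := b) hab
    (mem_stabilizer_iff.1 (hT.le hmem).2) (by
      have hxe : x • e = e := hXe hx
      rw [mul_smul, mul_smul, mul_smul, inv_smul_eq_iff.2 hxb.symm, hτe, hxe, ← hτe, inv_smul_smul])
  exact mul_inv_eq_iff_eq_mul.1 (inv_mul_eq_one.1 h1).symm

/-- An `r`-subgroup of `C(c) ⊓ G_{a,b}` centralising an involution of `C(c)` at `a` centralises one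
at `b`. -/
theorem exists_centralized_right {p : ℕ} [hp' : Fact p.Prime] {X : Subgroup G}
    (hX : IsPGroup p X) (hXc : X ≤ centralizer ({c} : Set G)) (hXab : X ≤ stab2 a b) {t : G}
    (ht : orderOf t = 2) (hta : t • a = a) (htc : Commute t c)
    (htX : t ∈ centralizer (X : Set G)) :
    ∃ s : G, orderOf s = 2 ∧ s • b = b ∧ Commute s c ∧ s ∈ centralizer (X : Set G) := by
  classical
  set Γ := centralizer ({c} : Set G) with hΓ
  obtain ⟨T, hT⟩ := exists_twoSplit h hab hc hcab h2
  suffices key : ∀ k, ∀ X : Subgroup G, Nat.card G - Nat.card X = k → IsPGroup p X → X ≤ Γ →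
      X ≤ stab2 a b →
      ∀ w : G, orderOf w = 2 → w • a = a → w ∈ Γ → w ∈ centralizer (X : Set G) →
      ∃ g ∈ Γ ⊓ centralizer (X : Set G), g • a ≠ a by
    obtain ⟨g, hg, hga⟩ := key _ X rfl hX hXc hXab t ht
      hta (mem_centralizer_singleton_iff.2 htc) htX
    obtain ⟨hgc, hgX⟩ := mem_inf.1 hg
    have hXg : X ≤ stabilizer G (g • a) := fun x hx => by
      rw [mem_stabilizer_iff, smul_smul, mem_centralizer_iff.1 hgX x hx, mul_smul,
        (mem_stab2.1 (hXab hx)).1]
    have hcg : c • g • a = g • a := by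
      rw [smul_smul, ← (show Commute g c from mem_centralizer_singleton_iff.1 hgc).eq, mul_smul,
        (mem_stab2.1 hcab).1]
    obtain ⟨τ, hτ, hτX, hτb⟩ := exists_translation h hab hc hcab h2 hT hXc hXab hga hcg hXg
    have hτc : τ ∈ Γ := (mem_inf.1 (hT.le hτ)).1
    set q := τ⁻¹ * g with hq
    refine ⟨q * t * q⁻¹, (orderOf_conj q t).trans ht, ?_, ?_, ?_⟩
    · have e : q • a = b := by rw [hq, mul_smul, inv_smul_eq_iff, hτb]
      rw [← e, smul_smul, inv_mul_cancel_right, mul_smul, hta]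
    · have hqc : q ∈ Γ := mul_mem (inv_mem hτc) hgc
      exact mem_centralizer_singleton_iff.1
        (mul_mem (mul_mem hqc (mem_centralizer_singleton_iff.2 htc)) (inv_mem hqc))
    · have hqX : q ∈ centralizer (X : Set G) := mul_mem (inv_mem hτX) hgX
      exact mul_mem (mul_mem hqX htX) (inv_mem hqX)
  intro k
  induction k using Nat.strong_induction_on with
  | h k ih =>
  intro X hk hX hXc hXab w hw hwa hwc hwX
  by_contra hfix
  push Not at hfix
  obtain ⟨hXa, hXb⟩ := le_inf_iff.1 hXab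
  set N := Γ ⊓ normalizer (X : Set G) with hN
  -- the normaliser fixes `a`
  have hNfix : ∀ n ∈ N, n • a = a := by
    intro n hn
    obtain ⟨hnc, hnX⟩ := mem_inf.1 hn
    have h1 : n * w * n⁻¹ ∈ Γ ⊓ centralizer (X : Set G) :=
      mem_inf.2 ⟨mul_mem (mul_mem hnc hwc) (inv_mem hnc), conj_mem_centralizer_of_normalizer hnX hwX⟩
    refine SE.fixed_unique h.min.se ((orderOf_conj n w).trans hw) ?_ (hfix _ h1)
    rw [smul_smul, inv_mul_cancel_right, mul_smul, hwa]
  -- a bigger subgroup fixing `b` and `w • b`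
  have hwb : w • b ≠ b := fun e => hab (SE.fixed_unique h.min.se hw hwa e)
  have hXwb : X ≤ stabilizer G (w • b) := fun x hx => by
    rw [mem_stabilizer_iff, smul_smul, mem_centralizer_iff.1 hwX x hx, mul_smul,
      mem_stabilizer_iff.1 (hXb hx)]
  obtain ⟨g, hg, hgb⟩ := exists_orbit h hab hc hcab h2.even (mem_stab2.1 hcab).2
  have hdvd : p ∣ Nat.card {t : G // orderOf t = 2 ∧ t ∈ Γ ∧ t • b = b} := by
    refine Nat.modEq_zero_iff_dvd.1 ((card_centralized_in_modEq hX
      (hXc.trans le_normalizer) hXb).symm.trans ?_)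
    haveI : IsEmpty {t : G // orderOf t = 2 ∧ t ∈ Γ ∧ t • b = b ∧ t ∈ centralizer (X : Set G)} :=
      ⟨fun s => hab (SE.fixed_unique h.min.se s.2.1
        (hfix _ (mem_inf.2 ⟨s.2.2.1, s.2.2.2.2⟩)) s.2.2.2.1)⟩
    rw [Nat.card_of_isEmpty]
  obtain ⟨v₁, w₁, hv₁, hv₁b, hv₁C, hw₁, -, hw₁C, hvw₁, hne₁⟩ :=
    (hgb ▸ PairAt.conj h2 (le_normalizer hg) : PairAt Γ b)
  set M := Γ ⊓ stab2 b (w • b) with hM
  have hXM : X ≤ M := le_inf hXc (le_inf hXb hXwb)
  obtain ⟨S, hS⟩ := (hX.of_equiv (subgroupOfEquivOfLe hXM).symm).exists_le_sylow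
  set P := (S : Subgroup M).map M.subtype with hP
  have hXP : X ≤ P := fun x hx => ⟨⟨x, hXM hx⟩, hS (mem_subgroupOf.2 hx), rfl⟩
  have hlt : X < P := by
    refine lt_of_le_of_ne hXP fun e => ?_
    have hcard : Nat.card X = p ^ (Nat.card M).factorization p := by
      rw [e, hP, Coprime.card_map_subtype, Sylow.card_eq_multiplicity]
    rcases orbit_fixed_pair h.min.se h.min.rigid hv₁ hv₁C hv₁b hw₁ hw₁C hvw₁ hne₁ hdvd hwc hwb
      hXM hcard (x := g⁻¹) (inv_mem hg) (by rw [← hgb, inv_smul_smul]; exact hXa) with e | e <;>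
      rw [← hgb, inv_smul_smul] at e
    · exact hab (e.trans hgb)
    · exact hab.symm ((smul_left_cancel w (by rw [← hgb, hwa, ← e])).symm)
  obtain ⟨y, hyP, hyN, hyX⟩ := exists_normalizer_not_mem (S.isPGroup'.map _) hlt
  have hyM : y ∈ M := map_subtype_le _ hyP
  set R := X ⊔ zpowers y with hR
  have hXR : X < R := lt_of_le_of_ne le_sup_left fun e => hyX (e ▸ mem_sup_right (mem_zpowers y))
  have hRP : R ≤ P := sup_le hXP (zpowers_le.2 hyP)
  have hRp : IsPGroup p R := (S.isPGroup'.map _).to_le hRP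
  have hRc : R ≤ Γ := hRP.trans ((map_subtype_le _).trans inf_le_left)
  have hRab : R ≤ stab2 a b := sup_le hXab (zpowers_le.2 (mem_stab2.2
    ⟨hNfix y ⟨hyM.1, hyN⟩, (mem_stab2.1 hyM.2).1⟩))
  have hRwb : R ≤ stabilizer G (w • b) := hRP.trans ((map_subtype_le _).trans
    (inf_le_right.trans inf_le_right))
  have hwba : w • b ≠ a := fun e => hab.symm (smul_left_cancel w (e.trans hwa.symm))
  obtain ⟨τ, hτ, hτR, hτb⟩ := exists_translation h hab hc hcab h2 hT hRc hRab hwba (by
    rw [smul_smul, mem_centralizer_singleton_iff.1 hwc |>.symm, mul_smul, (mem_stab2.1 hcab).2]) hRwb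
  -- an involution of `T` centralising `R`
  obtain ⟨i, hi⟩ : ∃ i : ℕ, orderOf τ = 2 ^ (i + 1) := by
    obtain ⟨j, hj⟩ := IsPGroup.iff_orderOf.1 hT.two ⟨τ, hτ⟩
    rw [Subgroup.orderOf_mk] at hj
    rcases j with _ | j
    · exact absurd (by rw [← hτb, orderOf_eq_one_iff.1 (hj.trans (pow_zero 2)), one_smul]) hwb
    · exact ⟨j, hj⟩
  set z := τ ^ 2 ^ i
  have hz : orderOf z = 2 := by
    rw [orderOf_pow' _ (pow_ne_zero _ two_ne_zero), hi, Nat.gcd_eq_right (pow_dvd_pow 2 i.le_succ),
      pow_succ, Nat.mul_div_cancel_left _ (pow_pos two_pos i)]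
  have hzT : z ∈ T := pow_mem hτ _
  have hcard : Nat.card X < Nat.card R := by
    refine lt_of_le_of_ne (Subgroup.card_le_of_le hXR.le) fun e => hXR.ne ?_
    exact Subgroup.eq_of_le_of_card_ge hXR.le e.ge
  have hzR : z ∈ centralizer (R : Set G) := pow_mem hτR _
  obtain ⟨g', hg', hg'a⟩ := ih _ (by have := R.card_le_card_group; omega) R rfl hRp hRc hRab
    z hz (mem_stabilizer_iff.1 (mem_inf.1 (hT.le hzT)).2) (mem_inf.1 (hT.le hzT)).1 hzR
  exact hg'a (hfix g' (mem_inf.2 ⟨(mem_inf.1 hg').1, centralizer_le_of_le hXR.le (mem_inf.1 hg').2⟩))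

/-- An `r`-subgroup of `C(c) ⊓ G_{a,b}` centralising the involutions of `C(c)` at `a` centralises
those at `b`. -/
theorem centralizes_right {p : ℕ} [hp' : Fact p.Prime] {X : Subgroup G}
    (hX : IsPGroup p X) (hXc : X ≤ centralizer ({c} : Set G)) (hXab : X ≤ stab2 a b)
    (hall : ∀ t : G, orderOf t = 2 → t • a = a → Commute t c → t ∈ centralizer (X : Set G))
    {s : G} (hs : orderOf s = 2) (hsb : s • b = b) (hsc : Commute s c) :
    s ∈ centralizer (X : Set G) := by
  obtain ⟨v, -, hv, hva, hvC, -⟩ := id h2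
  have hvX := hall v hv hva (mem_centralizer_singleton_iff.1 hvC)
  obtain ⟨s₀, hs₀, hs₀b, hs₀c, hs₀X⟩ := exists_centralized_right h hab hc hcab h2 hX hXc hXab
    hv hva (mem_centralizer_singleton_iff.1 hvC) hvX
  obtain ⟨i, hiN, hi, hia, -⟩ := exists_swap_mem h.min.se
    (N := centralizer ({c} : Set G) ⊓ centralizer (X : Set G)) hab hv hva hs₀ hs₀b ⟨hvC, hvX⟩
    ⟨mem_centralizer_singleton_iff.2 hs₀c, hs₀X⟩
  obtain ⟨hiC, hiX⟩ := mem_inf.1 hiN
  have hic : Commute i c := mem_centralizer_singleton_iff.1 hiC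
  have h1 : i * s * i⁻¹ ∈ centralizer (X : Set G) := hall _ ((orderOf_conj i s).trans hs)
    (by rw [← swap_smul hi hia, smul_smul, inv_mul_cancel_right, mul_smul, hsb])
    ((hic.mul_left hsc).mul_left hic.inv_left)
  have h3 := mul_mem (mul_mem (inv_mem hiX) h1) hiX
  rwa [show i⁻¹ * (i * s * i⁻¹) * i = s by group] at h3

end Two

end CfsgLib.LocalEven.BenderSplit
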