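import Cfsg.Agent.Lib.LocalEven.BenderSplit.Local

/-!
# Two involutions of a subgroup at a point

If a subgroup moving `a` has two involutions fixing `a`, it has two commuting ones there.
-/

set_option autoImplicit false
set_option linter.style.haveILetI false

namespace CfsgLib.LocalEven.BenderSplit

open Subgroup MulAction CfsgLib.Involution.Dihedral CfsgLib.Involution
  CfsgLib.LocalEven.BenderTransitive CfsgLib.LocalEven.SwapInjective CfsgLib.LocalEven.StrongCore
open scoped commutatorElement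

universe u

variable {G : Type u} [Group G] {H : Subgroup G}

/-- Two distinct commuting involutions of `Γ` fix `a`. -/
def PairAt (Γ : Subgroup G) (a : G ⧸ H) : Prop :=
  ∃ v w : G, orderOf v = 2 ∧ v • a = a ∧ v ∈ Γ ∧ orderOf w = 2 ∧ w • a = a ∧ w ∈ Γ ∧
    Commute v w ∧ v ≠ w

theorem PairAt.conj {Γ : Subgroup G} {a : G ⧸ H} (h : PairAt Γ a) {g : G}
    (hg : g ∈ normalizer (Γ : Set G)) : PairAt Γ (g • a) := by
  obtain ⟨v, w, hv, hva, hvΓ, hw, hwa, hwΓ, hvw, hne⟩ := h
  refine ⟨g * v * g⁻¹, g * w * g⁻¹, (orderOf_conj g v).trans hv, ?_,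
    BenderTransitive.conj_mem_of_mem_normalizer hg hvΓ, (orderOf_conj g w).trans hw, ?_,
    BenderTransitive.conj_mem_of_mem_normalizer hg hwΓ, hvw.map (MulAut.conj g).toMonoidHom,
    fun e => hne (mul_left_cancel (mul_right_cancel e))⟩
  · rw [smul_smul, inv_mul_cancel_right, mul_smul, hva]
  · rw [smul_smul, inv_mul_cancel_right, mul_smul, hwa]

theorem PairAt.mono {Γ Δ : Subgroup G} {a : G ⧸ H} (h : PairAt Γ a) (hle : Γ ≤ Δ) :
    PairAt Δ a := by
  obtain ⟨v, w, hv, hva, hvΓ, hw, hwa, hwΓ, hvw, hne⟩ := h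
  exact ⟨v, w, hv, hva, hle hvΓ, hw, hwa, hle hwΓ, hvw, hne⟩

variable [Finite G]

/-- A subgroup moving `a` with two involutions fixing `a` has a commuting pair there. -/
theorem pairAt_of_two (hH : Cfsg.IsStronglyEmbedded H) (hR : Rigid H) {Γ : Subgroup G}
    {a : G ⧸ H} {t t' : G} (ht : orderOf t = 2) (hta : t • a = a) (htΓ : t ∈ Γ)
    (ht' : orderOf t' = 2) (hta' : t' • a = a) (htΓ' : t' ∈ Γ) (hne : t ≠ t') {g : G} (hg : g ∈ Γ)
    (hga : g • a ≠ a) : PairAt Γ a := by
  classical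
  by_contra hno
  have honly : ∀ w ∈ Γ, orderOf w = 2 → Commute t w → w = t := fun w hwΓ hw hc =>
    by_contra fun h => hno ⟨t, w, ht, hta, htΓ, hw, SE.commute_fixes hH ht hta hc.symm, hwΓ, hc,
      Ne.symm h⟩
  have hiso : Cfsg.IsIsolatedInvolution (⟨t, htΓ⟩ : Γ) := by
    refine ⟨(orderOf_mk t htΓ).trans ht, fun γ hγ => Subtype.ext ?_⟩
    refine honly _ (γ * ⟨t, htΓ⟩ * γ⁻¹ : Γ).2 ((orderOf_conj (γ : G) t).trans ht) ?_
    have h := hγ.map Γ.subtype
    exact h
  set O := (Cfsg.oddCore Γ).map Γ.subtype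
  have hOodd : Odd (Nat.card O) := Min.odd_oddCore_map Γ
  have hON : Γ ≤ normalizer (O : Set G) := Min.normalizer_oddCore_map Γ
  have hOΓ : O ≤ Γ := map_subtype_le _
  -- the two involutions differ by an element of the odd core
  obtain ⟨o, hoO, hoa, ho⟩ : ∃ o ∈ O, o • a = a ∧ o * t * o⁻¹ = t' := by
    obtain ⟨γ, hγ⟩ := isConj_iff.1 (SE.all_conj (orbit_se hH ht htΓ hta hg hga)
      (a := ⟨t, htΓ⟩) (b := ⟨t', htΓ'⟩) ((orderOf_mk t htΓ).trans ht)
      ((orderOf_mk t' htΓ').trans ht'))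
    obtain ⟨o, ho, e, he, hoe⟩ := ZStar.exists_oddCore_mul_centralizer (ZStar.starCentral Γ) hiso γ
    have het : Commute (e : G) t :=
      congrArg Subtype.val (mem_centralizer_singleton_iff.1 he)
    have hot : (o : G) * t * (o : G)⁻¹ = t' := by
      have h1 : (γ : G) * t * (γ : G)⁻¹ = t' := congrArg Subtype.val hγ
      rw [← h1, show (γ : G) = (o : G) * (e : G) from congrArg Subtype.val hoe, mul_inv_rev,
        show (o : G) * e * t * ((e : G)⁻¹ * (o : G)⁻¹) = o * (e * t * (e : G)⁻¹) * (o : G)⁻¹ by group,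
        het.eq, mul_inv_cancel_right]
    refine ⟨o, ⟨o, ho, rfl⟩, (SE.fixed_unique hH ht' hta' ?_).symm, hot⟩
    rw [← hot, smul_smul, inv_mul_cancel_right, mul_smul, hta]
  have hyO : t * t' ∈ O := by
    rw [← ho, show t * (o * t * o⁻¹) = t * o * t⁻¹ * o⁻¹ by rw [inv_eq ht]; group]
    exact mul_mem (BenderTransitive.conj_mem_of_mem_normalizer (hON htΓ) hoO) (inv_mem hoO)
  -- the derived series of the core
  obtain ⟨K, hK0, hKs⟩ : ∃ K : ℕ → Subgroup G, K 0 = O ∧ ∀ n, K (n + 1) = ⁅K n, K n⁆ :=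
    ⟨fun n => Nat.rec O (fun _ B => (⁅B, B⁆ : Subgroup G)) n, rfl, fun _ => rfl⟩
  have hKO : ∀ n, K n ≤ O := by
    intro n; induction n with
    | zero => exact hK0.le
    | succ n ih =>
      rw [hKs]
      exact (Subgroup.commutator_mono ih ih).trans O.commutator_le_self
  have hKN : ∀ n, Γ ≤ normalizer (K n : Set G) := by
    intro n; induction n with
    | zero => rw [hK0]; exact hON
    | succ n ih =>
      intro γ hγ
      rw [hKs]
      refine mem_normalizer_iff_map_conj_eq.2 ?_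
      rw [Subgroup.map_commutator, mem_normalizer_iff_map_conj_eq.1 (ih hγ)]
  have hbot : ∃ n, K n ≤ stabilizer G a := by
    obtain ⟨n, hn⟩ := (Group.isSolvable_def O).1 (CfsgLib.OddOrder.Final.oddSolvable O hOodd)
    refine ⟨n, le_trans (le_of_eq ?_) bot_le⟩
    have : ∀ m, K m = (derivedSeries O m).map O.subtype := by
      intro m; induction m with
      | zero => rw [derivedSeries_zero, ← MonoidHom.range_eq_map, range_subtype, hK0]
      | succ m ih => rw [derivedSeries_succ, Subgroup.map_commutator, ← ih, hKs]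
    rw [this, hn, Subgroup.map_bot]
  obtain ⟨n, hn, hn'⟩ : ∃ n, ¬ K n ≤ stabilizer G a ∧ K (n + 1) ≤ stabilizer G a := by
    have h0 : ¬ K 0 ≤ stabilizer G a := by
      intro h
      rw [hK0] at h
      obtain ⟨o', ho', e, he, hge⟩ :=
        ZStar.exists_oddCore_mul_centralizer (ZStar.starCentral Γ) hiso ⟨g, hg⟩
      have het : Commute (e : G) t :=
        congrArg Subtype.val (mem_centralizer_singleton_iff.1 he)
      refine hga ?_
      rw [show g = (o' : G) * (e : G) from congrArg Subtype.val hge, mul_smul,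
        SE.commute_fixes hH ht hta het]
      exact mem_stabilizer_iff.1 (h ⟨o', ho', rfl⟩)
    by_contra hcon
    push Not at hcon
    obtain ⟨n, hn⟩ := hbot
    exact (Nat.rec (motive := fun n => ¬ K n ≤ stabilizer G a) h0 (fun m hm => hcon m hm) n) hn
  obtain ⟨b, hb, hba⟩ := SetLike.not_le_iff_exists.1 hn
  rw [mem_stabilizer_iff] at hba
  -- an involution fixing `a` inverts the orbit of `K n`
  have hinv : ∀ s : G, orderOf s = 2 → s • a = a → s ∈ Γ → ∀ h ∈ K n, s • h • a = h⁻¹ • a := by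
    intro s hs hsa hsΓ h hh
    set h₁ := s * h * s⁻¹ with h₁def
    have hh₁ : h₁ ∈ K n := BenderTransitive.conj_mem_of_mem_normalizer (hKN n hsΓ) hh
    obtain ⟨m, hm, hmc⟩ := Coprime.exists_mul_mem_centralizer (A := zpowers s) (N := K (n + 1))
      (zpowers_le.2 (hKN (n + 1) hsΓ))
      (coprime_zpowers hs (hOodd.of_dvd_nat (Subgroup.card_dvd_of_le (hKO (n + 1)))))
      (.inl (Coprime.isSolvable_zpowers s)) (k := h * h₁) (by
        intro x hx
        obtain ⟨j, rfl⟩ := mem_zpowers_iff.1 hx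
        have hbase : ⁅s, h * h₁⁆ ∈ K (n + 1) := by
          rw [show ⁅s, h * h₁⁆ = ⁅h₁, h⁆ by
            rw [commutatorElement_def, commutatorElement_def, h₁def, inv_eq hs]
            simp only [mul_inv_rev, inv_eq hs, mul_assoc]
            rw [← mul_assoc s s, mul_self hs, one_mul]]
          exact hKs n ▸ commutator_mem_commutator hh₁ hh
        rcases Int.even_or_odd j with ⟨i, rfl⟩ | ⟨i, rfl⟩
        · rw [← two_mul, zpow_mul, show s ^ (2 : ℤ) = 1 by rw [zpow_two, mul_self hs], one_zpow,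
            commutatorElement_one_left]
          exact one_mem _
        · rw [zpow_add_one, zpow_mul, show s ^ (2 : ℤ) = 1 by
            rw [zpow_two, mul_self hs], one_zpow, one_mul]
          exact hbase)
    have h1 := SE.commute_fixes hH hs hsa (centralizer_zpowers_mem hmc)
    have hΓ' : h * h₁ ∈ Γ := mul_mem (hOΓ (hKO n hh)) (hOΓ (hKO n hh₁))
    have h2 := fix_orbit (hKN (n + 1)) hn' hΓ' hm
    rw [mul_smul] at h1
    rw [h2, mul_smul] at h1
    rw [eq_inv_smul_iff]
    conv_lhs => rw [show s • h • a = h₁ • a by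
      rw [h₁def, inv_eq hs, mul_smul, hsa, mul_smul]]
    exact h1
  have hyb : (t * t') • b • a = b • a := by
    rw [mul_smul, hinv t' ht' hta' htΓ' b hb, hinv t ht hta htΓ b⁻¹ (inv_mem hb), inv_inv]
  have hy : t * t' = 1 := hR t (t * t') a (b • a) ht hta
    (by rw [← mul_assoc, mul_self ht, one_mul, mul_inv_rev, inv_eq ht', inv_eq ht])
    (by rw [mul_smul, hta', hta]) hyb hba
  exact hne ((mul_eq_one_iff_eq_inv.1 hy).trans (inv_eq ht'))

end CfsgLib.LocalEven.BenderSplit
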